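import Cfsg.Agent.Lib.Helper79.Orthogonality

set_option autoImplicit false
set_option linter.unusedSectionVars false
set_option linter.style.haveILetI false

namespace Cfsg.Agent.Helper79

open Module
open scoped ComplexConjugate

universe u v

section Integrality

variable {G : Type v} [Group G] [Fintype G] {V : Type u} [AddCommGroup V] [Module ℂ V]
  [FiniteDimensional ℂ V]


theorem adjoin_fg (ρ : Representation ℂ G V) :
    (Algebra.adjoin (integralClosure ℤ ℂ) (Set.range ρ)).toSubmodule.FG := by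
  rw [Algebra.adjoin_eq_span]
  have : (Submonoid.closure (Set.range ρ) : Set (Module.End ℂ V)) = Set.range ρ := by
    rw [← MonoidHom.coe_mrange, Submonoid.closure_eq]
  rw [this]
  exact Submodule.fg_span (Set.finite_range ρ)

/-- a weighted sum with algebraic integer weights is integral over the algebraic integers -/
theorem isIntegral_wsum (ρ : Representation ℂ G V) (a : G → ℂ) (ha : ∀ g, IsIntegral ℤ (a g)) :
    IsIntegral (integralClosure ℤ ℂ) (wsum a ρ) := by
  apply IsIntegral.of_mem_of_fg _ (adjoin_fg ρ)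
  unfold wsum
  apply Subalgebra.sum_mem
  intro g _
  have h1 : a g • ρ g = (⟨a g, ha g⟩ : integralClosure ℤ ℂ) • ρ g := rfl
  rw [h1]
  apply Subalgebra.smul_mem
  exact Algebra.subset_adjoin ⟨g, rfl⟩

theorem isIntegral_of_smul_one [Nontrivial V] (c : ℂ)
    (h : IsIntegral (integralClosure ℤ ℂ) (c • (1 : Module.End ℂ V))) : IsIntegral ℤ c := by
  have h1 : c • (1 : Module.End ℂ V) = algebraMap ℂ (Module.End ℂ V) c := by
    rw [Algebra.algebraMap_eq_smul_one]
  rw [h1] at h
  have hinj : Function.Injective (algebraMap ℂ (Module.End ℂ V)) :=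
    FaithfulSMul.algebraMap_injective ℂ (Module.End ℂ V)
  have h2 : IsIntegral (integralClosure ℤ ℂ) c := (isIntegral_algebraMap_iff hinj).1 h
  exact isIntegral_trans c h2

/-- a complex number `c` with `c * n = m` (naturals, `n ≠ 0`) that is an algebraic integer
gives `n ∣ m` -/
theorem dvd_of_isIntegral_of_mul_eq (c : ℂ) (n m : ℕ) (hn : n ≠ 0) (hc : c * (n : ℂ) = (m : ℂ))
    (hint : IsIntegral ℤ c) : n ∣ m := by
  have hn' : (n : ℂ) ≠ 0 := by exact_mod_cast hn
  have h1 : c = (((m : ℚ) / (n : ℚ) : ℚ) : ℂ) := by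
    push_cast
    rw [eq_div_iff hn']
    exact hc
  rw [h1] at hint
  have h2 : IsIntegral ℤ ((m : ℚ) / (n : ℚ) : ℚ) :=
    (isIntegral_algebraMap_iff (algebraMap ℚ ℂ).injective).1 hint
  obtain ⟨z, hz⟩ := IsIntegrallyClosed.isIntegral_iff.1 h2
  have h3 : ((z : ℤ) : ℚ) * (n : ℚ) = (m : ℚ) := by
    have : (algebraMap ℤ ℚ) z = (z : ℚ) := rfl
    rw [this] at hz
    rw [hz]
    have hn'' : (n : ℚ) ≠ 0 := by exact_mod_cast hn
    field_simp
  have h4 : z * (n : ℤ) = (m : ℤ) := by exact_mod_cast h3
  have h5 : (n : ℤ) ∣ (m : ℤ) := ⟨z, by rw [← h4]; ring⟩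
  exact_mod_cast h5

/-- the degree of an irreducible representation divides the group order -/
theorem finrank_dvd_card (ρ : Representation ℂ G V) [ρ.IsIrreducible] :
    finrank ℂ V ∣ Nat.card G := by
  haveI : Finite G := Finite.of_fintype G
  have hnt := nontrivial_of_irreducible ρ
  let a : G → ℂ := fun g => ρ.character g⁻¹
  have ha : ∀ g h : G, a (h * g * h⁻¹) = a g := by
    intro g h
    simp only [a]
    rw [show (h * g * h⁻¹)⁻¹ = h * g⁻¹ * h⁻¹ by group, Representation.char_conj]
  obtain ⟨c, hc1, hc2⟩ := schur_scalar ρ (wsum a ρ) (wsum_comm a ha ρ)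
  have hint : IsIntegral ℤ c := by
    apply isIntegral_of_smul_one (V := V)
    rw [← hc1]
    exact isIntegral_wsum ρ a (fun g => isIntegral_char ρ g⁻¹)
  rw [trace_wsum] at hc2
  have : Invertible (Nat.card G : ℂ) := invertibleOfNonzero card_ne_zero_complex
  have horth := Representation.char_orthonormal ρ ρ
  rw [if_pos ⟨Representation.Equiv.refl ρ⟩] at horth
  have hsum : ∑ g : G, a g * ρ.character g = (Nat.card G : ℂ) := by
    have h1 : ∑ g : G, a g * ρ.character g = ∑ g : G, ρ.character g * ρ.character g⁻¹ := by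
      apply Finset.sum_congr rfl
      intro g _
      simp only [a]; ring
    rw [h1]
    have := congrArg (fun z => (Nat.card G : ℂ) * z) horth
    simp only [mul_one] at this
    rw [← this, ← mul_assoc, mul_inv_cancel₀ card_ne_zero_complex, one_mul]
  rw [hsum] at hc2
  exact dvd_of_isIntegral_of_mul_eq c _ _ (Module.finrank_pos).ne' hc2 hint

end Integrality

section Irr

variable {G : Type v} [Group G] [Finite G]


theorem irr_degree_dvd_card (χ : IrrCharacter G) : charDegree (χ : G → ℂ) ∣ Nat.card G := by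
  haveI := Fintype.ofFinite G
  have h1 := (irr_one_eq χ).1
  obtain ⟨n, ρ, hρ, hχ⟩ := χ.2
  have h2 : ((charDegree (χ : G → ℂ) : ℕ) : ℂ) = (finrank ℂ (Fin n → ℂ) : ℂ) := by
    rw [← h1, ← hχ, Representation.char_one]
  have h3 : charDegree (χ : G → ℂ) = finrank ℂ (Fin n → ℂ) := by exact_mod_cast h2
  rw [h3]
  exact finrank_dvd_card ρ

end Irr

end Cfsg.Agent.Helper79
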