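import Cfsg.Agent.Lib.Helper79.Integrality

set_option autoImplicit false
set_option linter.unusedSectionVars false
set_option linter.style.haveILetI false
set_option linter.deprecated false

namespace Cfsg.Agent.Helper79

open Module
open scoped ComplexConjugate

universe u v w

section CompSurj

variable {G : Type v} {H : Type w} [Group G] [Group H] {V : Type u} [AddCommGroup V] [Module ℂ V]


/-- subrepresentations of `σ ∘ f` and of `σ` agree when `f` is surjective -/
def subrepCompEquiv (f : G →* H) (hf : Function.Surjective f) (σ : Representation ℂ H V) :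
    Subrepresentation (σ.comp f) ≃o Subrepresentation σ where
  toFun W :=
    { toSubmodule := W.toSubmodule
      apply_mem_toSubmodule := by
        intro h v hv
        obtain ⟨g, rfl⟩ := hf h
        exact W.apply_mem_toSubmodule g hv }
  invFun W :=
    { toSubmodule := W.toSubmodule
      apply_mem_toSubmodule := by
        intro g v hv
        exact W.apply_mem_toSubmodule (f g) hv }
  left_inv W := rfl
  right_inv W := rfl
  map_rel_iff' := Iff.rfl

theorem isIrreducible_comp_iff (f : G →* H) (hf : Function.Surjective f)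
    (σ : Representation ℂ H V) :
    Representation.IsIrreducible (σ.comp f) ↔ Representation.IsIrreducible σ :=
  OrderIso.isSimpleOrder_iff (subrepCompEquiv f hf σ)

theorem character_comp [FiniteDimensional ℂ V] (f : G →* H) (σ : Representation ℂ H V) (g : G) :
    Representation.character (σ.comp f) g = σ.character (f g) := rfl

end CompSurj

section Kernel

variable {G : Type v} [Group G] [Finite G]


/-- a representation affording `χ` together with the kernel characterisation -/
theorem irr_exists_rep (χ : IrrCharacter G) :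
    ∃ (n : ℕ) (ρ : Representation ℂ G (Fin n → ℂ)), ρ.IsIrreducible ∧ ρ.character = χ ∧
      ∀ g : G, (χ : G → ℂ) g = (χ : G → ℂ) 1 ↔ ρ g = 1 := by
  obtain ⟨n, ρ, hρ, hχ⟩ := χ.2
  refine ⟨n, ρ, hρ, hχ, ?_⟩
  intro g
  rw [← hχ, Representation.char_one]
  exact char_eq_finrank_iff ρ g

/-- the kernel of an irreducible character, as a subgroup -/
def irrKer (χ : IrrCharacter G) : Subgroup G where
  carrier := {g | (χ : G → ℂ) g = (χ : G → ℂ) 1}
  one_mem' := rfl
  mul_mem' := by
    intro a b ha hb
    obtain ⟨n, ρ, _, _, hk⟩ := irr_exists_rep χ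
    simp only [Set.mem_setOf_eq] at ha hb ⊢
    rw [hk] at ha hb ⊢
    rw [map_mul, ha, hb, mul_one]
  inv_mem' := by
    intro a ha
    obtain ⟨n, ρ, _, _, hk⟩ := irr_exists_rep χ
    simp only [Set.mem_setOf_eq] at ha ⊢
    rw [hk] at ha ⊢
    have : ρ a⁻¹ * ρ a = 1 := by rw [← map_mul, inv_mul_cancel, map_one]
    rw [ha, mul_one] at this
    exact this

theorem mem_irrKer (χ : IrrCharacter G) (g : G) :
    g ∈ irrKer χ ↔ (χ : G → ℂ) g = (χ : G → ℂ) 1 := Iff.rfl

instance irrKer_normal (χ : IrrCharacter G) : (irrKer χ).Normal := by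
  constructor
  intro n hn g
  rw [mem_irrKer] at hn ⊢
  rw [irr_class, hn]

theorem card_irrKer (χ : IrrCharacter G) :
    Nat.card {g : G // (χ : G → ℂ) g = (χ : G → ℂ) 1} = Nat.card (irrKer χ) :=
  Nat.card_congr (Equiv.subtypeEquivRight (fun _ => Iff.rfl))

/-- elements of the kernel can be absorbed -/
theorem irr_mul_of_mem_irrKer (χ : IrrCharacter G) (g k : G) (hk : k ∈ irrKer χ) :
    (χ : G → ℂ) (g * k) = (χ : G → ℂ) g := by
  obtain ⟨n, ρ, _, hχ, hker⟩ := irr_exists_rep χ
  rw [mem_irrKer, hker] at hk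
  rw [← hχ]
  simp only [Representation.character]
  rw [map_mul, hk, mul_one]

end Kernel

section Inflation

variable {G : Type v} [Group G] [Finite G] (N : Subgroup G) [N.Normal]


theorem isIrr_inflate (ψ : IrrCharacter (G ⧸ N)) :
    IsIrrCharacter G ((ψ : G ⧸ N → ℂ) ∘ (QuotientGroup.mk : G → G ⧸ N)) := by
  obtain ⟨n, σ, hσ, hψ⟩ := ψ.2
  refine ⟨n, σ.comp (QuotientGroup.mk' N), ?_, ?_⟩
  · exact (isIrreducible_comp_iff (QuotientGroup.mk' N) (QuotientGroup.mk'_surjective N) σ).2 hσ
  · ext g
    rw [character_comp, hψ]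
    rfl

/-- inflation of an irreducible character of a quotient -/
def inflate (ψ : IrrCharacter (G ⧸ N)) : IrrCharacter G :=
  ⟨(ψ : G ⧸ N → ℂ) ∘ (QuotientGroup.mk : G → G ⧸ N), isIrr_inflate N ψ⟩

theorem inflate_apply (ψ : IrrCharacter (G ⧸ N)) (g : G) :
    (inflate N ψ : G → ℂ) g = (ψ : G ⧸ N → ℂ) (QuotientGroup.mk g) := rfl

theorem inflate_injective : Function.Injective (inflate N) := by
  intro ψ ψ' h
  apply Subtype.ext
  ext x
  obtain ⟨g, rfl⟩ := QuotientGroup.mk_surjective x
  have := congrArg (fun χ : IrrCharacter G => (χ : G → ℂ) g) h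
  exact this

theorem le_irrKer_inflate (ψ : IrrCharacter (G ⧸ N)) : N ≤ irrKer (inflate N ψ) := by
  intro n hn
  rw [mem_irrKer, inflate_apply, inflate_apply]
  have h1 : (QuotientGroup.mk n : G ⧸ N) = 1 := (QuotientGroup.eq_one_iff n).2 hn
  rw [h1, QuotientGroup.mk_one]

theorem exists_deflate (χ : IrrCharacter G) (h : N ≤ irrKer χ) :
    ∃ ψ : IrrCharacter (G ⧸ N), inflate N ψ = χ := by
  obtain ⟨n, ρ, hρ, hχ, hker⟩ := irr_exists_rep χ
  have hN : N ≤ ρ.ker := by
    intro x hx
    rw [MonoidHom.mem_ker]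
    exact (hker x).1 ((mem_irrKer χ x).1 (h hx))
  let σ : Representation ℂ (G ⧸ N) (Fin n → ℂ) := QuotientGroup.lift N ρ hN
  have hσρ : σ.comp (QuotientGroup.mk' N) = ρ := by
    ext g : 1
    rfl
  have hσ : σ.IsIrreducible := by
    rw [← isIrreducible_comp_iff (QuotientGroup.mk' N) (QuotientGroup.mk'_surjective N) σ, hσρ]
    exact hρ
  refine ⟨⟨σ.character, ⟨n, σ, hσ, rfl⟩⟩, ?_⟩
  apply Subtype.ext
  ext g
  rw [inflate_apply, ← hχ]
  rfl

theorem charDegree_inflate (ψ : IrrCharacter (G ⧸ N)) :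
    charDegree (inflate N ψ : G → ℂ) = charDegree (ψ : G ⧸ N → ℂ) := by
  unfold charDegree
  rw [inflate_apply, QuotientGroup.mk_one]

theorem irrKer_inflate (ψ : IrrCharacter (G ⧸ N)) :
    irrKer (inflate N ψ) = (irrKer ψ).comap (QuotientGroup.mk' N) := by
  ext g
  rw [Subgroup.mem_comap, mem_irrKer, mem_irrKer, inflate_apply, inflate_apply,
    QuotientGroup.mk_one]
  rfl

theorem card_irrKer_inflate (ψ : IrrCharacter (G ⧸ N)) :
    Nat.card (irrKer (inflate N ψ)) = Nat.card N * Nat.card (irrKer ψ) := by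
  rw [irrKer_inflate]
  have h1 := Subgroup.card_mul_index ((irrKer ψ).comap (QuotientGroup.mk' N))
  have h2 := Subgroup.card_mul_index (irrKer ψ)
  have h3 : ((irrKer ψ).comap (QuotientGroup.mk' N)).index = (irrKer ψ).index :=
    Subgroup.index_comap_of_surjective _ (QuotientGroup.mk'_surjective N)
  have h4 := Subgroup.card_eq_card_quotient_mul_card_subgroup N
  have h5 : (irrKer ψ).index ≠ 0 := Subgroup.index_ne_zero_of_finite
  rw [h3] at h1
  have : Nat.card ((irrKer ψ).comap (QuotientGroup.mk' N)) * (irrKer ψ).index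
      = (Nat.card N * Nat.card (irrKer ψ)) * (irrKer ψ).index := by
    rw [h1, h4, ← h2]; ring
  exact Nat.eq_of_mul_eq_mul_right (Nat.pos_of_ne_zero h5) this

/-- inflation as an equivalence onto the characters with kernel containing `N` -/
noncomputable def inflateEquiv :
    IrrCharacter (G ⧸ N) ≃ {χ : IrrCharacter G // N ≤ irrKer χ} :=
  Equiv.ofBijective (fun ψ => ⟨inflate N ψ, le_irrKer_inflate N ψ⟩)
    ⟨fun ψ ψ' h => inflate_injective N (congrArg Subtype.val h),
     fun χ => by
      obtain ⟨ψ, hψ⟩ := exists_deflate N χ.1 χ.2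
      exact ⟨ψ, Subtype.ext hψ⟩⟩

theorem inflateEquiv_apply (ψ : IrrCharacter (G ⧸ N)) :
    ((inflateEquiv N ψ : {χ : IrrCharacter G // N ≤ irrKer χ}) : IrrCharacter G) = inflate N ψ :=
  rfl

end Inflation

section InflationSums

variable {G : Type v} [Group G] [Finite G] (N : Subgroup G) [N.Normal]

open Classical in
/-- sum of squares of degrees of the characters whose kernel contains `N` -/
theorem sum_sq_degree_of_le_ker :
    ∑ χ ∈ Finset.univ.filter (fun χ : IrrCharacter G => N ≤ irrKer χ),
      (charDegree (χ : G → ℂ)) ^ 2 = N.index := by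
  haveI := Fintype.ofFinite (G ⧸ N)
  have h1 := sum_sq_degree_nat (G := G ⧸ N)
  rw [Subgroup.index_eq_card, ← h1]
  rw [Finset.sum_subtype (Finset.univ.filter (fun χ : IrrCharacter G => N ≤ irrKer χ))
    (p := fun χ => N ≤ irrKer χ) (by intro χ; simp)]
  symm
  apply Fintype.sum_equiv (inflateEquiv N) (fun ψ => (charDegree (ψ : G ⧸ N → ℂ)) ^ 2)
    (fun χ => (charDegree ((χ : IrrCharacter G) : G → ℂ)) ^ 2)
  intro ψ
  rw [inflateEquiv_apply, charDegree_inflate]

open Classical in
/-- sum of squares of degrees of the characters whose kernel does not contain `N` -/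
theorem sum_sq_degree_of_not_le_ker :
    ∑ χ ∈ Finset.univ.filter (fun χ : IrrCharacter G => ¬ N ≤ irrKer χ),
      (charDegree (χ : G → ℂ)) ^ 2 = Nat.card G - N.index := by
  haveI := Fintype.ofFinite G
  have h1 := sum_sq_degree_nat (G := G)
  have h2 := sum_sq_degree_of_le_ker N
  have h3 := Finset.sum_filter_add_sum_filter_not (Finset.univ : Finset (IrrCharacter G))
    (fun χ : IrrCharacter G => N ≤ irrKer χ) (fun χ => (charDegree (χ : G → ℂ)) ^ 2)
  rw [h2, h1] at h3
  omega

end InflationSums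

end Cfsg.Agent.Helper79
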