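import Cfsg.Agent.Lib.Helper79.CentralExt

set_option autoImplicit false
set_option linter.unusedSectionVars false
set_option linter.style.haveILetI false

namespace Cfsg.Agent.Helper79

open Module Cfsg Cfsg.Agent.Helper81
open scoped ComplexConjugate

universe u

section DegreeRatio

variable {G : Type u} [Group G] [Fintype G]

/-- invariant case: the ramification index divides the index -/
theorem dvd_index_of_invariant (N : Subgroup G) [hN : N.Normal] [Fintype N]
    {χ : G → ℂ} (hχ : IsIrrCharacter G χ) {ϑ : N → ℂ} (hϑ : IsIrrCharacter N ϑ)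
    (hne : classInner (fun n : N => χ n) ϑ ≠ 0)
    (hinv : ∀ g : G, conjFun N hN ϑ g = ϑ) :
    ∃ e : ℕ, χ 1 = (e : ℂ) * ϑ 1 ∧ e ∣ N.index := by
  classical
  have hres := restrict_eq_smul_of_invariant N hN hχ hϑ hne hinv
  obtain ⟨e₀, he₀⟩ := exists_nat_classInner (isCharacter_restrict N (IsIrrCharacter.isCharacter hχ)) hϑ
  rw [he₀] at hres
  have he₀0 : e₀ ≠ 0 := by
    intro h0
    rw [h0] at he₀
    exact hne (by simpa using he₀)
  obtain ⟨d, ρ, hρ, rfl⟩ := hϑ
  haveI := hρ
  have hinv' : ∀ (g : G) (n : N),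
      ρ.character ⟨g * n * g⁻¹, hN.conj_mem n n.2 g⟩ = ρ.character n :=
    fun g n => congrFun (hinv g) n
  haveI : Finite (extGroup N ρ) := finite_extGroup N ρ
  haveI : Fintype (extGroup N ρ) := Fintype.ofFinite _
  have hπ := extProj_surjective N ρ hinv'
  have hÑ : (extIncl N ρ).range.Normal := extIncl_range_normal N ρ
  haveI : Fintype (extIncl N ρ).range := Fintype.ofFinite _
  haveI := extRep_isIrreducible N ρ
  have hτ : IsIrrCharacter (extGroup N ρ) (extRep N ρ).character :=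
    ⟨d, extRep N ρ, inferInstance, rfl⟩
  have hχ' : IsIrrCharacter (extGroup N ρ) (fun x => χ (extProj N ρ x)) := by
    obtain ⟨c, ρχ, hρχ, rfl⟩ := hχ
    haveI := hρχ
    exact ⟨c, ρχ.comp (extProj N ρ), isIrreducible_comp_of_surjective ρχ (extProj N ρ) hπ, rfl⟩
  set Γ := extGroup N ρ with hΓ
  set Ñ := (extIncl N ρ).range with hÑdef
  let ιe : N ≃* Ñ := MonoidHom.ofInjective (extIncl_injective N ρ)
  have hιe : ∀ n : N, ((ιe n : Ñ) : Γ) = extIncl N ρ n := fun n => rfl
  set τ := (extRep N ρ).character with hτdef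
  let τÑ : Ñ → ℂ := fun y => τ y
  have hτÑeq : τÑ = fun y => ρ.character (ιe.symm y) := by
    funext y
    obtain ⟨n, rfl⟩ := ιe.surjective y
    rw [MulEquiv.symm_apply_apply]
    rfl
  have hτÑ : IsIrrCharacter Ñ τÑ := by
    rw [hτÑeq]; exact isIrrCharacter_comp_equiv ιe.symm ⟨d, ρ, hρ, rfl⟩
  have hone : IsIrrCharacter Ñ (fun _ => (1 : ℂ)) := isIrrCharacter_one
  have hmul : (fun _ : Ñ => (1 : ℂ)) * τÑ = τÑ := by funext y; simp
  have hτc := isClassFunction_of_isCharacter (IsIrrCharacter.isCharacter hτ)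
  have hprodinv : ∀ g : Γ, conjFun Ñ hÑ ((fun _ : Ñ => (1 : ℂ)) * τÑ) g =
      (fun _ : Ñ => (1 : ℂ)) * τÑ := by
    intro g; rw [hmul]; funext y; rw [conjFun_apply]; exact hτc y g
  haveI : Fintype (IrrCharacter Γ) := @Fintype.ofFinite _ irr_finite
  obtain ⟨m, hm⟩ := exists_nat_decomp (isCharacter_indFun Ñ (IsIrrCharacter.isCharacter hone))
  obtain ⟨h1, -, h3⟩ := gallagher_core Ñ hÑ hone (fun g => rfl) (by rw [hmul]; exact hτÑ)
    hprodinv hτ rfl m hm
  have hχ'c := isClassFunction_of_isCharacter (IsIrrCharacter.isCharacter hχ')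
  have hfr : classInner (indFun Ñ ((fun _ : Ñ => (1 : ℂ)) * τÑ))
      (fun x => χ (extProj N ρ x)) = (e₀ : ℂ) := by
    rw [frobenius_reciprocity Ñ _ hχ'c, hmul]
    have h5 : (fun y : Ñ => χ (extProj N ρ (y : Γ))) = (e₀ : ℂ) • τÑ := by
      funext y
      obtain ⟨n, rfl⟩ := ιe.surjective y
      have h6 := congrFun hres n
      simp only [Pi.smul_apply, smul_eq_mul] at h6 ⊢
      rw [hιe]
      exact h6
    rw [h5, classInner_smul_right, Cfsg.Agent.Helper81.irr_orthonormal hτÑ hτÑ, if_pos rfl]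
    simp
  rw [h3, classInner_sum_left] at hfr
  have hex : ∃ β : IrrCharacter Γ, m β ≠ 0 ∧
      classInner ((β : Γ → ℂ) * τ) (fun x => χ (extProj N ρ x)) ≠ 0 := by
    by_contra hcon
    push Not at hcon
    have h0 : ∑ β : IrrCharacter Γ, classInner ((m β : ℂ) • ((β : Γ → ℂ) * τ))
        (fun x => χ (extProj N ρ x)) = 0 := by
      apply Finset.sum_eq_zero
      intro β _
      rw [classInner_smul_left]
      by_cases h0 : m β = 0
      · simp [h0]
      · rw [hcon β h0, mul_zero]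
    rw [h0] at hfr
    exact he₀0 (by exact_mod_cast hfr.symm)
  obtain ⟨β, hmβ, hβne⟩ := hex
  have hβτ : (β : Γ → ℂ) * τ = fun x => χ (extProj N ρ x) :=
    eq_of_classInner_ne_zero (h1 β hmβ) hχ' hβne
  obtain ⟨k, ρβ, hρβ, hβ⟩ := β.2
  haveI := hρβ
  have hβc := isClassFunction_of_isCharacter (IsIrrCharacter.isCharacter β.2)
  -- the copy of `N` acts trivially
  have hmβ' : classInner (indFun Ñ (fun _ : Ñ => (1 : ℂ))) (β : Γ → ℂ) = (m β : ℂ) := by
    rw [hm]; exact classInner_nat_decomp (fun γ => (m γ : ℂ)) β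
  rw [frobenius_reciprocity Ñ _ hβc] at hmβ'
  have hne1 : classInner (fun y : Ñ => (β : Γ → ℂ) y) (fun _ : Ñ => (1 : ℂ)) ≠ 0 := by
    rw [classInner_conj_symm, hmβ']
    simpa using hmβ
  have hresβ := restrict_eq_smul_of_invariant Ñ hÑ β.2 hone hne1 (fun g => rfl)
  have hker : ∀ n : N, ρβ (extIncl N ρ n) = 1 := by
    intro n
    have e1 := congrFun hresβ ⟨extIncl N ρ n, n, rfl⟩
    have e2 := congrFun hresβ 1
    simp only [Pi.smul_apply, smul_eq_mul, mul_one, Subgroup.coe_one] at e1 e2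
    have e3 : ρβ.character (extIncl N ρ n) = (finrank ℂ (Fin k → ℂ) : ℂ) := by
      rw [hβ, e1, ← e2, ← hβ, Representation.char_one]
    exact (Cfsg.Agent.Helper3.char_eq_finrank_iff ρβ _).mp e3
  have hdvd := finrank_dvd_index_of_scalar ρβ (N.comap (extProj N ρ))
    (fun x hx => scalar_of_over N ρ ρβ hker x hx)
  rw [Module.finrank_fin_fun, Subgroup.index_comap_of_surjective N hπ] at hdvd
  refine ⟨k, ?_, hdvd⟩
  have e4 := congrFun hβτ 1
  simp only [Pi.mul_apply, map_one] at e4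
  rw [← e4, ← hβ, Representation.char_one, hτdef, Representation.char_one, Representation.char_one,
    Module.finrank_fin_fun]

/-- the inertia subgroup of a function on a normal subgroup -/
def inertiaGrp (N : Subgroup G) (hN : N.Normal) (θ : N → ℂ) : Subgroup G where
  carrier := {g | conjFun N hN θ g = θ}
  one_mem' := conjFun_one N hN θ
  mul_mem' := by
    intro a b ha hb
    simp only [Set.mem_ofPred_eq] at ha hb ⊢
    rw [← conjFun_mul, ha, hb]
  inv_mem' := by
    intro a ha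
    simp only [Set.mem_ofPred_eq] at ha ⊢
    have h := conjFun_mul N hN θ a a⁻¹
    rw [ha, mul_inv_cancel, conjFun_one] at h
    exact h

theorem mem_inertiaGrp (N : Subgroup G) (hN : N.Normal) (θ : N → ℂ) (g : G) :
    g ∈ inertiaGrp N hN θ ↔ conjFun N hN θ g = θ := Iff.rfl

theorem le_inertiaGrp (N : Subgroup G) (hN : N.Normal) {θ : N → ℂ}
    (hθ : Cfsg.IsClassFunction N θ) : N ≤ inertiaGrp N hN θ := by
  intro a ha
  rw [mem_inertiaGrp]
  funext n
  rw [conjFun_apply]
  exact hθ n ⟨a, ha⟩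

/-- general case: `χ(1)/ϑ(1)` is an integer dividing the index -/
theorem degree_ratio_dvd_index (N : Subgroup G) [hN : N.Normal] [Fintype N]
    {χ : G → ℂ} (hχ : IsIrrCharacter G χ) {ϑ : N → ℂ} (hϑ : IsIrrCharacter N ϑ)
    (hne : classInner (fun n : N => χ n) ϑ ≠ 0) :
    ∃ e : ℕ, χ 1 = (e : ℂ) * ϑ 1 ∧ e ∣ N.index := by
  classical
  set T := inertiaGrp N hN ϑ with hT
  have hNT : N ≤ T :=
    le_inertiaGrp N hN (isClassFunction_of_isCharacter (IsIrrCharacter.isCharacter hϑ))
  haveI : Fintype T := Fintype.ofFinite _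
  obtain ⟨ψ, hψ, hind, hmult⟩ :=
    clifford_corr_surj N T hN hNT hϑ (fun g => Iff.rfl) hχ hne
  let N' : Subgroup T := N.subgroupOf T
  haveI hN' : N'.Normal := hN.subgroupOf T
  haveI : Fintype N' := Fintype.ofFinite N'
  let ι : N' ≃* N := Subgroup.subgroupOfEquivOfLe hNT
  have hϑ' : IsIrrCharacter N' (fun x => ϑ (ι x)) := isIrrCharacter_comp_equiv ι hϑ
  have hne' : classInner (fun n' : N' => ψ n') (fun x => ϑ (ι x)) ≠ 0 := by
    have e1 : classInner (fun n' : N' => ψ n') (fun x => ϑ (ι x)) =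
        classInner (resTo hNT ψ) ϑ := classInner_comp_equiv ι (resTo hNT ψ) ϑ
    rw [e1, hmult]
    exact hne
  have hinv' : ∀ t : T, conjFun N' hN' (fun x => ϑ (ι x)) t = fun x => ϑ (ι x) := by
    intro t
    funext x
    have := congrFun ((mem_inertiaGrp N hN ϑ t).mp t.2) (ι x)
    simp only [conjFun_apply] at this ⊢
    convert this using 2
    apply Subtype.ext
    rfl
  obtain ⟨e, he1, he2⟩ := dvd_index_of_invariant N' hψ hϑ' hne' hinv'
  refine ⟨T.index * e, ?_, ?_⟩
  · rw [← hind, indFun_one, he1]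
    have : ι 1 = 1 := map_one ι
    simp only [this]
    push_cast
    ring
  · have h1 : N'.index = N.relIndex T := rfl
    rw [h1] at he2
    rw [← Subgroup.relIndex_mul_index hNT, mul_comm]
    exact Nat.mul_dvd_mul he2 (dvd_refl _)

end DegreeRatio

end Cfsg.Agent.Helper79
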