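import Cfsg.Agent.Lib.Helper79.Scalar

set_option autoImplicit false
set_option linter.unusedSectionVars false
set_option linter.style.haveILetI false

namespace Cfsg.Agent.Helper79

open Module
open scoped ComplexConjugate

universe u v

section LinearDeg

/-- endomorphisms of a one-dimensional space commute -/
theorem end_comm_of_finrank_eq_one {V : Type*} [AddCommGroup V] [Module ℂ V]
    (h : Module.finrank ℂ V = 1) (f g : Module.End ℂ V) : f * g = g * f := by
  obtain ⟨v, hv, hspan⟩ := finrank_eq_one_iff'.1 h
  have hsc : ∀ e : Module.End ℂ V, ∃ c : ℂ, ∀ w, e w = c • w := by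
    intro e
    obtain ⟨c, hc⟩ := hspan (e v)
    refine ⟨c, fun w => ?_⟩
    obtain ⟨a, rfl⟩ := hspan w
    rw [map_smul, ← hc, smul_comm]
  obtain ⟨a, ha⟩ := hsc f
  obtain ⟨b, hb⟩ := hsc g
  apply LinearMap.ext
  intro w
  simp only [Module.End.mul_apply]
  rw [hb w, ha w, map_smul, map_smul, ha w, hb w, smul_comm]

variable {G : Type v} [Group G] [Finite G]

/-- an irreducible character of degree one is trivial on commutators -/
theorem irr_commutator_of_degree_one (ψ : IrrCharacter G)
    (hdeg : charDegree (ψ : G → ℂ) = 1) (a b : G) : (ψ : G → ℂ) (a * b * a⁻¹ * b⁻¹) = 1 := by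
  obtain ⟨n, τ, hτ, hψτ, hker⟩ := irr_exists_rep ψ
  have h1 := (irr_one_eq ψ).1
  rw [hdeg] at h1
  have hn : Module.finrank ℂ (Fin n → ℂ) = 1 := by
    have h2 : (ψ : G → ℂ) 1 = τ.character 1 := by rw [hψτ]
    rw [h2, Representation.char_one] at h1
    exact_mod_cast h1
  have h3 : τ (a * b * a⁻¹ * b⁻¹) = 1 := by
    rw [map_mul, map_mul, map_mul, end_comm_of_finrank_eq_one hn (τ a) (τ b), mul_assoc (τ b),
      ← map_mul τ a, mul_inv_cancel, map_one, mul_one, ← map_mul, mul_inv_cancel, map_one]
  rw [(hker _).2 h3, h1]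
  simp

/-- a character of degree one has the commutator subgroup in its kernel -/
theorem commutator_le_irrKer_of_degree_one (χ : IrrCharacter G)
    (h : charDegree (χ : G → ℂ) = 1) : commutator G ≤ irrKer χ := by
  rw [commutator_def, Subgroup.commutator_le]
  intro a _ b _
  rw [mem_irrKer, commutatorElement_def, irr_commutator_of_degree_one χ h a b, (irr_one_eq χ).1, h]
  simp

/-- a character with the commutator subgroup in its kernel has degree one -/
theorem degree_one_of_commutator_le_irrKer (χ : IrrCharacter G)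
    (h : commutator G ≤ irrKer χ) : charDegree (χ : G → ℂ) = 1 := by
  have h1 := card_mul_sq_le_of_commutators χ (irrKer χ : Set G) (fun b hb => hb) ⊤ (by
    intro d _ g
    apply h
    rw [commutator_def, ← commutatorElement_def]
    exact Subgroup.commutator_mem_commutator (Subgroup.mem_top d) (Subgroup.mem_top g))
  rw [Subgroup.card_top] at h1
  have hpos := (irr_one_eq χ).2
  have hG : 0 < Nat.card G := Nat.card_pos
  have h2 : (charDegree (χ : G → ℂ)) ^ 2 ≤ 1 := by
    have : Nat.card G * (charDegree (χ : G → ℂ)) ^ 2 ≤ Nat.card G * 1 := by rwa [mul_one]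
    exact Nat.le_of_mul_le_mul_left this hG
  have h3 : charDegree (χ : G → ℂ) ≤ 1 := by
    by_contra hc
    have : 2 ≤ charDegree (χ : G → ℂ) := by omega
    nlinarith
  omega

/-- degree one iff the commutator subgroup lies in the kernel -/
theorem degree_one_iff (χ : IrrCharacter G) :
    charDegree (χ : G → ℂ) = 1 ↔ commutator G ≤ irrKer χ :=
  ⟨commutator_le_irrKer_of_degree_one χ, degree_one_of_commutator_le_irrKer χ⟩

/-- multiplication by a central element scales an irreducible character -/
theorem irr_central_mul (χ : IrrCharacter G) (c : G) (hc : c ∈ Subgroup.center G) (g : G) :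
    (χ : G → ℂ) (c * g) * (χ : G → ℂ) 1 = (χ : G → ℂ) c * (χ : G → ℂ) g := by
  have := Fintype.ofFinite G
  obtain ⟨n, ρ, hρ, hχ⟩ := χ.2
  obtain ⟨l, hl, -⟩ := center_scalar ρ c hc
  rw [← hχ]
  unfold Representation.character
  rw [map_mul, hl, map_one, smul_mul_assoc, one_mul, map_smul, map_smul, smul_eq_mul, smul_eq_mul]
  ring

end LinearDeg

end Cfsg.Agent.Helper79
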