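import Cfsg.Agent.Lib.Helper79.Completeness

set_option autoImplicit false
set_option linter.unusedSectionVars false
set_option linter.style.haveILetI false

namespace Cfsg.Agent.Helper79

open Module
open scoped ComplexConjugate

universe u v

section Cor

variable {G : Type v} [Group G] [Fintype G]

/-- column orthogonality with complex conjugates -/
theorem col_orth_conj (g h : G) :
    ∑ χ : IrrCharacter G, (χ : G → ℂ) g * conj ((χ : G → ℂ) h) =
      (Nat.card {x : G // x * h * x⁻¹ = g} : ℂ) := by
  rw [← col_orth g h]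
  apply Finset.sum_congr rfl
  intro χ _
  rw [irr_inv]

theorem card_conj_self (g : G) :
    Nat.card {x : G // x * g * x⁻¹ = g} = Nat.card (Subgroup.centralizer ({g} : Set G)) := by
  apply Nat.card_congr
  refine Equiv.subtypeEquivRight ?_
  intro x
  rw [Subgroup.mem_centralizer_iff]
  simp only [Set.mem_singleton_iff, forall_eq]
  constructor
  · intro h
    have : x * g = g * x := by
      calc x * g = x * g * x⁻¹ * x := by group
        _ = g * x := by rw [h]
    exact this.symm
  · intro h
    rw [← h]; group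

theorem col_orth_self (g : G) :
    ∑ χ : IrrCharacter G, (χ : G → ℂ) g * conj ((χ : G → ℂ) g) =
      (Nat.card (Subgroup.centralizer ({g} : Set G)) : ℂ) := by
  rw [col_orth_conj, card_conj_self]

theorem col_orth_of_not_isConj (g h : G) (hgh : ¬ IsConj g h) :
    ∑ χ : IrrCharacter G, (χ : G → ℂ) g * conj ((χ : G → ℂ) h) = 0 := by
  rw [col_orth_conj]
  have : IsEmpty {x : G // x * h * x⁻¹ = g} := by
    constructor
    rintro ⟨x, hx⟩
    apply hgh
    rw [isConj_comm, isConj_iff]
    exact ⟨x, hx⟩
  simp

/-- sum of squares of the degrees -/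
theorem sum_sq_degree : ∑ χ : IrrCharacter G, (χ : G → ℂ) 1 ^ 2 = (Nat.card G : ℂ) := by
  have h := col_orth (G := G) 1 1
  simp only [inv_one, mul_one, mul_inv_cancel] at h
  rw [show (Nat.card {x : G // True}) = Nat.card G from Nat.card_congr (Equiv.subtypeUnivEquiv (fun _ => trivial))] at h
  rw [← h]
  apply Finset.sum_congr rfl
  intro χ _
  ring

theorem sum_sq_degree_nat :
    ∑ χ : IrrCharacter G, (charDegree (χ : G → ℂ)) ^ 2 = Nat.card G := by
  have h := sum_sq_degree (G := G)
  have h2 : ∀ χ : IrrCharacter G, (χ : G → ℂ) 1 ^ 2 = (((charDegree (χ : G → ℂ)) ^ 2 : ℕ) : ℂ) := by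
    intro χ
    rw [(irr_one_eq χ).1]; push_cast; ring
  simp_rw [h2] at h
  exact_mod_cast h

/-- regular character formula -/
theorem sum_degree_mul (g : G) (hg : g ≠ 1) :
    ∑ χ : IrrCharacter G, (χ : G → ℂ) 1 * (χ : G → ℂ) g = 0 := by
  have h := col_orth (G := G) 1 g⁻¹
  have : IsEmpty {x : G // x * g⁻¹ * x⁻¹ = 1} := by
    constructor
    rintro ⟨x, hx⟩
    apply hg
    have : g⁻¹ = 1 := by
      have := congrArg (fun y => x⁻¹ * y * x) hx
      simpa [mul_assoc] using this
    exact inv_eq_one.1 this
  simp only [inv_inv] at h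
  rw [h, Nat.card_of_isEmpty]
  simp

/-- irreducible characters separate conjugacy classes -/
theorem isConj_of_forall_irr_eq (g h : G) (hh : ∀ χ : IrrCharacter G, (χ : G → ℂ) g = (χ : G → ℂ) h) :
    IsConj g h := by
  by_contra hcon
  have h1 := col_orth_of_not_isConj g h hcon
  simp_rw [hh] at h1
  rw [col_orth_self] at h1
  have : 0 < Nat.card (Subgroup.centralizer ({h} : Set G)) := Nat.card_pos
  have h2 : (Nat.card (Subgroup.centralizer ({h} : Set G)) : ℂ) ≠ 0 := by exact_mod_cast this.ne'
  exact h2 h1

end Cor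

end Cfsg.Agent.Helper79
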