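import Cfsg.Agent.Lib.Helper79.FiniteOrder
import Cfsg.Prelude.Def_Blocks

set_option autoImplicit false
set_option linter.unusedSectionVars false
set_option linter.style.haveILetI false

namespace Cfsg.Agent.Helper79

open Module
open scoped ComplexConjugate

section RepLevel

variable {G : Type*} [Group G] [Finite G] {V : Type*} [AddCommGroup V] [Module ℂ V]
  [FiniteDimensional ℂ V] (ρ : Representation ℂ G V)


omit [FiniteDimensional ℂ V] in
theorem rep_pow_orderOf (g : G) : (ρ g) ^ (orderOf g) = 1 := by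
  rw [← map_pow, pow_orderOf_eq_one, map_one]

omit [FiniteDimensional ℂ V] in
theorem rep_inv_mul (g : G) : ρ g⁻¹ * ρ g = 1 := by
  rw [← map_mul, inv_mul_cancel, map_one]

theorem char_inv (g : G) : ρ.character g⁻¹ = conj (ρ.character g) :=
  trace_inv_eq_conj (ρ g) (ρ g⁻¹) (orderOf g) (orderOf_pos g) (rep_pow_orderOf ρ g)
    (rep_inv_mul ρ g)

theorem norm_char_le (g : G) : ‖ρ.character g‖ ≤ (finrank ℂ V : ℝ) :=
  norm_trace_le (ρ g) (orderOf g) (orderOf_pos g) (rep_pow_orderOf ρ g)

theorem isIntegral_char (g : G) : IsIntegral ℤ (ρ.character g) :=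
  isIntegral_trace (ρ g) (orderOf g) (orderOf_pos g) (rep_pow_orderOf ρ g)

theorem char_eq_finrank_iff (g : G) : ρ.character g = (finrank ℂ V : ℂ) ↔ ρ g = 1 := by
  constructor
  · intro h
    exact eq_one_of_trace_eq_finrank (ρ g) (orderOf g) (orderOf_pos g) (rep_pow_orderOf ρ g) h
  · intro h
    simp [Representation.character, h]

end RepLevel

section Transport

variable {G : Type*} [Group G] {V W : Type*} [AddCommGroup V] [Module ℂ V]
  [AddCommGroup W] [Module ℂ W]


/-- pull back a subrepresentation along an equivalence -/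
def comapSub {ρ : Representation ℂ G V} {σ : Representation ℂ G W} (φ : ρ.Equiv σ)
    (S : Subrepresentation σ) : Subrepresentation ρ where
  toSubmodule := S.toSubmodule.comap φ.toLinearMap
  apply_mem_toSubmodule g v hv := by
    simp only [Submodule.mem_comap] at hv ⊢
    have : φ.toLinearMap (ρ g v) = σ g (φ.toLinearMap v) :=
      Representation.IntertwiningMap.isIntertwining ρ σ φ.toIntertwiningMap g v
    rw [this]
    exact S.apply_mem_toSubmodule g hv

theorem mem_comapSub {ρ : Representation ℂ G V} {σ : Representation ℂ G W} (φ : ρ.Equiv σ)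
    (S : Subrepresentation σ) (v : V) : v ∈ comapSub φ S ↔ φ v ∈ S := Iff.rfl

theorem isIrreducible_of_equiv {ρ : Representation ℂ G V} {σ : Representation ℂ G W}
    (φ : ρ.Equiv σ) [hρ : ρ.IsIrreducible] : σ.IsIrreducible := by
  have hnt : Nontrivial (Subrepresentation σ) := by
    refine ⟨⊥, ⊤, ?_⟩
    intro h
    have h1 : (⊥ : Subrepresentation ρ) ≠ ⊤ := bot_ne_top
    apply h1
    apply le_antisymm bot_le
    intro v _
    have h2 : φ v ∈ (⊤ : Subrepresentation σ) := trivial
    rw [← h] at h2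
    have h3 : φ v = 0 := h2
    have h4 : v = 0 := by
      have := congrArg φ.symm h3
      simpa using this
    rw [h4]
    exact (⊥ : Subrepresentation ρ).toSubmodule.zero_mem
  refine { toNontrivial := hnt, eq_bot_or_eq_top := ?_ }
  intro S
  rcases hρ.eq_bot_or_eq_top (comapSub φ S) with h | h
  · left
    apply le_antisymm _ bot_le
    intro w hw
    have h1 : φ.symm w ∈ comapSub φ S := by
      rw [mem_comapSub]; simpa using hw
    rw [h] at h1
    have h2 : φ.symm w = 0 := h1
    have h3 : w = 0 := by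
      have := congrArg φ h2
      simpa using this
    rw [h3]
    exact (⊥ : Subrepresentation σ).toSubmodule.zero_mem
  · right
    apply le_antisymm le_top
    intro w _
    have h1 : φ.symm w ∈ comapSub φ S := by rw [h]; trivial
    rw [mem_comapSub] at h1
    simpa using h1

/-- transport of a representation along a linear equivalence -/
def conjRep (e : V ≃ₗ[ℂ] W) (ρ : Representation ℂ G V) : Representation ℂ G W where
  toFun g := e.toLinearMap ∘ₗ ρ g ∘ₗ e.symm.toLinearMap
  map_one' := by ext w; simp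
  map_mul' a b := by ext w; simp

theorem conjRep_apply (e : V ≃ₗ[ℂ] W) (ρ : Representation ℂ G V) (g : G) (w : W) :
    conjRep e ρ g w = e (ρ g (e.symm w)) := rfl

/-- the transported representation is equivalent to the original one -/
def conjRepEquiv (e : V ≃ₗ[ℂ] W) (ρ : Representation ℂ G V) : ρ.Equiv (conjRep e ρ) :=
  Representation.Equiv.mk e (by intro g; ext v; simp [conjRep_apply])

theorem isIrrCharacter_of_irreducible [FiniteDimensional ℂ V] (ρ : Representation ℂ G V)
    [ρ.IsIrreducible] : IsIrrCharacter G ρ.character := by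
  let b := Module.finBasis ℂ V
  let e : V ≃ₗ[ℂ] (Fin (finrank ℂ V) → ℂ) := b.equivFun
  refine ⟨finrank ℂ V, conjRep e ρ, isIrreducible_of_equiv (conjRepEquiv e ρ), ?_⟩
  exact (Representation.char_iso (conjRepEquiv e ρ)).symm

end Transport

section Irr

variable {G : Type*} [Group G]


theorem nontrivial_of_irreducible {V : Type*} [AddCommGroup V] [Module ℂ V]
    (ρ : Representation ℂ G V) [hρ : ρ.IsIrreducible] : Nontrivial V := by
  by_contra h
  rw [not_nontrivial_iff_subsingleton] at h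
  have h1 : (⊥ : Subrepresentation ρ) ≠ ⊤ := bot_ne_top
  apply h1
  apply le_antisymm bot_le
  intro v _
  rw [Subsingleton.elim v 0]
  exact (⊥ : Subrepresentation ρ).toSubmodule.zero_mem

theorem irr_one_eq (χ : IrrCharacter G) :
    (χ : G → ℂ) 1 = (charDegree (χ : G → ℂ) : ℂ) ∧ 0 < charDegree (χ : G → ℂ) := by
  obtain ⟨n, ρ, hρ, hχ⟩ := χ.2
  have hnt := nontrivial_of_irreducible ρ
  have h1 : (χ : G → ℂ) 1 = (n : ℂ) := by
    rw [← hχ, Representation.char_one]; simp
  have hn : 0 < n := by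
    by_contra h0
    have : n = 0 := by omega
    subst this
    exact not_subsingleton (Fin 0 → ℂ) inferInstance
  have h2 : charDegree (χ : G → ℂ) = n := by
    unfold charDegree
    rw [h1]; simp
  rw [h2]
  exact ⟨h1, hn⟩

theorem irr_one_ne_zero (χ : IrrCharacter G) : (χ : G → ℂ) 1 ≠ 0 := by
  rw [(irr_one_eq χ).1]
  exact_mod_cast (irr_one_eq χ).2.ne'

theorem irr_class (χ : IrrCharacter G) (g h : G) : (χ : G → ℂ) (h * g * h⁻¹) = (χ : G → ℂ) g := by
  obtain ⟨n, ρ, hρ, hχ⟩ := χ.2
  rw [← hχ]; exact Representation.char_conj ρ g h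

theorem irr_mul_comm (χ : IrrCharacter G) (g h : G) : (χ : G → ℂ) (g * h) = (χ : G → ℂ) (h * g) := by
  obtain ⟨n, ρ, hρ, hχ⟩ := χ.2
  rw [← hχ]; exact Representation.char_mul_comm ρ h g

variable [Finite G]

theorem irr_inv (χ : IrrCharacter G) (g : G) : (χ : G → ℂ) g⁻¹ = conj ((χ : G → ℂ) g) := by
  obtain ⟨n, ρ, hρ, hχ⟩ := χ.2
  rw [← hχ]; exact char_inv ρ g

theorem irr_isIntegral (χ : IrrCharacter G) (g : G) : IsIntegral ℤ ((χ : G → ℂ) g) := by
  obtain ⟨n, ρ, hρ, hχ⟩ := χ.2
  rw [← hχ]; exact isIntegral_char ρ g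

theorem irr_norm_le (χ : IrrCharacter G) (g : G) :
    ‖(χ : G → ℂ) g‖ ≤ (charDegree (χ : G → ℂ) : ℝ) := by
  have h1 := (irr_one_eq χ).1
  obtain ⟨n, ρ, hρ, hχ⟩ := χ.2
  have h2 : ((charDegree (χ : G → ℂ) : ℕ) : ℂ) = (finrank ℂ (Fin n → ℂ) : ℂ) := by
    rw [← h1, ← hχ, Representation.char_one]
  have h3 : charDegree (χ : G → ℂ) = finrank ℂ (Fin n → ℂ) := by exact_mod_cast h2
  rw [h3, ← hχ]
  exact norm_char_le ρ g

theorem card_ne_zero_complex : (Nat.card G : ℂ) ≠ 0 := by
  exact_mod_cast Nat.card_pos.ne'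

theorem irr_sum_self_pos [Fintype G] (χ : IrrCharacter G) :
    ∑ g : G, (χ : G → ℂ) g * (χ : G → ℂ) g⁻¹ ≠ 0 := by
  have h1 : ∀ g : G, (χ : G → ℂ) g * (χ : G → ℂ) g⁻¹ = ((Complex.normSq ((χ : G → ℂ) g) : ℝ) : ℂ) := by
    intro g
    rw [irr_inv, Complex.mul_conj]
  simp_rw [h1]
  rw [← Complex.ofReal_sum]
  have h2 : 0 < ∑ g : G, Complex.normSq ((χ : G → ℂ) g) := by
    apply Finset.sum_pos'
    · intro g _; exact Complex.normSq_nonneg _
    · exact ⟨1, Finset.mem_univ _, Complex.normSq_pos.2 (irr_one_ne_zero χ)⟩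
  exact_mod_cast h2.ne'

/-- the bilinear pairing of functions on a finite group -/
noncomputable def pair [Fintype G] (f h : G → ℂ) : ℂ :=
  (Nat.card G : ℂ)⁻¹ * ∑ g : G, f g * h g⁻¹

theorem irr_orthonormal [Fintype G] (χ ψ : IrrCharacter G) :
    pair (χ : G → ℂ) (ψ : G → ℂ) = if χ = ψ then 1 else 0 := by
  unfold pair
  obtain ⟨n, ρ, hρ, hχ⟩ := χ.2
  obtain ⟨m, σ, hσ, hψ⟩ := ψ.2
  have : Invertible (Nat.card G : ℂ) := invertibleOfNonzero card_ne_zero_complex
  have h := Representation.char_orthonormal ρ σ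
  rw [hχ, hψ] at h
  rw [h]
  by_cases hne : Nonempty (σ.Equiv ρ)
  · obtain ⟨φ⟩ := hne
    have : (ψ : G → ℂ) = (χ : G → ℂ) := by
      rw [← hχ, ← hψ]; exact Representation.char_iso φ
    have h2 : χ = ψ := Subtype.ext this.symm
    rw [if_pos ⟨φ⟩, if_pos h2]
  · rw [if_neg hne]
    by_cases h2 : χ = ψ
    · exfalso
      rw [if_neg hne] at h
      subst h2
      have h3 := irr_sum_self_pos χ
      rcases mul_eq_zero.1 h with h4 | h4
      · exact card_ne_zero_complex (inv_eq_zero.1 h4)
      · exact h3 h4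
    · rw [if_neg h2]

theorem pair_sum_left [Fintype G] {ι : Type*} (s : Finset ι) (f : ι → G → ℂ) (h : G → ℂ) :
    pair (∑ i ∈ s, f i) h = ∑ i ∈ s, pair (f i) h := by
  unfold pair
  simp only [Finset.sum_apply, Finset.sum_mul]
  rw [Finset.sum_comm, Finset.mul_sum]

theorem pair_smul_left [Fintype G] (c : ℂ) (f h : G → ℂ) : pair (c • f) h = c * pair f h := by
  unfold pair
  simp only [Pi.smul_apply, smul_eq_mul]
  rw [mul_left_comm]
  congr 1
  rw [Finset.mul_sum]
  apply Finset.sum_congr rfl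
  intro g _; ring

theorem pair_sub_left [Fintype G] (f f' h : G → ℂ) : pair (f - f') h = pair f h - pair f' h := by
  unfold pair
  simp only [Pi.sub_apply, sub_mul, Finset.sum_sub_distrib, mul_sub]

theorem classInner_eq_pair [Fintype G] (f : G → ℂ) (ψ : IrrCharacter G) :
    classInner f (ψ : G → ℂ) = pair f (ψ : G → ℂ) := by
  unfold classInner pair
  congr 1
  apply Finset.sum_congr rfl
  intro g _
  rw [irr_inv]

theorem irr_linearIndependent : LinearIndependent ℂ (fun χ : IrrCharacter G => (χ : G → ℂ)) := by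
  have := Fintype.ofFinite G
  rw [linearIndependent_iff']
  intro s c hc ψ hψ
  have h1 : pair (∑ i ∈ s, c i • (i : G → ℂ)) (ψ : G → ℂ) = pair (0 : G → ℂ) (ψ : G → ℂ) := by
    rw [hc]
  rw [pair_sum_left] at h1
  simp_rw [pair_smul_left, irr_orthonormal] at h1
  have h2 : pair (0 : G → ℂ) (ψ : G → ℂ) = 0 := by
    unfold pair; simp
  rw [h2] at h1
  simpa [Finset.sum_ite_eq', hψ] using h1

instance irr_finite : Finite (IrrCharacter G) := by
  have := Fintype.ofFinite G
  exact (irr_linearIndependent (G := G)).finite_of_isNoetherian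

/-- the `Fintype` structure on the irreducible characters (depends only on `Finite G`) -/
noncomputable instance irrFintype : Fintype (IrrCharacter G) := Fintype.ofFinite _

end Irr

end Cfsg.Agent.Helper79
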