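import Cfsg.Agent.Lib.Helper79.NormalSums

set_option autoImplicit false
set_option linter.unusedSectionVars false
set_option linter.style.haveILetI false

namespace Cfsg.Agent.Helper79

open Module
open scoped ComplexConjugate

universe u v w

section Linear

variable {G : Type v} [Group G]

/-- the one-dimensional representation attached to a homomorphism to `ℂˣ` -/
def linRep (l : G →* ℂˣ) : Representation ℂ G (Fin 1 → ℂ) where
  toFun g := ((l g : ℂˣ) : ℂ) • LinearMap.id
  map_one' := by simp; rfl
  map_mul' a b := by
    ext v i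
    simp
    ring

theorem linRep_apply (l : G →* ℂˣ) (g : G) :
    linRep l g = ((l g : ℂˣ) : ℂ) • LinearMap.id := rfl

theorem linRep_character (l : G →* ℂˣ) (g : G) :
    (linRep l).character g = ((l g : ℂˣ) : ℂ) := by
  simp [Representation.character, linRep_apply]

theorem linRep_irreducible (l : G →* ℂˣ) : (linRep l).IsIrreducible := by
  have hfr : finrank ℂ (Fin 1 → ℂ) = 1 := by simp
  have hsimp : IsSimpleOrder (Submodule ℂ (Fin 1 → ℂ)) := is_simple_module_of_finrank_eq_one hfr
  have hnt : Nontrivial (Subrepresentation (linRep l)) := by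
    refine ⟨⊥, ⊤, ?_⟩
    intro h
    have h1 : (fun _ => 1 : Fin 1 → ℂ) ∈ (⊤ : Subrepresentation (linRep l)) := trivial
    rw [← h] at h1
    have h2 : (fun _ => 1 : Fin 1 → ℂ) = 0 := h1
    have := congrFun h2 0
    simp at this
  refine { toNontrivial := hnt, eq_bot_or_eq_top := ?_ }
  intro W
  rcases hsimp.eq_bot_or_eq_top W.toSubmodule with h | h
  · left; exact Subrepresentation.toSubmodule_injective h
  · right; exact Subrepresentation.toSubmodule_injective h

/-- the linear character attached to a homomorphism to `ℂˣ` -/
def linChar (l : G →* ℂˣ) : IrrCharacter G :=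
  ⟨fun g => ((l g : ℂˣ) : ℂ), ⟨1, linRep l, linRep_irreducible l, by
    ext g; exact linRep_character l g⟩⟩

theorem linChar_apply (l : G →* ℂˣ) (g : G) : (linChar l : G → ℂ) g = ((l g : ℂˣ) : ℂ) := rfl

theorem charDegree_linChar (l : G →* ℂˣ) : charDegree (linChar l : G → ℂ) = 1 := by
  unfold charDegree
  rw [linChar_apply]; simp

/-- the trivial character -/
def trivChar (G : Type v) [Group G] : IrrCharacter G := linChar (1 : G →* ℂˣ)

theorem trivChar_apply (g : G) : (trivChar G : G → ℂ) g = 1 := by
  simp [trivChar, linChar_apply]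

variable [Finite G]

theorem irrKer_linChar (l : G →* ℂˣ) : irrKer (linChar l) = l.ker := by
  ext g
  rw [mem_irrKer, linChar_apply, linChar_apply, MonoidHom.mem_ker, map_one]
  simp

end Linear

end Cfsg.Agent.Helper79
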