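import Mathlib

set_option autoImplicit false

namespace Cfsg.Agent.Helper79

open Polynomial

/-- Norm argument: if `F(ζ)/d` is an algebraic integer and all conjugates `F(η)` have absolute
value at most `d`, then `F(ζ) = 0` or `|F(ζ)| = d`. -/
theorem cyclo_norm_dichotomy (N : ℕ) (hN : 0 < N) (ζ : ℂ) (hζ : IsPrimitiveRoot ζ N) (F : ℤ[X])
    (d : ℕ) (hd : d ≠ 0) (hint : IsIntegral ℤ (aeval ζ F / (d : ℂ)))
    (hbound : ∀ η ∈ primitiveRoots N ℂ, ‖aeval η F‖ ≤ (d : ℝ)) :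
    aeval ζ F = 0 ∨ ‖aeval ζ F‖ = (d : ℝ) := by
  classical
  have : NeZero N := ⟨hN.ne'⟩
  have hcyc : IsCyclotomicExtension {N} ℚ (CyclotomicField N ℚ) :=
    CyclotomicField.isCyclotomicExtension N ℚ
  have hζK : IsPrimitiveRoot (IsCyclotomicExtension.zeta N ℚ (CyclotomicField N ℚ)) N :=
    IsCyclotomicExtension.zeta_spec N ℚ (CyclotomicField N ℚ)
  set ζK := IsCyclotomicExtension.zeta N ℚ (CyclotomicField N ℚ) with hζKdef
  have hirr : Irreducible (cyclotomic N ℚ) := cyclotomic.irreducible_rat hN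
  set x : CyclotomicField N ℚ := aeval ζK F / (d : CyclotomicField N ℚ) with hx
  have hσx : ∀ σ : CyclotomicField N ℚ →ₐ[ℚ] ℂ, σ x = aeval (σ ζK) F / (d : ℂ) := by
    intro σ
    rw [hx, map_div₀, map_natCast]
    congr 1
    exact (aeval_algHom_apply (σ : CyclotomicField N ℚ →+* ℂ).toIntAlgHom ζK F).symm
  set σ₀ : CyclotomicField N ℚ →ₐ[ℚ] ℂ :=
    (hζK.embeddingsEquivPrimitiveRoots ℂ hirr).symm ⟨ζ, (mem_primitiveRoots hN).2 hζ⟩ with hσ₀def
  have hσ₀ : σ₀ ζK = ζ := by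
    have := IsPrimitiveRoot.embeddingsEquivPrimitiveRoots_apply_coe hζK ℂ hirr σ₀
    rw [hσ₀def, Equiv.apply_symm_apply] at this
    exact this.symm
  have hxint : IsIntegral ℤ x := by
    have h1 : IsIntegral ℤ (σ₀ x) := by rw [hσx, hσ₀]; exact hint
    exact (isIntegral_algHom_iff (σ₀ : CyclotomicField N ℚ →+* ℂ).toIntAlgHom σ₀.injective).1 h1
  have hnorm : IsIntegral ℤ (Algebra.norm ℚ x) := Algebra.isIntegral_norm ℚ hxint
  obtain ⟨z, hz⟩ := IsIntegrallyClosed.isIntegral_iff.mp hnorm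
  have h1 := Algebra.norm_eq_prod_embeddings ℚ ℂ x
  rw [← hz] at h1
  simp only [algebraMap_int_eq, eq_intCast, eq_ratCast, Rat.cast_intCast] at h1
  have hdpos : (0 : ℝ) < (d : ℝ) := by exact_mod_cast Nat.pos_of_ne_zero hd
  have hdC : (d : ℂ) ≠ 0 := by exact_mod_cast hd
  have hle : ∀ σ : CyclotomicField N ℚ →ₐ[ℚ] ℂ, ‖σ x‖ ≤ 1 := by
    intro σ
    rw [hσx, norm_div, Complex.norm_natCast, div_le_one hdpos]
    apply hbound
    have := (hζK.embeddingsEquivPrimitiveRoots ℂ hirr σ).2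
    rwa [IsPrimitiveRoot.embeddingsEquivPrimitiveRoots_apply_coe] at this
  by_cases h0 : aeval ζ F = 0
  · exact Or.inl h0
  right
  have hζmem : ζ ∈ primitiveRoots N ℂ := (mem_primitiveRoots hN).2 hζ
  refine le_antisymm (hbound ζ hζmem) ?_
  by_contra hlt
  push Not at hlt
  have hσ₀lt : ‖σ₀ x‖ < 1 := by
    rw [hσx, hσ₀, norm_div, Complex.norm_natCast, div_lt_one hdpos]
    exact hlt
  have hzlt : ‖(z : ℂ)‖ < 1 := by
    rw [h1, norm_prod, ← Finset.mul_prod_erase Finset.univ _ (Finset.mem_univ σ₀)]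
    have h2 : ∏ σ ∈ Finset.univ.erase σ₀, ‖σ x‖ ≤ 1 :=
      Finset.prod_le_one (fun σ _ => norm_nonneg _) (fun σ _ => hle σ)
    have h3 : 0 ≤ ∏ σ ∈ Finset.univ.erase σ₀, ‖σ x‖ :=
      Finset.prod_nonneg (fun σ _ => norm_nonneg _)
    nlinarith [norm_nonneg (σ₀ x)]
  have hz0 : z = 0 := by
    by_contra hz0
    have : (1 : ℤ) ≤ |z| := Int.one_le_abs hz0
    have h4 : (1 : ℝ) ≤ |(z : ℝ)| := by exact_mod_cast this
    have h5 : ‖(z : ℂ)‖ = |(z : ℝ)| := by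
      rw [← Complex.ofReal_intCast, Complex.norm_real, Real.norm_eq_abs]
    rw [h5] at hzlt
    linarith
  rw [hz0] at hz
  simp only [algebraMap_int_eq, eq_intCast, Int.cast_zero] at hz
  have hx0 : x = 0 := Algebra.norm_eq_zero_iff.1 hz.symm
  apply h0
  have := hσx σ₀
  rw [hx0, map_zero, hσ₀] at this
  have h6 := this.symm
  rw [div_eq_zero_iff] at h6
  exact h6.resolve_right hdC

end Cfsg.Agent.Helper79
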