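import Cfsg.Agent.Lib.Helper79.LinearDeg
import Cfsg.Agent.Lib.Helper79.Linear
import Cfsg.Agent.Lib.Helper81.CharAbel

set_option autoImplicit false
set_option linter.unusedSectionVars false
set_option linter.style.haveILetI false

namespace Cfsg.Agent.Helper79

open Module
open scoped ComplexConjugate

universe u v

section LinearChars

variable {G : Type v} [Group G] [Finite G]

/-- a character of degree one is multiplicative with values of absolute value one -/
theorem irr_mul_of_degree_one (χ : IrrCharacter G) (h : charDegree (χ : G → ℂ) = 1) (z g : G) :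
    (χ : G → ℂ) (z * g) = (χ : G → ℂ) z * (χ : G → ℂ) g ∧
      (χ : G → ℂ) z * conj ((χ : G → ℂ) z) = 1 := by
  have := Fintype.ofFinite G
  have h1 := (irr_one_eq χ).1
  rw [h] at h1
  obtain ⟨n, ρ, hρ, hχ⟩ := χ.2
  have hn : finrank ℂ (Fin n → ℂ) = 1 := by
    have h2 : (χ : G → ℂ) 1 = (finrank ℂ (Fin n → ℂ) : ℂ) := by
      rw [← hχ, Representation.char_one]
    rw [h2] at h1
    exact_mod_cast h1
  obtain ⟨l, hl, hl1⟩ := scalar_of_commute ρ z (fun g => by
    rw [← Module.End.mul_eq_comp, ← Module.End.mul_eq_comp]
    exact end_comm_of_finrank_eq_one hn _ _)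
  have hz : (χ : G → ℂ) z = l := by
    rw [← hχ]
    unfold Representation.character
    rw [hl, map_smul, smul_eq_mul]
    have : LinearMap.trace ℂ (Fin n → ℂ) 1 = (finrank ℂ (Fin n → ℂ) : ℂ) := by
      exact LinearMap.trace_one ℂ (Fin n → ℂ)
    rw [this, hn]; simp
  refine ⟨?_, ?_⟩
  · rw [hz, ← hχ]
    unfold Representation.character
    rw [map_mul, hl, smul_mul_assoc, one_mul, map_smul, smul_eq_mul]
  · rw [hz, mul_comm]; exact hl1

/-- the product of a linear character with an irreducible character -/
noncomputable def mulLinear (l χ : IrrCharacter G) (h : charDegree (l : G → ℂ) = 1) :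
    IrrCharacter G :=
  ⟨(l : G → ℂ) * (χ : G → ℂ), by
    have := Fintype.ofFinite G
    refine Cfsg.Agent.Helper81.isIrrCharacter_mul_linear ?_ (fun a b => (irr_mul_of_degree_one l h a b).1)
      (fun a => (irr_mul_of_degree_one l h a 1).2) χ.2
    rw [(irr_one_eq l).1, h]; simp⟩

theorem mulLinear_apply (l χ : IrrCharacter G) (h : charDegree (l : G → ℂ) = 1) (g : G) :
    (mulLinear l χ h : G → ℂ) g = (l : G → ℂ) g * (χ : G → ℂ) g := rfl

theorem charDegree_mulLinear (l χ : IrrCharacter G) (h : charDegree (l : G → ℂ) = 1) :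
    charDegree (mulLinear l χ h : G → ℂ) = charDegree (χ : G → ℂ) := by
  unfold charDegree
  rw [mulLinear_apply, (irr_one_eq l).1, h]
  simp

theorem eq_trivChar_iff (χ : IrrCharacter G) :
    χ = trivChar G ↔ (χ : G → ℂ) = fun _ => (1 : ℂ) := by
  constructor
  · intro h; rw [h]; funext g; exact trivChar_apply g
  · intro h; apply Subtype.ext; rw [h]; funext g; exact (trivChar_apply g).symm

theorem charDegree_trivChar : charDegree (trivChar G : G → ℂ) = 1 :=
  charDegree_linChar _

/-- a non-perfect group has a nontrivial linear character -/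
theorem exists_nontrivial_linear (h : commutator G ≠ ⊤) :
    ∃ χ : IrrCharacter G, charDegree (χ : G → ℂ) = 1 ∧ χ ≠ trivChar G := by
  classical
  by_contra hcon
  push Not at hcon
  have h1 := sum_sq_degree_of_le_ker (commutator G)
  have h2 : Finset.univ.filter (fun χ : IrrCharacter G => commutator G ≤ irrKer χ)
      = {trivChar G} := by
    ext χ
    simp only [Finset.mem_filter, Finset.mem_univ, true_and, Finset.mem_singleton]
    constructor
    · intro hχ
      exact hcon χ (degree_one_of_commutator_le_irrKer χ hχ)
    · intro hχ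
      rw [hχ]
      exact commutator_le_irrKer_of_degree_one _ charDegree_trivChar
  rw [h2, Finset.sum_singleton, charDegree_trivChar] at h1
  exact h (Subgroup.index_eq_one.1 h1.symm)

/-- a group with a nontrivial linear character is not perfect -/
theorem commutator_ne_top_of_linear (χ : IrrCharacter G) (h : charDegree (χ : G → ℂ) = 1)
    (hne : χ ≠ trivChar G) : commutator G ≠ ⊤ := by
  intro htop
  apply hne
  rw [eq_trivChar_iff]
  funext g
  have h1 := commutator_le_irrKer_of_degree_one χ h
  rw [htop] at h1
  have h2 : g ∈ irrKer χ := h1 (Subgroup.mem_top g)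
  rw [mem_irrKer, (irr_one_eq χ).1, h] at h2
  rw [h2]; simp

end LinearChars

end Cfsg.Agent.Helper79
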