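import Mathlib
import Cfsg.Agent.Lib.Helper2.SR0

/-!
# SR (C1) for helper2's server (S2281): `P * P⁻¹ = 1` for `P = 1 + N`.
-/

set_option autoImplicit false

namespace Cfsg.Agent.Helper79.SR

open Matrix Cfsg Cfsg.Agent.Helper13 Cfsg.Agent.Helper84.SpRoot Cfsg.Agent.Helper5.SpAut
open Cfsg.Agent.Helper2.SR

section C
variable {F : Type*} [Field F] {m : ℕ}

/-- `(N * Pinv) i k`: the row `i + 1` of `Pinv` (or zero) -/
theorem h79_N_mul_Pinv (i k : Fin (m + 2)) :
    (Nm m F * Pinv m F) i k =
      if h : i.val + 1 < m + 2 then Pinv m F ⟨i.val + 1, h⟩ k else 0 := by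
  rw [Matrix.mul_apply]
  split_ifs with h
  · rw [Finset.sum_eq_single (⟨i.val + 1, h⟩ : Fin (m + 2))]
    · simp [Nm]
    · intro j _ hj
      have : ¬ (i.val + 1 = j.val) := fun h' => hj (Fin.ext h'.symm)
      simp [Nm, this]
    · intro h'; exact absurd (Finset.mem_univ _) h'
  · apply Finset.sum_eq_zero
    intro j _
    have : ¬ (i.val + 1 = j.val) := fun h' => h (h' ▸ j.isLt)
    simp [Nm, this]

/-- (C1) -/
theorem P_mul_Pinv : Pm m F * Pinv m F = 1 ∧ Pinv m F * Pm m F = 1 := by
  have h1 : Pm m F * Pinv m F = 1 := by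
    ext i k
    rw [Pm, Matrix.add_mul, Matrix.one_mul, Matrix.add_apply, h79_N_mul_Pinv]
    rw [Matrix.one_apply]
    by_cases hik : i = k
    · subst hik
      rw [if_pos rfl]
      split_ifs with h
      · simp only [Pinv, Matrix.of_apply, le_refl, if_true, Nat.sub_self, pow_zero]
        rw [if_neg (by simp)]
        simp
      · simp [Pinv]
    · rw [if_neg hik]
      have hne : i.val ≠ k.val := fun h => hik (Fin.ext h)
      split_ifs with h
      · simp only [Pinv, Matrix.of_apply]
        by_cases hle : i.val ≤ k.val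
        · have hlt : i.val + 1 ≤ k.val := by omega
          rw [if_pos hle, if_pos hlt]
          have : k.val - i.val = (k.val - (i.val + 1)) + 1 := by omega
          rw [this, pow_succ]
          ring
        · rw [if_neg hle, if_neg (by omega), add_zero]
      · simp only [Pinv, Matrix.of_apply]
        have : ¬ i.val ≤ k.val := by
          have := k.isLt
          omega
        rw [if_neg this, add_zero]
  exact ⟨h1, mul_eq_one_comm.1 h1⟩

end C

end Cfsg.Agent.Helper79.SR
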