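import Mathlib
import Cfsg.Agent.Lib.Helper2.SR0
import Cfsg.Agent.Lib.Helper79.SRC1

/-!
# SR (C2) for helper2's server (S2281): the matrix `uM s` is symplectic, so `uEl s` has value `uM s`.
-/

set_option autoImplicit false

namespace Cfsg.Agent.Helper79.SR

open Matrix Cfsg Cfsg.Agent.Helper13 Cfsg.Agent.Helper84.SpRoot Cfsg.Agent.Helper5.SpAut
open Cfsg.Agent.Helper2.SR

section C
variable {F : Type*} [Field F] {m : ℕ}

theorem h79_Ym_transpose (s : F) : (Ym (m := m) s)ᵀ = Ym s := by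
  ext i j
  simp only [Ym, Matrix.transpose_apply, Matrix.of_apply]
  by_cases h : j = jB ∧ i = jB
  · rw [if_pos h, if_pos ⟨h.2, h.1⟩]
  · rw [if_neg h, if_neg (fun h' => h ⟨h'.2, h'.1⟩)]

theorem h79_uM_mem (s : F) : uM (m := m) s ∈ Matrix.symplecticGroup (Fin (m + 2)) F := by
  rw [SymplecticGroup.mem_iff]
  have h1 : Pm m F * Pinv m F = 1 := P_mul_Pinv.1
  have h2 : (Pinv m F)ᵀ * (Pm m F)ᵀ = 1 := by
    rw [← Matrix.transpose_mul, h1, Matrix.transpose_one]
  unfold uM Matrix.J
  rw [Matrix.fromBlocks_multiply, Matrix.fromBlocks_transpose, Matrix.fromBlocks_multiply]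
  congr 1
  · simp only [Matrix.mul_zero, Matrix.mul_one, zero_add, Matrix.transpose_mul, h79_Ym_transpose,
      Matrix.mul_neg, Matrix.neg_mul]
    rw [Matrix.mul_assoc]
    simp
  · simp only [Matrix.mul_zero, Matrix.mul_one, add_zero, Matrix.mul_neg, Matrix.neg_mul,
      Matrix.transpose_transpose, h1, zero_add, Matrix.transpose_zero]
  · simp only [Matrix.mul_zero, Matrix.zero_mul, Matrix.mul_one, zero_add, add_zero, h2]
  · simp only [Matrix.mul_zero, Matrix.zero_mul, Matrix.mul_one, zero_add, add_zero,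
      Matrix.transpose_zero, Matrix.mul_neg, neg_zero]

/-- (C2) uses C1 -/
theorem uEl_val (s : F) : (uEl (m := m) s).val = uM s := by
  unfold uEl
  rw [dif_pos (h79_uM_mem s)]

end C

end Cfsg.Agent.Helper79.SR
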