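import Mathlib
import Cfsg.Agent.Lib.Helper2.SR0
import Cfsg.Agent.Lib.Helper79.SRC2

/-!
# SR (C3) for helper2's server (S2281): the inverse of `uEl s` has value `uinvM s`.
-/

set_option autoImplicit false

namespace Cfsg.Agent.Helper79.SR

open Matrix Cfsg Cfsg.Agent.Helper13 Cfsg.Agent.Helper84.SpRoot Cfsg.Agent.Helper5.SpAut
open Cfsg.Agent.Helper2.SR

section C
variable {F : Type*} [Field F] {m : ℕ}

theorem h79_uM_mul_uinvM (s : F) : uM (m := m) s * uinvM s = 1 := by
  have h1 : Pm m F * Pinv m F = 1 := P_mul_Pinv.1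
  have h2 : (Pinv m F)ᵀ * (Pm m F)ᵀ = 1 := by
    rw [← Matrix.transpose_mul, h1, Matrix.transpose_one]
  unfold uM uinvM
  rw [Matrix.fromBlocks_multiply, ← Matrix.fromBlocks_one]
  congr 1
  · simp only [Matrix.mul_zero, add_zero, h1]
  · simp only [Matrix.mul_neg, Matrix.mul_assoc]
    simp
  · simp only [Matrix.mul_zero, Matrix.zero_mul, add_zero]
  · simp only [Matrix.zero_mul, zero_add, h2]

/-- (C3) `uM s * uinvM s = 1`; uses C1 C2 -/
theorem uEl_inv_val (s : F) : ((uEl (m := m) s)⁻¹).val = uinvM s := by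
  have h1 : ((uEl (m := m) s)⁻¹).val * uM s = 1 := by
    rw [← uEl_val s]
    have := congrArg Subtype.val (inv_mul_cancel (uEl (m := m) s))
    exact this
  calc ((uEl (m := m) s)⁻¹).val = ((uEl (m := m) s)⁻¹).val * (uM s * uinvM s) := by
        rw [h79_uM_mul_uinvM, Matrix.mul_one]
    _ = uinvM s := by rw [← Matrix.mul_assoc, h1, Matrix.one_mul]

end C

end Cfsg.Agent.Helper79.SR
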