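import Mathlib

/-!
# S2720 (helper79): shared definition for the lemma server "OSP"

`Block Q t W W'`: the output of the two block constructions (simple nondegenerate / hyperbolic):
an isometry `s` of `(V, Q)` commuting with `t`, preserving `W`, identity on `W'`, such that `⟨s⟩` acts
semiregularly with even period `N > 0` on `W ∖ 0` and `#{w ∈ W : Q w = 1} = N * (odd)`.
-/

set_option autoImplicit false

namespace Cfsg.Agent.Helper79.OSP

open QuadraticMap

variable {F : Type*} [Field F] {V : Type*} [AddCommGroup V] [Module F V]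

/-- the conclusion of the block constructions -/
def Block (Q : QuadraticForm F V) (t : V →ₗ[F] V) (W W' : Submodule F V) : Prop :=
  ∃ (s : V ≃ₗ[F] V) (N k : ℕ), (∀ v, Q (s v) = Q v) ∧ (∀ v, s (t v) = t (s v)) ∧
    (∀ w ∈ W, s w ∈ W) ∧ (∀ w' ∈ W', s w' = w') ∧ 0 < N ∧ Even N ∧ Odd k ∧ s ^ N = 1 ∧
    (∀ w ∈ W, w ≠ 0 → ∀ j : ℕ, (s ^ j) w = w → N ∣ j) ∧
    Nat.card {w : V // w ∈ W ∧ Q w = 1} = N * k

end Cfsg.Agent.Helper79.OSP
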