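import Mathlib
import Cfsg.Agent.Lib.Helper93.RU0

/-!
# RU (B1), (B2), (B6), (B7): the Jordan blocks `u = 1 + N`, `l = 1 + L_ε` and their actions
-/

set_option autoImplicit false

namespace Cfsg.Agent.Helper79.RU

open Matrix Cfsg.Agent.Helper93.RU

variable {F : Type*} [Field F] {m : ℕ}

theorem h79_det_one_add_N : (1 + Nmat m F).det = 1 := by
  rw [Matrix.det_of_isUpperTriangular]
  · apply Finset.prod_eq_one
    intro i _
    simp [Nmat]
  · intro i j hij
    have hij' : j < i := hij
    have h1 : ¬ (i.val + 1 = j.val) := by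
      have := Fin.lt_def.mp hij'
      omega
    have h2 : i ≠ j := ne_of_gt hij'
    simp [Nmat, h1, h2]

theorem h79_det_one_add_L (ε : F) : (1 + Lmat (m := m) ε).det = 1 := by
  rw [Matrix.det_of_isLowerTriangular]
  · apply Finset.prod_eq_one
    intro i _
    simp [Lmat]
  · intro i j hij
    have hij' : i < j := hij
    have h1 : ¬ (j.val + 1 = i.val) := by
      have := Fin.lt_def.mp hij'
      omega
    have h2 : i ≠ j := ne_of_lt hij'
    simp [Lmat, h1, h2]

/-- (B1) -/
theorem uEl_val : (uEl m F).1 = 1 + Nmat m F := by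
  have h := h79_det_one_add_N (F := F) (m := m)
  have h1 : uEl m F = ⟨1 + Nmat m F, h⟩ := dif_pos h
  rw [h1]

/-- (B2) -/
theorem lEl_val (ε : F) : (lEl (m := m) ε).1 = 1 + Lmat ε := by
  have h := h79_det_one_add_L (m := m) ε
  have h1 : lEl (m := m) ε = ⟨1 + Lmat ε, h⟩ := dif_pos h
  rw [h1]

/-- (B6) row and column action of `u`. -/
theorem uEl_act (φ : Fin (m + 3) → F) :
    (uEl m F).1 *ᵥ eV 0 = eV 0 ∧ φ ᵥ* (uEl m F).1 = φ + shR φ := by
  rw [uEl_val]
  constructor
  · rw [Matrix.add_mulVec, Matrix.one_mulVec]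
    have h1 : Nmat m F *ᵥ eV 0 = 0 := by
      funext i
      simp [Matrix.mulVec, dotProduct, eV, Nmat, Pi.single_apply]
    rw [h1, add_zero]
  · rw [Matrix.vecMul_add, Matrix.vecMul_one]
    congr 1
    funext j
    simp only [Matrix.vecMul, dotProduct, Nmat, Matrix.of_apply, shR]
    by_cases hj : j.val = 0
    · rw [dif_pos hj]
      apply Finset.sum_eq_zero
      intro i _
      have : ¬ (i.val + 1 = j.val) := by omega
      rw [if_neg this, mul_zero]
    · rw [dif_neg hj]
      rw [Finset.sum_eq_single (⟨j.val - 1, by have := j.isLt; omega⟩ : Fin (m + 3))]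
      · have : (j.val - 1) + 1 = j.val := by omega
        simp [this]
      · intro i _ hi
        have : ¬ (i.val + 1 = j.val) := by
          intro h
          apply hi
          apply Fin.ext
          simp only
          omega
        rw [if_neg this, mul_zero]
      · intro h
        exact absurd (Finset.mem_univ _) h

/-- (B7) column action of `l`: `l e_k = e_k + c_k e_{k+1}`. -/
theorem lEl_mulVec (ε : F) (k : Fin (m + 3)) (hk : k.val + 1 < m + 3) :
    (lEl (m := m) ε).1 *ᵥ eV k = eV k + (if k.val = 0 then ε else 1) • eV ⟨k.val + 1, hk⟩ := by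
  rw [lEl_val, Matrix.add_mulVec, Matrix.one_mulVec]
  congr 1
  funext i
  have h1 : (Lmat (m := m) ε *ᵥ eV k) i = Lmat (m := m) ε i k := by
    simp [Matrix.mulVec, dotProduct, eV, Pi.single_apply]
  rw [h1]
  simp only [Lmat, Matrix.of_apply, Pi.smul_apply, eV, Pi.single_apply, smul_eq_mul]
  by_cases hi : k.val + 1 = i.val
  · have h2 : i = ⟨k.val + 1, hk⟩ := Fin.ext hi.symm
    rw [if_pos hi, if_pos h2, mul_one]
  · have h2 : ¬ (i = ⟨k.val + 1, hk⟩) := by
      intro h
      apply hi
      rw [h]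
    rw [if_neg hi, if_neg h2, mul_zero]

end Cfsg.Agent.Helper79.RU
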