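import Cfsg.Agent.Lib.Helper79.Inflation

set_option autoImplicit false
set_option linter.unusedSectionVars false
set_option linter.style.haveILetI false

namespace Cfsg.Agent.Helper79

open Module
open scoped ComplexConjugate

universe u v w

section Codegree

variable {G : Type v} [Group G] [Finite G]

/-- the degree divides the index of the kernel -/
theorem degree_dvd_index_irrKer (χ : IrrCharacter G) :
    charDegree (χ : G → ℂ) ∣ (irrKer χ).index := by
  obtain ⟨ψ, hψ⟩ := exists_deflate (irrKer χ) χ le_rfl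
  have h1 := irr_degree_dvd_card ψ
  rw [← charDegree_inflate (irrKer χ) ψ, hψ] at h1
  rwa [Subgroup.index_eq_card]

theorem ker_mul_degree_dvd_card (χ : IrrCharacter G) :
    Nat.card (irrKer χ) * charDegree (χ : G → ℂ) ∣ Nat.card G := by
  rw [← Subgroup.card_mul_index (irrKer χ)]
  exact Nat.mul_dvd_mul_left _ (degree_dvd_index_irrKer χ)

/-- the codegree expression equals index of kernel divided by degree -/
theorem codegree_eq (χ : IrrCharacter G) :
    Nat.card G / (Nat.card {g : G // (χ : G → ℂ) g = (χ : G → ℂ) 1} * charDegree (χ : G → ℂ)) =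
      (irrKer χ).index / charDegree (χ : G → ℂ) := by
  rw [card_irrKer, ← Subgroup.card_mul_index (irrKer χ)]
  exact Nat.mul_div_mul_left _ _ Nat.card_pos

theorem codegree_mul (χ : IrrCharacter G) :
    (Nat.card G / (Nat.card {g : G // (χ : G → ℂ) g = (χ : G → ℂ) 1} * charDegree (χ : G → ℂ))) *
      charDegree (χ : G → ℂ) = (irrKer χ).index := by
  rw [codegree_eq]
  exact Nat.div_mul_cancel (degree_dvd_index_irrKer χ)

theorem codegree_dvd_card (χ : IrrCharacter G) :
    (Nat.card G / (Nat.card {g : G // (χ : G → ℂ) g = (χ : G → ℂ) 1} * charDegree (χ : G → ℂ)))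
      ∣ Nat.card G := by
  rw [card_irrKer]
  exact Nat.div_dvd_of_dvd (ker_mul_degree_dvd_card χ)

/-- codegree is preserved by inflation -/
theorem codegree_inflate (N : Subgroup G) [N.Normal] (ψ : IrrCharacter (G ⧸ N)) :
    Nat.card G / (Nat.card {g : G // (inflate N ψ : G → ℂ) g = (inflate N ψ : G → ℂ) 1} *
      charDegree (inflate N ψ : G → ℂ)) =
    Nat.card (G ⧸ N) / (Nat.card {x : G ⧸ N // (ψ : G ⧸ N → ℂ) x = (ψ : G ⧸ N → ℂ) 1} *
      charDegree (ψ : G ⧸ N → ℂ)) := by
  rw [card_irrKer, card_irrKer, card_irrKer_inflate, charDegree_inflate,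
    Subgroup.card_eq_card_quotient_mul_card_subgroup N, mul_comm (Nat.card (G ⧸ N)), mul_assoc]
  exact Nat.mul_div_mul_left _ _ Nat.card_pos

/-- existence of a minimal normal subgroup -/
theorem exists_minimal_normal [Nontrivial G] :
    ∃ N : Subgroup G, N.Normal ∧ N ≠ ⊥ ∧
      ∀ M : Subgroup G, M.Normal → M ≠ ⊥ → M ≤ N → M = N := by
  have hne : {N : Subgroup G | N.Normal ∧ N ≠ ⊥}.Nonempty :=
    ⟨⊤, inferInstance, top_ne_bot⟩
  obtain ⟨N, hN, hmin⟩ := wellFounded_lt.has_min _ hne
  refine ⟨N, hN.1, hN.2, ?_⟩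
  intro M hM1 hM2 hMN
  rcases eq_or_lt_of_le hMN with h | h
  · exact h
  · exact absurd h (hmin M ⟨hM1, hM2⟩)

end Codegree

end Cfsg.Agent.Helper79
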