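import Mathlib
import Cfsg.Agent.S0015

set_option autoImplicit false
set_option linter.unusedSectionVars false
set_option linter.style.haveILetI false

namespace Cfsg.Agent.Helper79

section NilpAux

variable {G : Type*} [Group G] [Finite G]

/-- the order of the join with a normal subgroup divides the product of the orders -/
theorem card_sup_dvd_mul_of_normal (H K : Subgroup G) [K.Normal] :
    Nat.card (H ⊔ K : Subgroup G) ∣ Nat.card K * Nat.card H := by
  have h1 : Nat.card K * K.relIndex (H ⊔ K) = Nat.card (H ⊔ K : Subgroup G) := by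
    have := Subgroup.relIndex_mul_relIndex (⊥ : Subgroup G) K (H ⊔ K) bot_le le_sup_right
    rwa [Subgroup.relIndex_bot_left, Subgroup.relIndex_bot_left] at this
  rw [← h1, Subgroup.relIndex_sup_right]
  exact Nat.mul_dvd_mul_left _ (Subgroup.relIndex_dvd_card K H)

/-- a finite nilpotent group has a normal `p`-complement -/
theorem exists_normal_pcomplement_of_nilpotent [hG : Group.IsNilpotent G] (p : ℕ)
    [hp : Fact p.Prime] :
    ∃ H : Subgroup G, H.Normal ∧ (Nat.card H).Coprime p ∧ ∃ k : ℕ, H.index = p ^ k := by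
  classical
  have hsyl : ∀ (q : ℕ) (_hq : Fact q.Prime) (Q : Sylow q G), (Q : Subgroup G).Normal :=
    ((Group.isNilpotent_of_finite_tfae (G := G)).out 0 3).mp hG
  let S := {N : Subgroup G // N.Normal ∧ (Nat.card N).Coprime p}
  have hne : Nonempty S := ⟨⟨⊥, inferInstance, by simp⟩⟩
  obtain ⟨⟨K, hKn, hKc⟩, hKmax⟩ := Finite.exists_max (fun N : S => Nat.card (N.1 : Subgroup G))
  have hle : ∀ N : Subgroup G, N.Normal → (Nat.card N).Coprime p → N ≤ K := by
    intro N hN hNc
    have := hKn
    have hsn : (N ⊔ K).Normal := Subgroup.sup_normal N K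
    have hsc : (Nat.card (N ⊔ K : Subgroup G)).Coprime p :=
      Nat.Coprime.coprime_dvd_left (card_sup_dvd_mul_of_normal N K) (Nat.Coprime.mul_left hKc hNc)
    have h1 := hKmax ⟨N ⊔ K, hsn, hsc⟩
    have h2 : K = N ⊔ K :=
      Subgroup.eq_of_le_of_card_ge le_sup_right h1
    rw [h2]
    exact le_sup_left
  refine ⟨K, hKn, hKc, K.index.primeFactorsList.length, ?_⟩
  apply Nat.eq_prime_pow_of_unique_prime_dvd
  · exact Subgroup.index_ne_zero_of_finite
  · intro q hq hqd
    by_contra hne
    have : Fact q.Prime := ⟨hq⟩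
    let Q : Sylow q G := default
    have hQn := hsyl q ⟨hq⟩ Q
    have hQc : (Nat.card (Q : Subgroup G)).Coprime p := by
      obtain ⟨m, hm⟩ := IsPGroup.iff_card.mp Q.isPGroup'
      rw [hm]
      exact Nat.Coprime.pow_left m ((Nat.coprime_primes hq hp.out).mpr hne)
    have hQK : (Q : Subgroup G) ≤ K := hle _ hQn hQc
    have h1 : K.index ∣ (Q : Subgroup G).index := Subgroup.index_dvd_of_le hQK
    exact Q.not_dvd_index (hqd.trans h1)

/-- in a nilpotent group, a nontrivial normal subgroup that is minimal among the nontrivial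
normal subgroups it contains is central -/
theorem le_center_of_minimal_normal [hG : Group.IsNilpotent G] (N : Subgroup G) [N.Normal]
    (hN : N ≠ ⊥) (hmin : ∀ M : Subgroup G, M.Normal → M ≤ N → M ≠ ⊥ → M = N) :
    N ≤ Subgroup.center G := by
  have h1 := Cfsg.Agent.S0015.normal_inf_center_ne_bot N hN
  have h2 : (N ⊓ Subgroup.center G).Normal := inferInstance
  have h3 := hmin _ h2 inf_le_left h1
  rw [← h3]
  exact inf_le_right

/-- in a `p`-group, a minimal normal subgroup is central of order `p` -/
theorem card_eq_prime_of_minimal_normal (p : ℕ) [hp : Fact p.Prime] (hG : IsPGroup p G)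
    (N : Subgroup G) [N.Normal]
    (hN : N ≠ ⊥) (hmin : ∀ M : Subgroup G, M.Normal → M ≤ N → M ≠ ⊥ → M = N) :
    N ≤ Subgroup.center G ∧ Nat.card N = p := by
  have hnil : Group.IsNilpotent G := hG.isNilpotent
  have hc := le_center_of_minimal_normal N hN hmin
  refine ⟨hc, ?_⟩
  -- an element of order p in N
  have hNp : IsPGroup p N := hG.to_subgroup N
  have hnt : Nontrivial N := (Subgroup.nontrivial_iff_ne_bot N).2 hN
  obtain ⟨k, hk⟩ := IsPGroup.iff_card.mp hNp
  have hk0 : k ≠ 0 := by
    intro h0
    rw [h0, pow_zero] at hk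
    have := (Nat.card_eq_one_iff_unique.1 hk).1
    exact not_subsingleton N this
  have hdvd : p ∣ Nat.card N := by rw [hk]; exact dvd_pow_self p hk0
  obtain ⟨x, hx⟩ := exists_prime_orderOf_dvd_card' p hdvd
  set M : Subgroup G := Subgroup.zpowers (x : G) with hM
  have hMle : M ≤ N := by
    rw [hM, Subgroup.zpowers_le]; exact x.2
  have hMn : M.Normal := by
    constructor
    intro y hy g
    have hyc : y ∈ Subgroup.center G := hc (hMle hy)
    have : g * y * g⁻¹ = y := by
      rw [Subgroup.mem_center_iff] at hyc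
      rw [hyc g, mul_inv_cancel_right]
    rw [this]; exact hy
  have hMne : M ≠ ⊥ := by
    intro h
    rw [hM, Subgroup.zpowers_eq_bot] at h
    have h1 : orderOf (x : G) = p := by rw [Subgroup.orderOf_coe]; exact hx
    rw [h, orderOf_one] at h1
    exact hp.out.one_lt.ne h1
  have hMN := hmin M hMn hMle hMne
  rw [← hMN, hM, Nat.card_zpowers, Subgroup.orderOf_coe, hx]

end NilpAux

end Cfsg.Agent.Helper79
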