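import Cfsg.Agent.Lib.Helper79.CenterDegree

set_option autoImplicit false
set_option linter.unusedSectionVars false
set_option linter.style.haveILetI false

namespace Cfsg.Agent.Helper79

open Module
open scoped ComplexConjugate

universe u v

section Restrict

variable {G : Type v} [Group G]

theorem pair_comm [Fintype G] (f h : G → ℂ) : pair f h = pair h f := by
  unfold pair
  congr 1
  rw [← Equiv.sum_comp (Equiv.inv G)]
  apply Finset.sum_congr rfl
  intro g _
  simp only [Equiv.inv_apply, inv_inv]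
  ring

/-- the multiplicity of an irreducible character of a subgroup in the restriction of an
irreducible character is a natural number -/
theorem pair_res_nat [Finite G] (χ : IrrCharacter G) (C : Subgroup G) [Fintype C]
    (ψ : IrrCharacter C) :
    ∃ n : ℕ, pair (fun c : C => (χ : G → ℂ) c) (ψ : C → ℂ) = (n : ℂ) := by
  obtain ⟨n, ρ, hρ, hχ⟩ := χ.2
  obtain ⟨m, τ, hτ, hψ⟩ := ψ.2
  have : Invertible (Nat.card C : ℂ) := invertibleOfNonzero card_ne_zero_complex
  have h := Representation.card_inv_mul_sum_char_mul_char_eq_finrank τ (ρ.comp C.subtype)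
  refine ⟨finrank ℂ (τ.IntertwiningMap (ρ.comp C.subtype)), ?_⟩
  rw [← h]
  unfold pair
  congr 1
  apply Finset.sum_congr rfl
  intro c _
  rw [← hχ, ← hψ]
  rfl

/-- `|ψ(z)|² = ψ(1)²` for central `z` -/
theorem irr_normSq_central [Finite G] (ψ : IrrCharacter G) (z : G) (hz : z ∈ Subgroup.center G) :
    Complex.normSq ((ψ : G → ℂ) z) = ((charDegree (ψ : G → ℂ) : ℕ) : ℝ) ^ 2 := by
  have := Fintype.ofFinite G
  have h1 := (irr_one_eq ψ).1
  obtain ⟨n, ρ, hρ, hχ⟩ := ψ.2
  obtain ⟨l, hl, hl1⟩ := center_scalar ρ z hz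
  have h2 : (ψ : G → ℂ) z = l * (ψ : G → ℂ) 1 := by
    rw [← hχ]
    unfold Representation.character
    rw [hl, map_smul, smul_eq_mul, map_one ρ]
  rw [h2, h1, Complex.normSq_mul, Complex.normSq_natCast]
  have h3 : Complex.normSq l = 1 := by
    have := Complex.mul_conj l
    rw [mul_comm, hl1] at this
    exact_mod_cast this.symm
  rw [h3, one_mul, sq]

/-- `∑ |ψ(g)|² = |G|` -/
theorem irr_sum_normSq [Fintype G] (ψ : IrrCharacter G) :
    ∑ g : G, Complex.normSq ((ψ : G → ℂ) g) = (Nat.card G : ℝ) := by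
  have h := irr_orthonormal ψ ψ
  rw [if_pos rfl] at h
  unfold pair at h
  have h1 : ∀ g : G, (ψ : G → ℂ) g * (ψ : G → ℂ) g⁻¹ = ((Complex.normSq ((ψ : G → ℂ) g) : ℝ) : ℂ) := by
    intro g
    rw [irr_inv, Complex.mul_conj]
  simp_rw [h1] at h
  rw [← Complex.ofReal_sum] at h
  have h2 : ((∑ g : G, Complex.normSq ((ψ : G → ℂ) g) : ℝ) : ℂ) = ((Nat.card G : ℝ) : ℂ) := by
    have := congrArg (fun z => (Nat.card G : ℂ) * z) h
    simp only [mul_one] at this
    rw [← mul_assoc, mul_inv_cancel₀ card_ne_zero_complex, one_mul] at this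
    rw [this]; simp
  exact_mod_cast h2

/-- if `Z` is a central subgroup then `|Z| ψ(1)² ≤ |G|` -/
theorem card_central_mul_sq_le [Finite G] (ψ : IrrCharacter G) (Z : Subgroup G)
    (hZ : Z ≤ Subgroup.center G) :
    Nat.card Z * (charDegree (ψ : G → ℂ)) ^ 2 ≤ Nat.card G := by
  classical
  have := Fintype.ofFinite G
  have h1 := irr_sum_normSq ψ
  have h2 : ∑ g ∈ Finset.univ.filter (fun g : G => g ∈ Z), Complex.normSq ((ψ : G → ℂ) g)
      ≤ ∑ g : G, Complex.normSq ((ψ : G → ℂ) g) :=
    Finset.sum_le_sum_of_subset_of_nonneg (Finset.filter_subset _ _)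
      (fun g _ _ => Complex.normSq_nonneg _)
  have h3 : ∑ g ∈ Finset.univ.filter (fun g : G => g ∈ Z), Complex.normSq ((ψ : G → ℂ) g)
      = (Nat.card Z : ℝ) * ((charDegree (ψ : G → ℂ) : ℕ) : ℝ) ^ 2 := by
    rw [Finset.sum_congr rfl (fun g hg => irr_normSq_central ψ g (hZ (Finset.mem_filter.1 hg).2)),
      Finset.sum_const, nsmul_eq_mul]
    congr 2
    rw [Nat.card_eq_fintype_card, Fintype.card_subtype]
  rw [h3, h1] at h2
  exact_mod_cast h2

/-- restriction of an irreducible character to a subgroup: natural multiplicities whose squares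
sum to at most the index -/
theorem res_expansion [Finite G] (χ : IrrCharacter G) (C : Subgroup G) :
    ∃ n : IrrCharacter C → ℕ,
      (∀ c : C, (χ : G → ℂ) c = ∑ ψ : IrrCharacter C, (n ψ : ℂ) * (ψ : C → ℂ) c) ∧
      (∑ ψ : IrrCharacter C, (n ψ) ^ 2) * Nat.card C ≤ Nat.card G := by
  classical
  have := Fintype.ofFinite G
  have := Fintype.ofFinite C
  set res : C → ℂ := fun c => (χ : G → ℂ) c with hres
  have hcl : ∀ g h : C, res (h * g * h⁻¹) = res g := by
    intro g h
    simp only [hres]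
    push_cast
    exact irr_class χ _ _
  choose n hn using pair_res_nat χ C
  have e := classfun_expansion res hcl
  refine ⟨n, ?_, ?_⟩
  · intro c
    have := congrFun e c
    simp only [Finset.sum_apply, Pi.smul_apply, smul_eq_mul] at this
    rw [show (χ : G → ℂ) c = res c from rfl, this]
    apply Finset.sum_congr rfl
    intro ψ _
    rw [hn ψ]
  · have h1 : pair res res = ∑ ψ : IrrCharacter C, ((n ψ : ℂ)) ^ 2 := by
      have h2 : pair res res = pair (∑ ψ : IrrCharacter C, pair res (ψ : C → ℂ) • (ψ : C → ℂ)) res :=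
        congrArg (fun f => pair f res) e
      rw [h2, pair_sum_left]
      apply Finset.sum_congr rfl
      intro ψ _
      rw [pair_smul_left, pair_comm (ψ : C → ℂ) res, hn ψ, sq]
    have h3 : pair res res = (Nat.card C : ℂ)⁻¹ *
        ((∑ c : C, Complex.normSq ((χ : G → ℂ) c) : ℝ) : ℂ) := by
      unfold pair
      congr 1
      rw [Complex.ofReal_sum]
      apply Finset.sum_congr rfl
      intro c _
      simp only [hres]
      push_cast
      rw [irr_inv, Complex.mul_conj]
    have h4 : ∑ c : C, Complex.normSq ((χ : G → ℂ) c) ≤ (Nat.card G : ℝ) := by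
      rw [← irr_sum_normSq χ]
      rw [← Finset.sum_subtype (Finset.univ.filter (fun g : G => g ∈ C))
        (fun g => by simp) (fun g => Complex.normSq ((χ : G → ℂ) g))]
      exact Finset.sum_le_sum_of_subset_of_nonneg (Finset.filter_subset _ _)
        (fun g _ _ => Complex.normSq_nonneg _)
    have hC0 : (Nat.card C : ℂ) ≠ 0 := card_ne_zero_complex
    have h5 : ((∑ ψ : IrrCharacter C, (n ψ) ^ 2 : ℕ) : ℂ) * (Nat.card C : ℂ)
        = ((∑ c : C, Complex.normSq ((χ : G → ℂ) c) : ℝ) : ℂ) := by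
      rw [Nat.cast_sum]
      simp only [Nat.cast_pow]
      rw [← h1, h3]
      field_simp
    have h6 : ((∑ ψ : IrrCharacter C, (n ψ) ^ 2 : ℕ) : ℝ) * (Nat.card C : ℝ)
        = ∑ c : C, Complex.normSq ((χ : G → ℂ) c) := by
      exact_mod_cast h5
    have h7 : ((∑ ψ : IrrCharacter C, (n ψ) ^ 2 : ℕ) : ℝ) * (Nat.card C : ℝ) ≤ (Nat.card G : ℝ) := by
      rw [h6]; exact h4
    exact_mod_cast h7

/-- if `|G| = p χ(1)` and `P` is an abelian subgroup of order `p`, then `C_G(P)` has order at
most `p` -/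
theorem card_centralizer_le [Finite G] (χ : IrrCharacter G) (P : Subgroup G) (p : ℕ) (hp : 0 < p)
    (hP : Nat.card P = p) (hPC : P ≤ Subgroup.centralizer (P : Set G))
    (hcard : Nat.card G = p * charDegree (χ : G → ℂ)) :
    Nat.card (Subgroup.centralizer (P : Set G)) ≤ p := by
  classical
  set C := Subgroup.centralizer (P : Set G) with hC
  obtain ⟨n, hexp, hsq⟩ := res_expansion χ C
  set d := charDegree (χ : G → ℂ) with hd
  have hdpos : 0 < d := (irr_one_eq χ).2
  set c := Nat.card C with hc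
  -- the central subgroup
  have hZ : P.subgroupOf C ≤ Subgroup.center C := by
    intro z hz
    rw [Subgroup.mem_center_iff]
    intro x
    apply Subtype.ext
    push_cast
    have hx : (x : G) ∈ Subgroup.centralizer (P : Set G) := x.2
    rw [Subgroup.mem_centralizer_iff] at hx
    exact (hx z hz).symm
  have hZcard : Nat.card (P.subgroupOf C) = p := by
    rw [← hP]
    exact Nat.card_congr (Subgroup.subgroupOfEquivOfLe hPC).toEquiv
  have hdeg : ∀ ψ : IrrCharacter C, p * (charDegree (ψ : C → ℂ)) ^ 2 ≤ c := by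
    intro ψ
    have := card_central_mul_sq_le ψ (P.subgroupOf C) hZ
    rwa [hZcard] at this
  -- degree formula
  have hdsum : d = ∑ ψ : IrrCharacter C, n ψ * charDegree (ψ : C → ℂ) := by
    have h1 := hexp 1
    rw [Subgroup.coe_one, (irr_one_eq χ).1] at h1
    have h2 : ((d : ℕ) : ℂ) = ((∑ ψ : IrrCharacter C, n ψ * charDegree (ψ : C → ℂ) : ℕ) : ℂ) := by
      rw [h1]
      push_cast
      apply Finset.sum_congr rfl
      intro ψ _
      rw [(irr_one_eq ψ).1]
    exact_mod_cast h2
  set supp := Finset.univ.filter (fun ψ : IrrCharacter C => n ψ ≠ 0) with hsupp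
  have hdsum' : d = ∑ ψ ∈ supp, n ψ * charDegree (ψ : C → ℂ) := by
    rw [hdsum, hsupp, Finset.sum_filter]
    apply Finset.sum_congr rfl
    intro ψ _
    by_cases h : n ψ = 0
    · simp [h]
    · simp [h]
  set S := ∑ ψ : IrrCharacter C, (n ψ) ^ 2 with hS
  set S1 := ∑ ψ ∈ supp, (n ψ) ^ 2 with hS1
  set D := ∑ ψ ∈ supp, (charDegree (ψ : C → ℂ)) ^ 2 with hD
  have h1 : d ^ 2 ≤ S1 * D := by
    rw [hdsum']
    exact Finset.sum_mul_sq_le_sq_mul_sq supp _ _
  have h2 : S1 ≤ S := Finset.sum_le_sum_of_subset_of_nonneg (Finset.filter_subset _ _)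
    (fun _ _ _ => Nat.zero_le _)
  have h3 : p * D ≤ supp.card * c := by
    rw [hD, Finset.mul_sum]
    calc ∑ ψ ∈ supp, p * (charDegree (ψ : C → ℂ)) ^ 2 ≤ ∑ ψ ∈ supp, c :=
          Finset.sum_le_sum (fun ψ _ => hdeg ψ)
      _ = supp.card * c := by rw [Finset.sum_const, smul_eq_mul]
  have h4 : supp.card ≤ S1 := by
    rw [hS1, Finset.card_eq_sum_ones]
    apply Finset.sum_le_sum
    intro ψ hψ
    have : n ψ ≠ 0 := (Finset.mem_filter.1 hψ).2
    exact Nat.one_le_iff_ne_zero.2 (pow_ne_zero 2 this)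
  have h5 : S * c ≤ p * d := by rw [← hcard]; exact hsq
  -- combine
  have h6 : p * d ^ 2 ≤ S * (p * d) := by
    calc p * d ^ 2 ≤ p * (S1 * D) := Nat.mul_le_mul_left _ h1
      _ = S1 * (p * D) := by ring
      _ ≤ S * (supp.card * c) := Nat.mul_le_mul h2 h3
      _ ≤ S * (S * c) := Nat.mul_le_mul_left _ (Nat.mul_le_mul_right _ (h4.trans h2))
      _ ≤ S * (p * d) := Nat.mul_le_mul_left _ h5
  have h7 : d ≤ S := by
    have : (p * d) * d ≤ (p * d) * S := by
      calc (p * d) * d = p * d ^ 2 := by ring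
        _ ≤ S * (p * d) := h6
        _ = (p * d) * S := by ring
    exact Nat.le_of_mul_le_mul_left this (Nat.mul_pos hp hdpos)
  have h8 : c * d ≤ p * d := by
    calc c * d ≤ c * S := Nat.mul_le_mul_left _ h7
      _ = S * c := by ring
      _ ≤ p * d := h5
  exact Nat.le_of_mul_le_mul_right h8 hdpos

end Restrict

end Cfsg.Agent.Helper79
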