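import Mathlib
import Cfsg.Prelude.Def_LieTypeDatum
import Cfsg.Agent.Lib.Helper40.AutPOmCoset
import Cfsg.Agent.Lib.Helper40.AutPOmFieldMain
import Cfsg.Agent.Lib.Helper5.OrthLag12
import Cfsg.Agent.Lib.Helper5.OMFClass
import Cfsg.Agent.Lib.Helper43.POmSplitMain
import Cfsg.Agent.Lib.Helper43.SpinorSum
import Cfsg.Agent.S0786

/-!
# OMF (F3o): odd characteristic, `σ` of odd order: `Inndiag = Inn · C_Inndiag(φ_σ)` for `PΩ⁻`
(helper5 server, row S2716)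
-/

set_option autoImplicit false
set_option linter.unusedSectionVars false
set_option linter.unusedVariables false

namespace Cfsg.Agent.Helper79.OMF

open Matrix QuadraticMap Cfsg.Agent.Helper43 Cfsg.Agent.Helper5.OrthAut Cfsg.Agent.Helper40.AutPOm

section Core

variable {F : Type*} [Field F] [Fintype F] [DecidableEq F] {ι : Type} [Fintype ι] [DecidableEq ι]
  (Q : QuadraticForm F (ι → F))
  (hperf : commutator ↥(Cfsg.Omega F ⇑Q) = ⊤)
  (hcent : ∀ Z : Matrix ι ι F, (∀ s : ↥(Cfsg.Omega F ⇑Q), Z * omat (⇑Q) s = omat (⇑Q) s * Z) →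
      ∃ c : F, Z = c • (1 : Matrix ι ι F))
  (hQ0 : ∃ v : ι → F, Q v ≠ 0) (k : ℕ)

include hperf hcent in
/-- the final step: `g = c · ω · e` with `ω ∈ Ω` and `e ∈ GO1` fixed by `σ` -/
theorem final_step (σ : ↥(QAut ⇑Q)) (g : GL ι F) (hg : g ∈ GO1 Q hQ0 k)
    (c : Fˣ) (ω e : GL ι F) (hω : ω ∈ OmGL ⇑Q) (he : e ∈ GO1 Q hQ0 k)
    (heσ : mapGL σ.1 e = e) (hdec : g = sclHom c * ω * e) :
    ∃ t cc : MulAut (Cfsg.POmega F ⇑Q), t ∈ Cfsg.Inn (Cfsg.POmega F ⇑Q) ∧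
      cc ∈ inD Q hQ0 k ∧ cc * fieldAutPOm ⇑Q σ = fieldAutPOm ⇑Q σ * cc ∧
      Phi ⇑Q ⟨g, sim_le_NO ⇑Q (GO1_le_GO Q hQ0 k hg)⟩ = t * cc := by
  have heGO : e ∈ GO Q := GO1_le_GO Q hQ0 k he
  have hωO : ω ∈ OG Q := OmGL_le_iso ⇑Q hω
  have hωGO : ω ∈ GO Q := iso_le_sim ⇑Q hωO
  refine ⟨PhiGO ⇑Q ⟨ω, hωGO⟩, PhiGO ⇑Q ⟨e, heGO⟩, ?_, ?_, ?_, ?_⟩
  · rw [inn_eq]
    exact ⟨⟨ω, OmGL_le_NO ⇑Q hω⟩, hω, rfl⟩
  · exact ⟨⟨e, sim_le_NO ⇑Q heGO⟩, he, rfl⟩
  · have h1 := fieldAutPOm_mul_PhiGO ⇑Q σ ⟨e, heGO⟩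
    have h2 : sigmaGO ⇑Q σ ⟨e, heGO⟩ = ⟨e, heGO⟩ := Subtype.ext heσ
    rw [h2] at h1
    exact h1.symm
  · have h1 : (⟨g, GO1_le_GO Q hQ0 k hg⟩ : ↥(GO Q)) =
        scGO Q c * ⟨ω, hωGO⟩ * ⟨e, heGO⟩ := Subtype.ext hdec
    have h2 : Phi ⇑Q ⟨g, sim_le_NO ⇑Q (GO1_le_GO Q hQ0 k hg)⟩ =
        PhiGO ⇑Q ⟨g, GO1_le_GO Q hQ0 k hg⟩ := rfl
    rw [h2, h1, map_mul, map_mul, PhiGO_scGO Q hperf hcent, one_mul]

theorem reflMat_map_sig {σ : F ≃+* F} (hσ : σ ∈ QAut ⇑Q) (u : ι → F) :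
    (Cfsg.reflectionMatrix (⇑Q) u).map σ = Cfsg.reflectionMatrix (⇑Q) (fun i => σ (u i)) := by
  apply matrix_ext_mulVec
  intro x
  have hx : x = fun i => σ (σ.symm (x i)) := by
    funext i
    simp
  have h1 : (Cfsg.reflectionMatrix (⇑Q) u).map σ *ᵥ x =
      fun i => σ ((Cfsg.reflectionMatrix (⇑Q) u *ᵥ (fun j => σ.symm (x j))) i) := by
    conv_lhs => rw [hx]
    exact map_mulVec_sigma σ _ _
  rw [h1, reflectionMatrix_mulVec_eq, reflectionMatrix_mulVec_eq, reflLin_apply, reflLin_apply]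
  have h2 : polar (⇑Q) (fun i => σ (u i)) x = σ (polar (⇑Q) u (fun j => σ.symm (x j))) := by
    conv_lhs => rw [hx]
    exact polar_sigma Q hσ _ _
  rw [h2, hσ]
  funext i
  simp only [Pi.sub_apply, Pi.smul_apply, smul_eq_mul, map_sub, map_mul, map_inv₀,
    RingEquiv.apply_symm_apply]

include hperf hcent in
/-- the core: `g ∈ GO1` whose multiplier is `c² ·` the multiplier of a `σ`-fixed `E ∈ GO1`, and a pair
of `σ`-fixed vectors `u, v` with `Q u · Q v` a non-square -/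
theorem core (hnd : (polarBilin Q).Nondegenerate) (h2 : (2 : F) ≠ 0)
    (hcard : Fintype.card ι = 2 * k) (hexc : Fintype.card F ≠ 2 ∨ Fintype.card ι ≠ 4)
    (σ : ↥(QAut ⇑Q)) (g : GL ι F) (hg : g ∈ GO1 Q hQ0 k)
    (E : GL ι F) (hE : E ∈ GO1 Q hQ0 k) (hEσ : mapGL σ.1 E = E) (c : Fˣ)
    (hc : mult Q ⟨g, GO1_le_GO Q hQ0 k hg⟩ = c * c * mult Q ⟨E, GO1_le_GO Q hQ0 k hE⟩)
    (u v : ι → F) (huσ : (fun i => σ.1 (u i)) = u) (hvσ : (fun i => σ.1 (v i)) = v)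
    (hns : ¬ IsSquare (Q u * Q v)) :
    ∃ t cc : MulAut (Cfsg.POmega F ⇑Q), t ∈ Cfsg.Inn (Cfsg.POmega F ⇑Q) ∧
      cc ∈ inD Q hQ0 k ∧ cc * fieldAutPOm ⇑Q σ = fieldAutPOm ⇑Q σ * cc ∧
      Phi ⇑Q ⟨g, sim_le_NO ⇑Q (GO1_le_GO Q hQ0 k hg)⟩ = t * cc := by
  classical
  set gg : ↥(GO Q) := ⟨g, GO1_le_GO Q hQ0 k hg⟩ with hgg
  set EE : ↥(GO Q) := ⟨E, GO1_le_GO Q hQ0 k hE⟩ with hEE
  set g'G : ↥(GO Q) := (scGO Q c)⁻¹ * gg * EE⁻¹ with hg'G
  have hdg : dHom Q hQ0 k gg = 1 := by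
    obtain ⟨_, h⟩ := (mem_GO1 Q hQ0 k g).1 hg
    exact h
  have hdE : dHom Q hQ0 k EE = 1 := by
    obtain ⟨_, h⟩ := (mem_GO1 Q hQ0 k E).1 hE
    exact h
  have hdsc : dHom Q hQ0 k (scGO Q c) = 1 := Cfsg.Agent.Helper43.POmSplit.dHom_sclHom Q hQ0 k hcard c
  have hd' : dHom Q hQ0 k g'G = 1 := by
    rw [hg'G, map_mul, map_mul, map_inv, map_inv, hdg, hdE, hdsc]
    simp
  have hmsc : mult Q (scGO Q c) = c * c := by
    apply mult_unique Q hQ0
    intro x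
    rw [gmat]
    show Q (((sclHom (ι := ι) c : GL ι F) : Matrix ι ι F) *ᵥ x) = _
    rw [sclHom_mulVec, QuadraticMap.map_smul, Units.val_mul, smul_eq_mul]
  have hm' : mult Q g'G = 1 := by
    have h1 : multHom Q hQ0 g'G = (multHom Q hQ0 (scGO Q c))⁻¹ * multHom Q hQ0 gg *
        (multHom Q hQ0 EE)⁻¹ := by
      rw [hg'G, map_mul, map_mul, map_inv, map_inv]
    rw [multHom_apply, multHom_apply, multHom_apply, multHom_apply, hmsc, hc] at h1
    rw [h1]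
    rw [← mul_assoc, inv_mul_cancel, one_mul, mul_inv_cancel]
  have hiso : ∀ x, Q (gmat Q g'G *ᵥ x) = Q x := by
    intro x
    rw [mult_spec, hm', Units.val_one, one_mul]
  have hdet : (gmat Q g'G).det = 1 := by
    have h1 := dHom_coe Q hQ0 k g'G
    rw [hd', hm'] at h1
    simpa using h1.symm
  obtain ⟨l, hl, hgl⟩ := Cfsg.Agent.S0786.matrix_cd_all Q hnd hexc (gmat Q g'G) hiso
  have hlen : Even l.length := by
    have h3 := det_list_reflection Q l hl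
    have h4 : (gmat Q g'G).det = (-1) ^ l.length := by
      rw [hgl]
      exact h3
    rw [hdet] at h4
    have hneg : (-1 : F) ≠ 1 := by
      intro h
      apply h2
      have : (1 : F) + 1 = 0 := by
        nth_rewrite 1 [← h]
        exact neg_add_cancel 1
      rw [← one_add_one_eq_two]
      exact this
    exact (neg_one_pow_eq_one_iff_even hneg).1 h4.symm
  have hg'O : (g'G : GL ι F) ∈ OG Q := (mem_iso_iff ⇑Q _).2 hiso
  have hdecomp : g = sclHom c * (g'G : GL ι F) * E := by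
    have h1 : gg = scGO Q c * g'G * EE := by
      rw [hg'G]
      group
    exact congrArg Subtype.val h1
  by_cases hP : IsSquare (l.map (fun w => Q w)).prod
  · have hmem : (⟨(g'G : GL ι F), hg'O⟩ : ↥(Cfsg.isometryGroup F ⇑Q)) ∈ Cfsg.Omega F ⇑Q :=
      (mem_Omega_iff_of_list_all Q h2 hnd ⟨(g'G : GL ι F), hg'O⟩ l hl hgl).2 ⟨hlen, hP⟩
    exact final_step Q hperf hcent hQ0 k σ g hg c (g'G : GL ι F) E
      ((mem_OmGL ⇑Q _).2 ⟨⟨_, hmem⟩, rfl⟩) hE hEσ hdecomp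
  · have hu : Q u ≠ 0 := by
      intro h
      apply hns
      rw [h, zero_mul]
      exact ⟨0, by simp⟩
    have hv : Q v ≠ 0 := by
      intro h
      apply hns
      rw [h, mul_zero]
      exact ⟨0, by simp⟩
    set s : ↥(Cfsg.isometryGroup F ⇑Q) := reflIso Q hu * reflIso Q hv with hs
    have hscoe : ((s : GL ι F) : Matrix ι ι F) =
        Cfsg.reflectionMatrix (⇑Q) u * Cfsg.reflectionMatrix (⇑Q) v := rfl
    have hsSO : (s : GL ι F) ∈ SOG Q := by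
      rw [mem_SOG_iff]
      refine ⟨s.2, ?_⟩
      rw [hscoe, Matrix.det_mul, reflectionMatrix_det Q hu, reflectionMatrix_det Q hv]
      ring
    have hsσ : mapGL σ.1 (s : GL ι F) = (s : GL ι F) := by
      apply Units.ext
      rw [mapGL_coe, hscoe]
      have h1 : (Cfsg.reflectionMatrix (⇑Q) u * Cfsg.reflectionMatrix (⇑Q) v).map σ.1 =
          (Cfsg.reflectionMatrix (⇑Q) u).map σ.1 * (Cfsg.reflectionMatrix (⇑Q) v).map σ.1 :=
        Matrix.map_mul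
      rw [h1, reflMat_map_sig Q σ.2, reflMat_map_sig Q σ.2, huσ, hvσ]
    set ω : GL ι F := (g'G : GL ι F) * (s : GL ι F) with hω
    have hωO : ω ∈ OG Q := mul_mem hg'O s.2
    have hωl : (((⟨ω, hωO⟩ : ↥(Cfsg.isometryGroup F ⇑Q)) : GL ι F) : Matrix ι ι F) =
        ((l ++ [u, v]).map (fun w => Cfsg.reflectionMatrix (⇑Q) w)).prod := by
      show ((g'G : GL ι F) : Matrix ι ι F) * ((s : GL ι F) : Matrix ι ι F) = _
      rw [List.map_append, List.prod_append, hscoe]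
      have h1 : ((g'G : GL ι F) : Matrix ι ι F) =
          (l.map (fun w => Cfsg.reflectionMatrix (⇑Q) w)).prod := hgl
      rw [h1]
      simp
    have hl' : ∀ w ∈ l ++ [u, v], Q w ≠ 0 := by
      intro w hw
      rcases List.mem_append.1 hw with h | h
      · exact hl w h
      · simp only [List.mem_cons, List.not_mem_nil, or_false] at h
        rcases h with rfl | rfl
        · exact hu
        · exact hv
    have hmem : (⟨ω, hωO⟩ : ↥(Cfsg.isometryGroup F ⇑Q)) ∈ Cfsg.Omega F ⇑Q := by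
      refine (mem_Omega_iff_of_list_all Q h2 hnd ⟨ω, hωO⟩ (l ++ [u, v]) hl' hωl).2 ⟨?_, ?_⟩
      · rw [List.length_append]
        exact hlen.add ⟨1, rfl⟩
      · rw [List.map_append, List.prod_append]
        have h1 : ([u, v].map (fun w => Q w)).prod = Q u * Q v := by simp
        rw [h1]
        exact isSquare_mul_of_not_isSquare hP hns
    have he : (s : GL ι F)⁻¹ * E ∈ GO1 Q hQ0 k :=
      mul_mem (inv_mem (SOG_le_GO1 Q hQ0 k hsSO)) hE
    have heσ : mapGL σ.1 ((s : GL ι F)⁻¹ * E) = (s : GL ι F)⁻¹ * E := by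
      rw [map_mul, map_inv, hsσ, hEσ]
    refine final_step Q hperf hcent hQ0 k σ g hg c ω ((s : GL ι F)⁻¹ * E)
      ((mem_OmGL ⇑Q _).2 ⟨⟨_, hmem⟩, rfl⟩) he heσ ?_
    rw [hdecomp, hω]
    group

end Core

section Minus

variable {F : Type*} [Field F] [Fintype F]

theorem deltaMinusMat_map_of_fixed (m : ℕ) (a b ν : F) (w : F × F) (σ : F ≃+* F)
    (ha : σ a = a) (hb : σ b = b) (hν : σ ν = ν) (hw1 : σ w.1 = w.1) (hw2 : σ w.2 = w.2) :
    (deltaMinusMat m a b ν w).map σ = deltaMinusMat m a b ν w := by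
  rw [deltaMinusMat, Matrix.fromBlocks_map]
  congr 1
  · rw [Matrix.diagonal_map (map_zero σ)]
    congr 1
    funext x
    rcases x with x | x
    · simp [hν]
    · simp
  · ext i j
    simp
  · ext i j
    simp
  · ext i j
    fin_cases i <;> fin_cases j <;> simp [ha, hb, hw1, hw2]

theorem sig_hyp_vec (m : ℕ) (i0 : Fin m) (c : F) (σ : F ≃+* F) (hc : σ c = c) :
    (fun i => σ (((Pi.single (Sum.inl (Sum.inl i0)) 1 : (Fin m ⊕ Fin m) ⊕ Fin 2 → F) +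
      c • (Pi.single (Sum.inl (Sum.inr i0)) 1 : (Fin m ⊕ Fin m) ⊕ Fin 2 → F)) i)) =
      (Pi.single (Sum.inl (Sum.inl i0)) 1 : (Fin m ⊕ Fin m) ⊕ Fin 2 → F) +
        c • (Pi.single (Sum.inl (Sum.inr i0)) 1 : (Fin m ⊕ Fin m) ⊕ Fin 2 → F) := by
  funext j
  simp only [Pi.add_apply, Pi.smul_apply, Pi.single_apply, smul_eq_mul, map_add, map_mul, hc]
  split_ifs <;> simp

theorem Q_hyp_vec (m : ℕ) (a b : F) (i0 : Fin m) (c : F) :
    stdMinus F m a b ((Pi.single (Sum.inl (Sum.inl i0)) 1 : (Fin m ⊕ Fin m) ⊕ Fin 2 → F) +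
      c • (Pi.single (Sum.inl (Sum.inr i0)) 1 : (Fin m ⊕ Fin m) ⊕ Fin 2 → F)) = c := by
  have h := stdMinus_isHypFamily F m a b
  rw [QuadraticMap.map_add (stdMinus F m a b), QuadraticMap.map_smul, h.qe i0, h.qf i0,
    polar_smul_right, h.ef i0 i0, if_pos rfl]
  simp

theorem inndiag_eq_inn_mul_cent_odd {F₀ : Type*} [Field F₀] [Fintype F₀] {F : Type*} [Field F]
    [Fintype F] (hodd : Odd (Fintype.card F))
    {m : ℕ} (hm : 3 ≤ m) (emb : F₀ →+* F) (a₀ b₀ : F₀)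
    (hab : ∀ z₁ z₂ : F, z₁ ^ 2 + emb a₀ * z₁ * z₂ + emb b₀ * z₂ ^ 2 = 0 → z₁ = 0 ∧ z₂ = 0)
    (σ : F ≃+* F) {r : ℕ} (hr : Odd r) (hσ : orderOf σ = r)
    (hι1 : ∀ x, σ (emb x) = emb x) (hι2 : ∀ y, σ y = y → ∃ x, emb x = y)
    (hσQ : σ ∈ QAut (Cfsg.quadFormMinus m F (emb a₀) (emb b₀)))
    (δ : MulAut (Cfsg.POmega F (Cfsg.quadFormMinus m F (emb a₀) (emb b₀))))
    (hδ : δ ∈ Cfsg.inndiagPOmegaMinus m F (emb a₀) (emb b₀)) :
    ∃ t c : MulAut (Cfsg.POmega F (Cfsg.quadFormMinus m F (emb a₀) (emb b₀))),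
      t ∈ Cfsg.Inn (Cfsg.POmega F (Cfsg.quadFormMinus m F (emb a₀) (emb b₀))) ∧
      c ∈ Cfsg.inndiagPOmegaMinus m F (emb a₀) (emb b₀) ∧
      c * fieldAutPOm (Cfsg.quadFormMinus m F (emb a₀) (emb b₀)) ⟨σ, hσQ⟩ =
        fieldAutPOm (Cfsg.quadFormMinus m F (emb a₀) (emb b₀)) ⟨σ, hσQ⟩ * c ∧
      δ = t * c := by
  classical
  have h2 := Cfsg.Agent.Helper5.OrthAut.two_ne_zero_of_odd_card hodd
  have hab' : AnisoPair (emb a₀) (emb b₀) := hab
  have hfam := stdMinus_isHypFamily F m (emb a₀) (emb b₀)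
  have hnd := stdMinus_nondegenerate (F := F) m hab'
  have hcard : Fintype.card ((Fin m ⊕ Fin m) ⊕ Fin 2) = 2 * (m + 1) := by simp; ring
  have hQ0 := hQ0_of_hyp (stdMinus F m (emb a₀) (emb b₀)) hfam (by omega)
  have hperf := hperf_of_hyp (stdMinus F m (emb a₀) (emb b₀)) hnd _ _ hfam (by omega)
    (by rw [hcard]; omega)
  have hcent := hcent_of_hyp (stdMinus F m (emb a₀) (emb b₀)) hfam (by omega)
    (Cfsg.Agent.Lead.POmegaCard.hspan_minus m (emb a₀) (emb b₀))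
  have haux := inndiag_minus_aux hodd m (emb a₀) (emb b₀) hab hQ0
  have claim : ∀ (hσQ' : σ ∈ QAut ⇑(stdMinus F m (emb a₀) (emb b₀)))
      (δ' : MulAut (Cfsg.POmega F ⇑(stdMinus F m (emb a₀) (emb b₀)))),
      δ' ∈ inD (stdMinus F m (emb a₀) (emb b₀)) hQ0 (m + 1) →
      ∃ t c : MulAut (Cfsg.POmega F ⇑(stdMinus F m (emb a₀) (emb b₀))),
        t ∈ Cfsg.Inn (Cfsg.POmega F ⇑(stdMinus F m (emb a₀) (emb b₀))) ∧
        c ∈ inD (stdMinus F m (emb a₀) (emb b₀)) hQ0 (m + 1) ∧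
        c * fieldAutPOm ⇑(stdMinus F m (emb a₀) (emb b₀)) ⟨σ, hσQ'⟩ =
          fieldAutPOm ⇑(stdMinus F m (emb a₀) (emb b₀)) ⟨σ, hσQ'⟩ * c ∧
        δ' = t * c := by
    intro hσQ' δ' hδ'
    obtain ⟨x, hx, rfl⟩ := hδ'
    have hg : (x : GL ((Fin m ⊕ Fin m) ⊕ Fin 2) F) ∈
        GO1 (stdMinus F m (emb a₀) (emb b₀)) hQ0 (m + 1) := hx
    have hσr : σ ^ r = 1 := by
      rw [← hσ]
      exact pow_orderOf_eq_one σ
    have h2₀ : (2 : F₀) ≠ 0 := two_ne_zero_of_emb emb h2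
    obtain ⟨ν₀, hν₀⟩ := exists_nonsquare_unit h2₀
    have hinj : Function.Injective emb := emb.injective
    have hν : ¬ IsSquare (emb (ν₀ : F₀)) := by
      apply not_isSquare_of_odd_order h2 σ hr hσr _ (hι1 _)
      intro c hc hcc
      obtain ⟨c₀, rfl⟩ := hι2 c hc
      apply hν₀
      refine ⟨c₀, ?_⟩
      apply hinj
      rw [map_mul]
      exact hcc.symm
    have hν0 : emb (ν₀ : F₀) ≠ 0 := by
      rw [Ne, map_eq_zero_iff emb hinj]
      exact ν₀.ne_zero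
    set μ : Fˣ := mult (stdMinus F m (emb a₀) (emb b₀))
      ⟨(x : GL ((Fin m ⊕ Fin m) ⊕ Fin 2) F), GO1_le_GO _ hQ0 (m + 1) hg⟩ with hμ
    have hsq : ∃ (μ₀ : F₀ˣ) (c : Fˣ), μ = c * c * Units.map (emb : F₀ →* F) μ₀ := by
      by_cases h : IsSquare (μ : F)
      · obtain ⟨d, hd⟩ := h
        have hd0 : d ≠ 0 := by
          rintro rfl
          rw [mul_zero] at hd
          exact μ.ne_zero hd
        refine ⟨1, Units.mk0 d hd0, ?_⟩
        apply Units.ext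
        rw [map_one, mul_one, Units.val_mul, Units.val_mk0]
        exact hd
      · obtain ⟨d, hd⟩ := isSquare_mul_of_not_isSquare h hν
        have hd0 : d ≠ 0 := by
          rintro rfl
          rw [mul_zero] at hd
          exact (mul_ne_zero μ.ne_zero hν0) hd
        refine ⟨ν₀, Units.mk0 (d / emb (ν₀ : F₀)) (div_ne_zero hd0 hν0), ?_⟩
        apply Units.ext
        rw [Units.val_mul, Units.val_mul, Units.val_mk0]
        show (μ : F) = d / emb (ν₀ : F₀) * (d / emb (ν₀ : F₀)) * emb (ν₀ : F₀)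
        field_simp
        rw [hd]
        ring
    obtain ⟨μ₀, c, hμc⟩ := hsq
    have hab₀ : AnisoPair a₀ b₀ := by
      intro z₁ z₂ hz
      have h1 := hab (emb z₁) (emb z₂) (by
        have := congrArg emb hz
        simpa [map_add, map_mul, map_pow] using this)
      exact ⟨hinj (by rw [h1.1, map_zero]), hinj (by rw [h1.2, map_zero])⟩
    obtain ⟨w, hw⟩ := hab₀.exists_nrm_eq (μ₀ : F₀)
    set ν' : Fˣ := Units.map (emb : F₀ →* F) μ₀ with hν'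
    have hν'c : (ν' : F) = emb (μ₀ : F₀) := rfl
    have hw' : nrm (emb a₀) (emb b₀) (emb w.1, emb w.2) = (ν' : F) := by
      have := congrArg emb hw
      simp only [nrm, map_add, map_mul, map_pow] at this
      rw [hν'c]
      exact this
    set E := deltaMinus m (emb a₀) (emb b₀) ν' (emb w.1, emb w.2) hw' with hE
    have hEGO : E ∈ GO (stdMinus F m (emb a₀) (emb b₀)) := deltaMinus_mem m _ _ ν' _ hw'
    have hmuE : mult (stdMinus F m (emb a₀) (emb b₀)) ⟨E, hEGO⟩ = ν' :=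
      mult_unique _ hQ0 _ _ (fun v => by
        show stdMinus F m (emb a₀) (emb b₀) (deltaMinusMat m (emb a₀) (emb b₀) ν' _ *ᵥ v) = _
        exact deltaMinusMat_sim m _ _ (ν' : F) _ hw' v)
    have hE1 : E ∈ GO1 (stdMinus F m (emb a₀) (emb b₀)) hQ0 (m + 1) := by
      rw [mem_GO1]
      refine ⟨hEGO, ?_⟩
      apply Units.ext
      rw [dHom_coe, hmuE, Units.val_one]
      show (deltaMinusMat m (emb a₀) (emb b₀) ν' _).det * _ = 1
      rw [deltaMinusMat_det, hw', ← pow_succ]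
      exact mul_inv_cancel₀ (pow_ne_zero _ (Units.ne_zero _))
    have hEσ : mapGL σ E = E := by
      apply Units.ext
      show (deltaMinusMat m (emb a₀) (emb b₀) ν' _).map σ = deltaMinusMat m (emb a₀) (emb b₀) ν' _
      exact deltaMinusMat_map_of_fixed m _ _ (ν' : F) _ σ (hι1 _) (hι1 _) (hι1 _) (hι1 _) (hι1 _)
    have i0 : Fin m := ⟨0, by omega⟩
    have key := core (stdMinus F m (emb a₀) (emb b₀)) hperf hcent hQ0 (m + 1) hnd h2 hcard
      (Or.inr (by rw [hcard]; omega)) ⟨σ, hσQ'⟩ (x : GL ((Fin m ⊕ Fin m) ⊕ Fin 2) F) hg E hE1 hEσ c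
      (by rw [hmuE]; exact hμc)
      ((Pi.single (Sum.inl (Sum.inl i0)) 1 : (Fin m ⊕ Fin m) ⊕ Fin 2 → F) +
        (1 : F) • (Pi.single (Sum.inl (Sum.inr i0)) 1 : (Fin m ⊕ Fin m) ⊕ Fin 2 → F))
      ((Pi.single (Sum.inl (Sum.inl i0)) 1 : (Fin m ⊕ Fin m) ⊕ Fin 2 → F) +
        emb (ν₀ : F₀) • (Pi.single (Sum.inl (Sum.inr i0)) 1 : (Fin m ⊕ Fin m) ⊕ Fin 2 → F))
      (sig_hyp_vec m i0 1 σ (map_one σ)) (sig_hyp_vec m i0 _ σ (hι1 _))
      (by rw [Q_hyp_vec, Q_hyp_vec, one_mul]; exact hν)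
    exact key
  rw [← haux, coe_stdMinus] at claim
  exact claim hσQ δ hδ

end Minus

end Cfsg.Agent.Helper79.OMF
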