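import Mathlib
import Cfsg.Agent.S1453
import Cfsg.Agent.S0636

/-!
# B-G Section 11, piece (b2): structure of `C_S(A)` and commutativity of Sylow `p`-subgroups

`S` is a `p`-group (`p` odd), `A ≤ S` elementary abelian of order `p ^ 2`, contained in no larger
elementary abelian subgroup of `S`.  Then `S` is abelian or `C_S(A) = ⟨a⟩ × C` with `C` cyclic
(B-G Lemma 5.2 for rank `≥ 3`, and the structure of S1412 for rank `≤ 2`; the conclusion of S1412
enters as a hypothesis, so this file only depends on landed statements).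
-/

set_option autoImplicit false
open Cfsg

namespace Cfsg.Agent.Helper79.BG11b2

variable {G : Type*} [Group G]

/-- Elements of the join of two elementwise commuting subgroups are products. -/
theorem mem_sup_of_comm {H K : Subgroup G} (hc : ∀ a ∈ H, ∀ b ∈ K, a * b = b * a) {x : G}
    (hx : x ∈ H ⊔ K) : ∃ a ∈ H, ∃ b ∈ K, x = a * b := by
  let T : Subgroup G :=
    { carrier := {x | ∃ a ∈ H, ∃ b ∈ K, x = a * b}
      one_mem' := ⟨1, H.one_mem, 1, K.one_mem, by simp⟩
      mul_mem' := by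
        rintro _ _ ⟨a, ha, b, hb, rfl⟩ ⟨a', ha', b', hb', rfl⟩
        refine ⟨a * a', H.mul_mem ha ha', b * b', K.mul_mem hb hb', ?_⟩
        have h := hc a' ha' b hb
        calc a * b * (a' * b') = a * (b * a') * b' := by group
          _ = a * (a' * b) * b' := by rw [h]
          _ = a * a' * (b * b') := by group
      inv_mem' := by
        rintro _ ⟨a, ha, b, hb, rfl⟩
        refine ⟨a⁻¹, H.inv_mem ha, b⁻¹, K.inv_mem hb, ?_⟩
        have h := hc a⁻¹ (H.inv_mem ha) b⁻¹ (K.inv_mem hb)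
        rw [mul_inv_rev, h] }
  have hle : H ⊔ K ≤ T := by
    apply sup_le
    · intro a ha; exact ⟨a, ha, 1, K.one_mem, by simp⟩
    · intro b hb; exact ⟨1, H.one_mem, b, hb, by simp⟩
  exact hle hx

/-- The join of an elementary abelian subgroup and a commuting element of order dividing `p`
is elementary abelian. -/
theorem elemAb_sup_zpowers {p : ℕ} {A : Subgroup G} (hAe : Cfsg.IsElementaryAbelian p A) {y : G}
    (hyA : ∀ a ∈ A, a * y = y * a) (hyp : y ^ p = 1) :
    Cfsg.IsElementaryAbelian p (A ⊔ Subgroup.zpowers y) := by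
  have hAc : ∀ a ∈ A, ∀ b ∈ A, a * b = b * a := fun a ha b hb =>
    haveI := hAe.1
    setLike_mul_comm ha hb
  have hc : ∀ a ∈ A, ∀ b ∈ Subgroup.zpowers y, a * b = b * a := by
    intro a ha b hb
    obtain ⟨k, rfl⟩ := Subgroup.mem_zpowers_iff.mp hb
    exact ((Commute.zpow_right (hyA a ha) k)).eq
  constructor
  · apply IsMulCommutative.of_comm
    rintro ⟨u, hu⟩ ⟨v, hv⟩
    apply Subtype.ext
    obtain ⟨a, ha, b, hb, rfl⟩ := mem_sup_of_comm hc hu
    obtain ⟨a', ha', b', hb', rfl⟩ := mem_sup_of_comm hc hv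
    obtain ⟨k, rfl⟩ := Subgroup.mem_zpowers_iff.mp hb
    obtain ⟨k', rfl⟩ := Subgroup.mem_zpowers_iff.mp hb'
    have h1 : Commute a a' := hAc a ha a' ha'
    have h2 : Commute a (y ^ k') := hc a ha _ (Subgroup.zpow_mem_zpowers y k')
    have h3 : Commute a' (y ^ k) := hc a' ha' _ (Subgroup.zpow_mem_zpowers y k)
    have h4 : Commute (y ^ k) (y ^ k') := (Commute.refl y).zpow_zpow k k'
    show a * y ^ k * (a' * y ^ k') = a' * y ^ k' * (a * y ^ k)
    calc a * y ^ k * (a' * y ^ k') = a * (y ^ k * a') * y ^ k' := by group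
      _ = a * (a' * y ^ k) * y ^ k' := by rw [h3.eq]
      _ = (a * a') * (y ^ k * y ^ k') := by group
      _ = (a' * a) * (y ^ k' * y ^ k) := by rw [h1.eq, h4.eq]
      _ = a' * (a * y ^ k') * y ^ k := by group
      _ = a' * (y ^ k' * a) * y ^ k := by rw [h2.eq]
      _ = a' * y ^ k' * (a * y ^ k) := by group
  · intro u hu
    obtain ⟨a, ha, b, hb, rfl⟩ := mem_sup_of_comm hc hu
    obtain ⟨k, rfl⟩ := Subgroup.mem_zpowers_iff.mp hb
    have h2 : Commute a (y ^ k) := hc a ha _ (Subgroup.zpow_mem_zpowers y k)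
    rw [h2.mul_pow, hAe.2 a ha, one_mul, ← zpow_natCast, ← zpow_mul, mul_comm, zpow_mul,
      zpow_natCast, hyp, one_zpow]

/-- (F0) An element of order dividing `p` centralizing a maximal elementary abelian subgroup `A`
lies in `A`. -/
theorem mem_of_centralizes {p : ℕ} {S A : Subgroup G} (hAS : A ≤ S)
    (hAe : Cfsg.IsElementaryAbelian p A)
    (hAmax : ∀ B : Subgroup G, B ≤ S → Cfsg.IsElementaryAbelian p B → A ≤ B → B = A)
    {y : G} (hyS : y ∈ S) (hyA : ∀ a ∈ A, a * y = y * a) (hyp : y ^ p = 1) : y ∈ A := by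
  have hB := elemAb_sup_zpowers hAe hyA hyp
  have hBS : A ⊔ Subgroup.zpowers y ≤ S := sup_le hAS (by rw [Subgroup.zpowers_le]; exact hyS)
  have := hAmax _ hBS hB le_sup_left
  rw [← this]
  exact Subgroup.mem_sup_right (Subgroup.mem_zpowers y)


/-- The conclusion of the structure theorem (helper29's strong form). -/
def CentStruct (p : ℕ) (S A : Subgroup G) : Prop :=
  ∃ a ∈ A, ∃ C : Subgroup G, C ≤ S ⊓ Subgroup.centralizer (A : Set G) ∧ IsCyclic C ∧
    (∀ c ∈ C, a * c = c * a) ∧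
    S ⊓ Subgroup.centralizer (A : Set G) = Subgroup.zpowers a ⊔ C ∧
    ∀ c ∈ C, c ^ p = 1 → c ∈ Subgroup.centralizer (S : Set G)

/-- Rank at least three: B-G Lemma 5.2 via S1453 and S0636. -/
theorem cs_rank3 [Finite G] (p : ℕ) [Fact p.Prime] (hp2 : p ≠ 2) (S : Subgroup G)
    (hS : IsPGroup p S) (hr : ¬ Cfsg.PRankLE p 2 S)
    (A : Subgroup G) (hAS : A ≤ S) (hAe : Cfsg.IsElementaryAbelian p A)
    (hA2 : Nat.card A = p ^ 2)
    (hAmax : ∀ B : Subgroup G, B ≤ S → Cfsg.IsElementaryAbelian p B → A ≤ B → B = A) :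
    CentStruct p S A := by
  have hpp : p.Prime := Fact.out
  have hAc : ∀ a ∈ A, ∀ b ∈ A, a * b = b * a := fun a ha b hb =>
    haveI := hAe.1
    setLike_mul_comm ha hb
  -- transport to `↥S`
  set E : Subgroup S := A.subgroupOf S with hEdef
  have hE : Cfsg.IsElementaryAbelian p E := by
    constructor
    · apply IsMulCommutative.of_comm
      rintro ⟨⟨u, huS⟩, hu⟩ ⟨⟨v, hvS⟩, hv⟩
      apply Subtype.ext; apply Subtype.ext
      exact hAc u hu v hv
    · rintro ⟨u, huS⟩ hu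
      apply Subtype.ext
      exact hAe.2 u hu
  have hE2 : Nat.card E = p ^ 2 := by
    rw [← hA2]
    exact Nat.card_congr (Subgroup.subgroupOfEquivOfLe hAS).toEquiv
  have hEmax : ∀ B : Subgroup S, Cfsg.IsElementaryAbelian p B → E ≤ B → B = E := by
    intro B hB hEB
    have hB' : Cfsg.IsElementaryAbelian p (B.map S.subtype) := by
      constructor
      · apply IsMulCommutative.of_comm
        rintro ⟨_, ⟨u, hu, rfl⟩⟩ ⟨_, ⟨v, hv, rfl⟩⟩
        apply Subtype.ext
        have hBc := hB.1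
        have := setLike_mul_comm hu hv
        show (u : G) * v = v * u
        exact congrArg Subtype.val this
      · rintro _ ⟨u, hu, rfl⟩
        have := hB.2 u hu
        exact congrArg Subtype.val this
    have hAB : A ≤ B.map S.subtype := by
      intro a ha
      exact ⟨⟨a, hAS ha⟩, hEB (show (⟨a, hAS ha⟩ : S) ∈ E from ha), rfl⟩
    have hBS : B.map S.subtype ≤ S := by
      rintro _ ⟨u, _, rfl⟩; exact u.2
    have hBA := hAmax _ hBS hB' hAB
    apply le_antisymm _ hEB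
    intro u hu
    show (u : G) ∈ A
    rw [← hBA]
    exact ⟨u, hu, rfl⟩
  obtain ⟨h1, h2, -, h4, h5⟩ := Cfsg.Agent.S1453.result (R := S) p hp2 hS hr E hE hE2 hEmax
  set W : Subgroup S :=
    Subgroup.closure {x : S | x ∈ Subgroup.upperCentralSeries S 2 ∧ x ^ p = 1} with hW
  set T : Subgroup S := Subgroup.centralizer (W : Set S) with hT
  have hTch : T.Characteristic := h4
  have hTn : T.Normal := Subgroup.normal_of_characteristic T
  -- pick `e ∈ E ∖ T`
  obtain ⟨e, heE, heT⟩ := SetLike.not_le_iff_exists.mp h1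
  set a : G := (e : G) with ha
  have haA : a ∈ A := heE
  set T' : Subgroup G := T.map S.subtype with hT'
  have hT'S : T' ≤ S := by rintro _ ⟨u, _, rfl⟩; exact u.2
  have hmemT' : ∀ u : S, (u : G) ∈ T' ↔ u ∈ T := by
    intro u
    constructor
    · rintro ⟨v, hv, hvu⟩
      have : v = u := Subtype.ext hvu
      rwa [← this]
    · intro hu; exact ⟨u, hu, rfl⟩
  have haT' : a ∉ T' := fun h => heT ((hmemT' e).mp h)
  set C : Subgroup G := T' ⊓ Subgroup.centralizer (A : Set G) with hC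
  have hCle : C ≤ S ⊓ Subgroup.centralizer (A : Set G) :=
    le_inf (inf_le_left.trans hT'S) inf_le_right
  -- (F0) in the present setting
  have F0 : ∀ y ∈ S ⊓ Subgroup.centralizer (A : Set G), y ^ p = 1 → y ∈ A := by
    intro y hy hyp
    refine mem_of_centralizes hAS hAe hAmax hy.1 ?_ hyp
    intro b hb
    exact (Subgroup.mem_centralizer_iff.mp hy.2 b hb)
  -- `C` is cyclic
  have hCcyc : IsCyclic C := by
    by_contra hnc
    have hCp : IsPGroup p C := hS.to_le (hCle.trans inf_le_left)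
    have hnc' : ¬ IsCyclic (⊤ : Subgroup C) := by
      intro h
      apply hnc
      exact isCyclic_of_surjective (Subgroup.topEquiv : (⊤ : Subgroup C) ≃* C)
        (Subgroup.topEquiv : (⊤ : Subgroup C) ≃* C).surjective
    obtain ⟨A', -, -, hA'e, hA'2⟩ := Cfsg.Agent.S0636.result (R := C) hp2 hCp ⊤ hnc'
    have hA'' : A'.map C.subtype ≤ A := by
      rintro _ ⟨u, hu, rfl⟩
      apply F0 _ (hCle u.2)
      have := hA'e.2 u hu
      exact congrArg Subtype.val this
    have hcard : Nat.card (A'.map C.subtype) = p ^ 2 := by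
      rw [← hA'2]
      exact Nat.card_congr (Subgroup.equivMapOfInjective A' C.subtype
        (Subgroup.subtype_injective C)).symm.toEquiv
    have heq : A'.map C.subtype = A :=
      Subgroup.eq_of_le_of_card_ge hA'' (by rw [hcard, hA2])
    have : a ∈ A'.map C.subtype := by rw [heq]; exact haA
    obtain ⟨u, -, hu⟩ := this
    apply haT'
    rw [← hu]
    exact u.2.1
  refine ⟨a, haA, C, hCle, hCcyc, ?_, ?_, ?_⟩
  · intro c hc
    exact Subgroup.mem_centralizer_iff.mp hc.2 a haA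
  · apply le_antisymm
    · -- `S ⊓ C(A) ≤ ⟨a⟩ C`
      intro x hx
      have hcard : Nat.card (S ⧸ T) = p := by rw [← Subgroup.index_eq_card]; exact h5
      have hne : (QuotientGroup.mk e : S ⧸ T) ≠ 1 := by
        intro h
        exact heT ((QuotientGroup.eq_one_iff e).mp h)
      obtain ⟨k, hk⟩ := Subgroup.mem_zpowers_iff.mp
        (mem_zpowers_of_prime_card (G := S ⧸ T) hcard (g := QuotientGroup.mk e)
          (g' := QuotientGroup.mk (⟨x, hx.1⟩ : S)) hne)
      rw [← QuotientGroup.mk_zpow] at hk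
      have hmem : (e ^ k)⁻¹ * (⟨x, hx.1⟩ : S) ∈ T := QuotientGroup.eq.mp hk
      have hmem' : (a ^ k)⁻¹ * x ∈ T' := by
        have := (hmemT' ((e ^ k)⁻¹ * (⟨x, hx.1⟩ : S))).mpr hmem
        simpa using this
      have haC : a ∈ Subgroup.centralizer (A : Set G) := by
        rw [Subgroup.mem_centralizer_iff]
        intro b hb
        exact hAc b hb a haA
      have hmemC : (a ^ k)⁻¹ * x ∈ C :=
        ⟨hmem', Subgroup.mul_mem _ (Subgroup.inv_mem _ (Subgroup.zpow_mem _ haC k)) hx.2⟩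
      have : x = a ^ k * ((a ^ k)⁻¹ * x) := by group
      rw [this]
      exact Subgroup.mul_mem _ (Subgroup.mem_sup_left (Subgroup.zpow_mem_zpowers a k))
        (Subgroup.mem_sup_right hmemC)
    · apply sup_le
      · rw [Subgroup.zpowers_le]
        refine ⟨hAS haA, ?_⟩
        show a ∈ Subgroup.centralizer (A : Set G)
        rw [Subgroup.mem_centralizer_iff]
        intro b hb
        exact hAc b hb a haA
      · exact hCle
  · -- elements of order `p` of `C` are central in `S`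
    intro c hc hcp
    have hcA : c ∈ A := F0 c (hCle hc) hcp
    have hcS : c ∈ S := hAS hcA
    set ZS : Subgroup S := Subgroup.closure {x : S | x ∈ Subgroup.center S ∧ x ^ p = 1} with hZS
    have hZc : ZS ≤ Subgroup.center S := by
      rw [hZS, Subgroup.closure_le]
      intro x hx; exact hx.1
    have hZE : ZS ≤ E := by
      rw [hZS, Subgroup.closure_le]
      rintro ⟨x, hxS⟩ ⟨hxc, hxp⟩
      show x ∈ A
      apply F0 x ⟨hxS, ?_⟩ (congrArg Subtype.val hxp)
      show x ∈ Subgroup.centralizer (A : Set G)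
      rw [Subgroup.mem_centralizer_iff]
      intro b hb
      have := Subgroup.mem_center_iff.mp hxc ⟨b, hAS hb⟩
      exact congrArg Subtype.val this
    have hZT : ZS ≤ T := hZc.trans (Subgroup.center_le_centralizer _)
    have hZET : ZS ≤ E ⊓ T := le_inf hZE hZT
    have hETne : E ⊓ T ≠ E := by
      intro h
      apply heT
      have : e ∈ E ⊓ T := by rw [h]; exact heE
      exact this.2
    have hZne : ZS ≠ ⊥ := by
      intro h
      have : Nat.card ZS = 1 := by rw [h]; exact Subgroup.card_bot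
      rw [h2] at this
      exact hpp.one_lt.ne' this
    have hETbot : E ⊓ T ≠ ⊥ := by
      intro h
      apply hZne
      exact le_bot_iff.mp (h ▸ hZET)
    have hETp : Nat.card (E ⊓ T : Subgroup S) = p :=
      Cfsg.Agent.S1453.card_eq_prime_of_between hpp inf_le_left hE2 hETbot hETne
    have hZeq : ZS = E ⊓ T :=
      Subgroup.eq_of_le_of_card_ge hZET (by rw [hETp, h2])
    have hcZ : (⟨c, hcS⟩ : S) ∈ ZS := by
      rw [hZeq]
      exact ⟨hcA, (hmemT' ⟨c, hcS⟩).mp hc.1⟩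
    have hcc := hZc hcZ
    rw [Subgroup.mem_centralizer_iff]
    intro s hs
    have := Subgroup.mem_center_iff.mp hcc ⟨s, hs⟩
    exact congrArg Subtype.val this


/-- Rank at most two: from the structure given by S1412. -/
theorem cs_rank2 [Finite G] (p : ℕ) [Fact p.Prime] (S : Subgroup G) (hS : IsPGroup p S)
    (P₁ P₂ : Subgroup G) (hsup : P₁ ⊔ P₂ = S) (hcomm : ∀ a ∈ P₁, ∀ b ∈ P₂, a * b = b * a)
    (hc1 : Nat.card P₁ = p ^ 3) (hexp : Monoid.exponent P₁ = p) (hcyc : IsCyclic P₂)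
    (hΩ : Subgroup.closure {x : G | x ∈ P₂ ∧ x ^ p = 1} =
      P₁ ⊓ Subgroup.centralizer (P₁ : Set G))
    (A : Subgroup G) (hAS : A ≤ S) (hAe : Cfsg.IsElementaryAbelian p A)
    (hA2 : Nat.card A = p ^ 2)
    (hAmax : ∀ B : Subgroup G, B ≤ S → Cfsg.IsElementaryAbelian p B → A ≤ B → B = A) :
    CentStruct p S A := by
  have hpp : p.Prime := Fact.out
  have hAc : ∀ a ∈ A, ∀ b ∈ A, a * b = b * a := fun a ha b hb =>
    haveI := hAe.1
    setLike_mul_comm ha hb
  have hP1S : P₁ ≤ S := hsup ▸ le_sup_left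
  have hP2S : P₂ ≤ S := hsup ▸ le_sup_right
  have hpow1 : ∀ x ∈ P₁, x ^ p = 1 := by
    intro x hx
    have := Monoid.pow_exponent_eq_one (⟨x, hx⟩ : P₁)
    rw [hexp] at this
    exact congrArg Subtype.val this
  set Z1 : Subgroup G := P₁ ⊓ Subgroup.centralizer (P₁ : Set G) with hZ1
  have hZ1P2 : Z1 ≤ P₂ := by
    rw [← hΩ, Subgroup.closure_le]
    intro x hx; exact hx.1
  have hP2c : ∀ a ∈ P₂, ∀ b ∈ P₂, a * b = b * a := fun a ha b hb =>
    setLike_mul_comm ha hb
  have hP2Z : P₂ ≤ Subgroup.centralizer (S : Set G) := by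
    intro b hb
    rw [Subgroup.mem_centralizer_iff]
    intro s hs
    have hs' : s ∈ P₁ ⊔ P₂ := by rw [hsup]; exact hs
    obtain ⟨x1, h1, x2, h2, rfl⟩ := mem_sup_of_comm hcomm hs'
    have e1 := hcomm x1 h1 b hb
    have e2 := hP2c x2 h2 b hb
    calc x1 * x2 * b = x1 * (x2 * b) := by group
      _ = x1 * (b * x2) := by rw [e2]
      _ = (x1 * b) * x2 := by group
      _ = b * x1 * x2 := by rw [e1]
      _ = b * (x1 * x2) := by group
  have hSA : Subgroup.centralizer (S : Set G) ≤ Subgroup.centralizer (A : Set G) :=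
    Subgroup.centralizer_le (SetLike.coe_subset_coe.mpr hAS)
  -- elements of order `p` of `S` lie in `P₁`
  have hΩS : ∀ x ∈ S, x ^ p = 1 → x ∈ P₁ := by
    intro x hx hxp
    have hx' : x ∈ P₁ ⊔ P₂ := by rw [hsup]; exact hx
    obtain ⟨x1, h1, x2, h2, rfl⟩ := mem_sup_of_comm hcomm hx'
    have hc : Commute x1 x2 := hcomm x1 h1 x2 h2
    rw [hc.mul_pow, hpow1 x1 h1, one_mul] at hxp
    have : x2 ∈ Z1 := by
      rw [← hΩ]; exact Subgroup.subset_closure ⟨h2, hxp⟩
    exact P₁.mul_mem h1 this.1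
  have hAP1 : A ≤ P₁ := fun a ha => hΩS a (hAS ha) (hAe.2 a ha)
  have F0 : ∀ y ∈ S ⊓ Subgroup.centralizer (A : Set G), y ^ p = 1 → y ∈ A := by
    intro y hy hyp
    refine mem_of_centralizes hAS hAe hAmax hy.1 ?_ hyp
    intro b hb
    exact (Subgroup.mem_centralizer_iff.mp hy.2 b hb)
  have hZ1A : Z1 ≤ A := by
    intro z hz
    apply F0 z ⟨hP1S hz.1, ?_⟩ (hpow1 z hz.1)
    exact Subgroup.centralizer_le (SetLike.coe_subset_coe.mpr hAP1) hz.2
  have hZ1ne : Z1 ≠ ⊥ := by
    have hP1p : IsPGroup p P₁ := hS.to_le hP1S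
    have hnt : Nontrivial P₁ := by
      rw [← Finite.one_lt_card_iff_nontrivial, hc1]
      exact Nat.one_lt_pow (by norm_num) hpp.one_lt
    have hcnt := hP1p.center_nontrivial
    obtain ⟨⟨z, hzc⟩, hz1⟩ := exists_ne (1 : Subgroup.center P₁)
    intro h
    apply hz1
    have hzZ : (z : G) ∈ Z1 := by
      refine ⟨z.2, ?_⟩
      show (z : G) ∈ Subgroup.centralizer (P₁ : Set G)
      rw [Subgroup.mem_centralizer_iff]
      intro b hb
      have := Subgroup.mem_center_iff.mp hzc ⟨b, hb⟩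
      exact congrArg Subtype.val this
    rw [h, Subgroup.mem_bot] at hzZ
    apply Subtype.ext; apply Subtype.ext; exact hzZ
  have hZ1neA : Z1 ≠ A := by
    intro h
    have hle : P₁ ≤ A := by
      intro x hx
      apply F0 x ⟨hP1S hx, ?_⟩ (hpow1 x hx)
      show x ∈ Subgroup.centralizer (A : Set G)
      rw [Subgroup.mem_centralizer_iff]
      intro b hb
      rw [← h] at hb
      exact (Subgroup.mem_centralizer_iff.mp hb.2 x hx).symm
    have hcard := Subgroup.card_le_of_le hle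
    rw [hc1, hA2] at hcard
    have := Nat.pow_lt_pow_right hpp.one_lt (show 2 < 3 by norm_num)
    omega
  have hZ1p : Nat.card Z1 = p :=
    Cfsg.Agent.S1453.card_eq_prime_of_between hpp hZ1A hA2 hZ1ne hZ1neA
  obtain ⟨a, haA, haZ⟩ : ∃ a ∈ A, a ∉ Z1 := by
    by_contra hcon
    apply hZ1neA
    apply le_antisymm hZ1A
    intro x hx
    by_contra hxZ
    exact hcon ⟨x, hx, hxZ⟩
  have hsupA : Z1 ⊔ Subgroup.zpowers a = A :=
    Cfsg.Agent.S1453.sup_zpowers_eq hpp hZ1A hZ1p hA2 haA haZ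
  refine ⟨a, haA, P₂, le_inf hP2S (hP2Z.trans hSA), hcyc, ?_, ?_, ?_⟩
  · intro c hc
    exact Subgroup.mem_centralizer_iff.mp (hP2Z hc) a (hAS haA)
  · apply le_antisymm
    · intro x hx
      have hxS : x ∈ P₁ ⊔ P₂ := by rw [hsup]; exact hx.1
      obtain ⟨x1, h1, x2, h2, rfl⟩ := mem_sup_of_comm hcomm hxS
      have hx1A : x1 ∈ A := by
        apply F0 x1 ⟨hP1S h1, ?_⟩ (hpow1 x1 h1)
        have : x1 = x1 * x2 * x2⁻¹ := by group
        rw [this]
        exact Subgroup.mul_mem _ hx.2 (Subgroup.inv_mem _ (hSA (hP2Z h2)))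
      have hAle : A ≤ Subgroup.zpowers a ⊔ P₂ := by
        rw [← hsupA]; exact sup_le (hZ1P2.trans le_sup_right) le_sup_left
      exact Subgroup.mul_mem _ (hAle hx1A) (Subgroup.mem_sup_right h2)
    · apply sup_le
      · rw [Subgroup.zpowers_le]
        refine ⟨hAS haA, ?_⟩
        show a ∈ Subgroup.centralizer (A : Set G)
        rw [Subgroup.mem_centralizer_iff]
        intro b hb
        exact hAc b hb a haA
      · exact le_inf hP2S (hP2Z.trans hSA)
  · intro c hc _
    exact hP2Z hc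

/-- **(CS)** Structure of `C_S(A)` for `A` a maximal (by inclusion) elementary abelian subgroup of
order `p ^ 2` of the `p`-group `S`, `p` odd.  `h1412` is the conclusion of S1412 for `S`. -/
theorem centralizer_structure [Finite G] (p : ℕ) [Fact p.Prime] (hp2 : p ≠ 2) (S : Subgroup G)
    (hS : IsPGroup p S)
    (h1412 : Cfsg.PRankLE p 2 S → IsMulCommutative S ∨ ∃ P₁ P₂ : Subgroup G, P₁ ⊔ P₂ = S ∧
      (∀ a ∈ P₁, ∀ b ∈ P₂, a * b = b * a) ∧ ¬ IsMulCommutative P₁ ∧ Nat.card P₁ = p ^ 3 ∧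
      Monoid.exponent P₁ = p ∧ IsCyclic P₂ ∧
      Subgroup.closure {x : G | x ∈ P₂ ∧ x ^ p = 1} = P₁ ⊓ Subgroup.centralizer (P₁ : Set G))
    (A : Subgroup G) (hAS : A ≤ S) (hAe : Cfsg.IsElementaryAbelian p A)
    (hA2 : Nat.card A = p ^ 2)
    (hAmax : ∀ B : Subgroup G, B ≤ S → Cfsg.IsElementaryAbelian p B → A ≤ B → B = A) :
    IsMulCommutative S ∨ ∃ a ∈ A, ∃ C : Subgroup G,
      C ≤ S ⊓ Subgroup.centralizer (A : Set G) ∧ IsCyclic C ∧ (∀ c ∈ C, a * c = c * a) ∧
      S ⊓ Subgroup.centralizer (A : Set G) = Subgroup.zpowers a ⊔ C ∧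
      ∀ c ∈ C, c ^ p = 1 → c ∈ Subgroup.centralizer (S : Set G) := by
  by_cases hr : Cfsg.PRankLE p 2 S
  · rcases h1412 hr with h | ⟨P₁, P₂, hsup, hcomm, -, hc1, hexp, hcyc, hΩ⟩
    · exact Or.inl h
    · exact Or.inr (cs_rank2 p S hS P₁ P₂ hsup hcomm hc1 hexp hcyc hΩ A hAS hAe hA2 hAmax)
  · exact Or.inr (cs_rank3 p hp2 S hS hr A hAS hAe hA2 hAmax)

/-- **(CC)** `C_S(A)` is abelian. -/
theorem centralizer_comm [Finite G] (p : ℕ) [Fact p.Prime] (hp2 : p ≠ 2) (S : Subgroup G)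
    (hS : IsPGroup p S)
    (h1412 : Cfsg.PRankLE p 2 S → IsMulCommutative S ∨ ∃ P₁ P₂ : Subgroup G, P₁ ⊔ P₂ = S ∧
      (∀ a ∈ P₁, ∀ b ∈ P₂, a * b = b * a) ∧ ¬ IsMulCommutative P₁ ∧ Nat.card P₁ = p ^ 3 ∧
      Monoid.exponent P₁ = p ∧ IsCyclic P₂ ∧
      Subgroup.closure {x : G | x ∈ P₂ ∧ x ^ p = 1} = P₁ ⊓ Subgroup.centralizer (P₁ : Set G))
    (A : Subgroup G) (hAS : A ≤ S) (hAe : Cfsg.IsElementaryAbelian p A)
    (hA2 : Nat.card A = p ^ 2)
    (hAmax : ∀ B : Subgroup G, B ≤ S → Cfsg.IsElementaryAbelian p B → A ≤ B → B = A) :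
    ∀ x ∈ S ⊓ Subgroup.centralizer (A : Set G), ∀ y ∈ S ⊓ Subgroup.centralizer (A : Set G),
      x * y = y * x := by
  rcases centralizer_structure p hp2 S hS h1412 A hAS hAe hA2 hAmax with
    h | ⟨a, -, C, -, hcyc, hac, heq, -⟩
  · intro x hx y hy
    exact setLike_mul_comm hx.1 hy.1
  · have hc : ∀ u ∈ Subgroup.zpowers a, ∀ c ∈ C, u * c = c * u := by
      intro u hu c hc
      obtain ⟨k, rfl⟩ := Subgroup.mem_zpowers_iff.mp hu
      exact (Commute.zpow_left (hac c hc) k).eq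
    have hCc : ∀ c ∈ C, ∀ c' ∈ C, c * c' = c' * c := fun c hc c' hc' =>
      setLike_mul_comm hc hc'
    intro x hx y hy
    rw [heq] at hx hy
    obtain ⟨u, hu, c, hc', rfl⟩ := mem_sup_of_comm hc hx
    obtain ⟨v, hv, d, hd, rfl⟩ := mem_sup_of_comm hc hy
    obtain ⟨k, rfl⟩ := Subgroup.mem_zpowers_iff.mp hu
    obtain ⟨l, rfl⟩ := Subgroup.mem_zpowers_iff.mp hv
    have h1 : Commute (a ^ k) (a ^ l) := (Commute.refl a).zpow_zpow k l
    have h2 : Commute (a ^ k) d := hc _ (Subgroup.zpow_mem_zpowers a k) d hd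
    have h3 : Commute (a ^ l) c := hc _ (Subgroup.zpow_mem_zpowers a l) c hc'
    have h4 : Commute c d := hCc c hc' d hd
    calc a ^ k * c * (a ^ l * d) = a ^ k * (c * a ^ l) * d := by group
      _ = a ^ k * (a ^ l * c) * d := by rw [h3.eq]
      _ = (a ^ k * a ^ l) * (c * d) := by group
      _ = (a ^ l * a ^ k) * (d * c) := by rw [h1.eq, h4.eq]
      _ = a ^ l * (a ^ k * d) * c := by group
      _ = a ^ l * (d * a ^ k) * c := by rw [h2.eq]
      _ = a ^ l * d * (a ^ k * c) := by group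


/-- **(b2)**, minimal hypotheses: if `A` (elementary abelian of order `p ^ 2`, contained in no
larger elementary abelian subgroup of `G`) is central in a Sylow `p`-subgroup `P0` of `M`, then all
Sylow `p`-subgroups of `M` are abelian.  `h1412` is the conclusion of S1412. -/
theorem sylow_comm_of_odd [Finite G] (hodd : Odd (Nat.card G)) (p : ℕ) [Fact p.Prime]
    (h1412 : ∀ S : Sylow p G, Cfsg.PRankLE p 2 (S : Subgroup G) →
      IsMulCommutative (S : Subgroup G) ∨ ∃ P₁ P₂ : Subgroup G, P₁ ⊔ P₂ = (S : Subgroup G) ∧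
      (∀ a ∈ P₁, ∀ b ∈ P₂, a * b = b * a) ∧ ¬ IsMulCommutative P₁ ∧ Nat.card P₁ = p ^ 3 ∧
      Monoid.exponent P₁ = p ∧ IsCyclic P₂ ∧
      Subgroup.closure {x : G | x ∈ P₂ ∧ x ^ p = 1} = P₁ ⊓ Subgroup.centralizer (P₁ : Set G))
    (M : Subgroup G) (A : Subgroup G) (hAe : Cfsg.IsElementaryAbelian p A)
    (hA2 : Nat.card A = p ^ 2)
    (hAmax : ∀ B : Subgroup G, Cfsg.IsElementaryAbelian p B → A ≤ B → B = A)
    (P0 : Sylow p M) (hAP : A ≤ (P0 : Subgroup M).map M.subtype)
    (hcent : ∀ a ∈ A, ∀ x ∈ (P0 : Subgroup M).map M.subtype, a * x = x * a) :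
    ∀ P : Sylow p M, IsMulCommutative (P : Subgroup M) := by
  have hp2 : p ≠ 2 := by
    rintro rfl
    have h1 : Nat.card A ∣ Nat.card G := Subgroup.card_subgroup_dvd_card A
    rw [hA2] at h1
    have h2 : 2 ∣ Nat.card G := dvd_trans (dvd_pow_self 2 (by norm_num)) h1
    exact (Nat.not_even_iff_odd.mpr hodd) (even_iff_two_dvd.mpr h2)
  have hP0p : IsPGroup p ((P0 : Subgroup M).map M.subtype) := P0.2.map M.subtype
  obtain ⟨S, hS⟩ := hP0p.exists_le_sylow
  have hAS : A ≤ S := hAP.trans hS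
  have hcc := centralizer_comm p hp2 S S.2 (h1412 S) A hAS hAe hA2
    (fun B _ hB hAB => hAmax B hB hAB)
  have hP0c : ∀ x ∈ (P0 : Subgroup M).map M.subtype, ∀ y ∈ (P0 : Subgroup M).map M.subtype,
      x * y = y * x := by
    intro x hx y hy
    exact hcc x ⟨hS hx, Subgroup.mem_centralizer_iff.mpr (fun a ha => hcent a ha x hx)⟩
      y ⟨hS hy, Subgroup.mem_centralizer_iff.mpr (fun a ha => hcent a ha y hy)⟩
  have hP0c' : IsMulCommutative (P0 : Subgroup M) := by
    apply IsMulCommutative.of_comm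
    rintro ⟨u, hu⟩ ⟨v, hv⟩
    apply Subtype.ext; apply Subtype.ext
    exact hP0c u ⟨u, hu, rfl⟩ v ⟨v, hv, rfl⟩
  intro P
  obtain ⟨g, hg⟩ := MulAction.exists_smul_eq M P0 P
  have e := Sylow.equivSMul P0 g
  rw [← hg]
  apply IsMulCommutative.of_comm
  intro x y
  have h := mul_comm' (e.symm x) (e.symm y)
  have h' := congrArg e h
  simpa using h'

set_option linter.unusedVariables false in
/-- **(b2)** in the announced form (the hypotheses `hG` (only odd order is used), `hM`, `hCA`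
and the first component of `hA` are not needed). -/
theorem sylow_comm [Finite G] (hG : Cfsg.IsMinSimpleOddOrder G) (p : ℕ) [Fact p.Prime]
    (h1412 : ∀ S : Sylow p G, Cfsg.PRankLE p 2 (S : Subgroup G) →
      IsMulCommutative (S : Subgroup G) ∨ ∃ P₁ P₂ : Subgroup G, P₁ ⊔ P₂ = (S : Subgroup G) ∧
      (∀ a ∈ P₁, ∀ b ∈ P₂, a * b = b * a) ∧ ¬ IsMulCommutative P₁ ∧ Nat.card P₁ = p ^ 3 ∧
      Monoid.exponent P₁ = p ∧ IsCyclic P₂ ∧
      Subgroup.closure {x : G | x ∈ P₂ ∧ x ^ p = 1} = P₁ ⊓ Subgroup.centralizer (P₁ : Set G))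
    (M : Subgroup G) (hM : IsCoatom M) (A : Subgroup G)
    (hA : A ≤ M ∧ Cfsg.IsElementaryAbelian p A ∧ Nat.card A = p ^ 2)
    (hCA : Subgroup.centralizer (A : Set G) ≤ M)
    (hAmax : ∀ B : Subgroup G, Cfsg.IsElementaryAbelian p B → A ≤ B → B = A)
    (P0 : Sylow p M) (hAP : A ≤ (P0 : Subgroup M).map M.subtype)
    (hcent : ∀ a ∈ A, ∀ x ∈ (P0 : Subgroup M).map M.subtype, a * x = x * a) :
    ∀ P : Sylow p M, IsMulCommutative (P : Subgroup M) :=
  sylow_comm_of_odd hG.1 p h1412 M A hA.2.1 hA.2.2 hAmax P0 hAP hcent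

/-- If a Sylow `p`-subgroup `P` of `M` is abelian and contains `A`, then every element of `P` of
order dividing `p` lies in `A` (second half of the S1417(b) shape). -/
theorem omega_le_of_comm {p : ℕ} (M : Subgroup G) (A : Subgroup G)
    (hAe : Cfsg.IsElementaryAbelian p A)
    (hAmax : ∀ B : Subgroup G, Cfsg.IsElementaryAbelian p B → A ≤ B → B = A)
    (P : Sylow p M) (hPc : IsMulCommutative (P : Subgroup M))
    (hAP : A ≤ (P : Subgroup M).map M.subtype) :
    ∀ x ∈ (P : Subgroup M).map M.subtype, x ^ p = 1 → x ∈ A := by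
  intro x hx hxp
  refine mem_of_centralizes (S := ⊤) le_top hAe (fun B _ hB hAB => hAmax B hB hAB)
    (Subgroup.mem_top x) ?_ hxp
  intro a ha
  obtain ⟨u, hu, rfl⟩ := hAP ha
  obtain ⟨v, hv, rfl⟩ := hx
  have := setLike_mul_comm hu hv
  have h2 := congrArg M.subtype this
  simpa using h2

end Cfsg.Agent.Helper79.BG11b2
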