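import Cfsg.Agent.Lib.Helper79.Codegree

set_option autoImplicit false
set_option linter.unusedSectionVars false
set_option linter.style.haveILetI false

namespace Cfsg.Agent.Helper79

open Module
open scoped ComplexConjugate

universe u v w

section NormalSums

variable {G : Type v} [Group G] [Fintype G]

/-- regular character formula, both cases -/
theorem sum_degree_mul_eq (g : G) [Decidable (g = 1)] :
    ∑ χ : IrrCharacter G, (χ : G → ℂ) 1 * (χ : G → ℂ) g = if g = 1 then (Nat.card G : ℂ) else 0 := by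
  by_cases hg : g = 1
  · subst hg
    rw [if_pos rfl, ← sum_sq_degree]
    apply Finset.sum_congr rfl
    intro χ _; ring
  · rw [if_neg hg]
    exact sum_degree_mul g hg

theorem pair_eq_sum (f h : G → ℂ) :
    ∑ g : G, f g * h g⁻¹ = (Nat.card G : ℂ) * pair f h := by
  unfold pair
  rw [← mul_assoc, mul_inv_cancel₀ card_ne_zero_complex, one_mul]

open Classical in
/-- the values of an irreducible character sum to zero over a normal subgroup not contained in
its kernel -/
theorem sum_normal_inv_eq_zero (N : Subgroup G) [N.Normal] (χ : IrrCharacter G)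
    (h : ¬ N ≤ irrKer χ) :
    ∑ x : G, (if x ∈ N then (χ : G → ℂ) x⁻¹ else 0) = 0 := by
  haveI : Fintype (G ⧸ N) := Fintype.ofFinite _
  have hne : ∀ ψ : IrrCharacter (G ⧸ N), inflate N ψ ≠ χ := by
    intro ψ hψ
    apply h
    rw [← hψ]
    exact le_irrKer_inflate N ψ
  have hcard : (Nat.card (G ⧸ N) : ℂ) ≠ 0 := card_ne_zero_complex
  have h1 : ∀ x : G, (if x ∈ N then (1 : ℂ) else 0) =
      (Nat.card (G ⧸ N) : ℂ)⁻¹ * ∑ ψ : IrrCharacter (G ⧸ N),
        (ψ : G ⧸ N → ℂ) 1 * (inflate N ψ : G → ℂ) x := by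
    intro x
    simp_rw [inflate_apply]
    rw [sum_degree_mul_eq (QuotientGroup.mk x : G ⧸ N)]
    by_cases hx : x ∈ N
    · rw [if_pos hx, if_pos ((QuotientGroup.eq_one_iff x).2 hx), inv_mul_cancel₀ hcard]
    · rw [if_neg hx, if_neg (fun h' => hx ((QuotientGroup.eq_one_iff x).1 h')), mul_zero]
  have h2 : ∀ x : G, (if x ∈ N then (χ : G → ℂ) x⁻¹ else 0) =
      (if x ∈ N then (1 : ℂ) else 0) * (χ : G → ℂ) x⁻¹ := by
    intro x; split_ifs <;> simp
  simp_rw [h2, h1, mul_assoc, Finset.sum_mul]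
  rw [← Finset.mul_sum, Finset.sum_comm]
  simp_rw [mul_assoc, ← Finset.mul_sum, pair_eq_sum, irr_orthonormal, if_neg (hne _)]
  simp

open Classical in
theorem sum_normal_eq_zero (N : Subgroup G) [N.Normal] (χ : IrrCharacter G)
    (h : ¬ N ≤ irrKer χ) :
    ∑ x : G, (if x ∈ N then (χ : G → ℂ) x else 0) = 0 := by
  have h0 := sum_normal_inv_eq_zero N χ h
  rw [← Equiv.sum_comp (Equiv.inv G)] at h0
  simpa using h0

end NormalSums

end Cfsg.Agent.Helper79
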