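import Mathlib

set_option autoImplicit false

namespace Cfsg.Agent.Helper79

open Module
open scoped ComplexConjugate

section FiniteOrder

variable {V : Type*} [AddCommGroup V] [Module ℂ V] [FiniteDimensional ℂ V]

omit [FiniteDimensional ℂ V] in
/-- A finite order endomorphism is semisimple. -/
theorem isSemisimple_of_pow_eq_one (f : Module.End ℂ V) (m : ℕ) (hm : 0 < m) (hf : f ^ m = 1) :
    f.IsSemisimple := by
  have hsq : Squarefree (Polynomial.X ^ m - Polynomial.C (1 : ℂ)) := by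
    apply Polynomial.Separable.squarefree
    exact Polynomial.separable_X_pow_sub_C (1 : ℂ) (by exact_mod_cast hm.ne') one_ne_zero
  apply Module.End.isSemisimple_of_squarefree_aeval_eq_zero hsq
  simp [hf]

theorem eigen_isInternal (f : Module.End ℂ V) (hf : f.IsSemisimple) :
    DirectSum.IsInternal (fun μ : ℂ => f.eigenspace μ) := by
  rw [DirectSum.isInternal_submodule_iff_iSupIndep_and_iSup_eq_top]
  exact ⟨Module.End.eigenspaces_iSupIndep f, hf.iSup_eigenspace_eq_top⟩

theorem eigen_finite (f : Module.End ℂ V) : {μ : ℂ | f.eigenspace μ ≠ ⊥}.Finite := by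
  have := f.finite_hasEigenvalue
  exact this

theorem trace_eq_sum_eigen (f h : Module.End ℂ V) (hf : f.IsSemisimple) (c : ℂ → ℂ)
    (hh : ∀ μ : ℂ, ∀ v ∈ f.eigenspace μ, h v = c μ • v) :
    LinearMap.trace ℂ V h =
      ∑ μ ∈ (eigen_finite f).toFinset, c μ * (finrank ℂ (f.eigenspace μ) : ℂ) := by
  have hmaps : ∀ μ : ℂ, Set.MapsTo h (f.eigenspace μ) (f.eigenspace μ) := by
    intro μ v hv
    have : h v = c μ • v := hh μ v hv
    simp only [SetLike.mem_coe] at hv ⊢
    rw [this]
    exact Submodule.smul_mem _ _ hv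
  rw [LinearMap.trace_eq_sum_trace_restrict' (eigen_isInternal f hf) (eigen_finite f) hmaps]
  apply Finset.sum_congr rfl
  intro μ _
  have : h.restrict (hmaps μ) = c μ • (LinearMap.id : f.eigenspace μ →ₗ[ℂ] f.eigenspace μ) := by
    ext ⟨v, hv⟩
    change h v = c μ • v
    exact hh μ v hv
  rw [this]
  simp [LinearMap.trace_id]

/-- eigenvalues of a finite order endomorphism are roots of unity -/
theorem eigen_pow_eq_one (f : Module.End ℂ V) (m : ℕ) (hf : f ^ m = 1) (μ : ℂ)
    (hμ : μ ∈ (eigen_finite f).toFinset) : μ ^ m = 1 := by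
  simp only [Set.Finite.mem_toFinset, Set.mem_ofPred_eq] at hμ
  obtain ⟨v, hv, hv0⟩ := (Submodule.ne_bot_iff _).1 hμ
  have h1 : (f ^ m) v = μ ^ m • v := by
    have hv' : f v = μ • v := Module.End.mem_eigenspace_iff.1 hv
    clear hf
    induction m with
    | zero => simp
    | succ k ih =>
      rw [pow_succ, Module.End.mul_apply, hv', map_smul, ih, smul_smul, pow_succ, mul_comm]
  rw [hf] at h1
  have h2 : (μ ^ m - 1) • v = 0 := by
    rw [sub_smul, ← h1]; simp
  rcases smul_eq_zero.1 h2 with h3 | h3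
  · exact sub_eq_zero.1 h3
  · exact absurd h3 hv0

theorem finrank_eq_sum_eigen (f : Module.End ℂ V) (hf : f.IsSemisimple) :
    (finrank ℂ V : ℂ) = ∑ μ ∈ (eigen_finite f).toFinset, (finrank ℂ (f.eigenspace μ) : ℂ) := by
  have := trace_eq_sum_eigen f 1 hf (fun _ => 1) (by intro μ v _; simp)
  simpa using this

theorem trace_eq_sum_eigen_self (f : Module.End ℂ V) (hf : f.IsSemisimple) :
    LinearMap.trace ℂ V f = ∑ μ ∈ (eigen_finite f).toFinset, μ * (finrank ℂ (f.eigenspace μ) : ℂ) :=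
  trace_eq_sum_eigen f f hf (fun μ => μ) (by intro μ v hv; exact Module.End.mem_eigenspace_iff.1 hv)

theorem trace_inv_eq_sum_eigen (f g : Module.End ℂ V) (hf : f.IsSemisimple) (hgf : g * f = 1) :
    LinearMap.trace ℂ V g =
      ∑ μ ∈ (eigen_finite f).toFinset, μ⁻¹ * (finrank ℂ (f.eigenspace μ) : ℂ) := by
  apply trace_eq_sum_eigen f g hf (fun μ => μ⁻¹)
  intro μ v hv
  have hv' : f v = μ • v := Module.End.mem_eigenspace_iff.1 hv
  have h1 : g (f v) = v := by
    rw [← Module.End.mul_apply, hgf]; simp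
  rw [hv', map_smul] at h1
  by_cases hμ : μ = 0
  · subst hμ
    simp at h1
    simp [← h1]
  · calc g v = μ⁻¹ • (μ • g v) := by rw [smul_smul, inv_mul_cancel₀ hμ, one_smul]
      _ = μ⁻¹ • v := by rw [h1]

theorem norm_eq_one_of_pow_eq_one' (μ : ℂ) (m : ℕ) (hm : 0 < m) (h : μ ^ m = 1) : ‖μ‖ = 1 :=
  Complex.norm_eq_one_of_pow_eq_one h hm.ne'

theorem inv_eq_conj_of_pow_eq_one (μ : ℂ) (m : ℕ) (hm : 0 < m) (h : μ ^ m = 1) : μ⁻¹ = conj μ :=
  Complex.inv_eq_conj (norm_eq_one_of_pow_eq_one' μ m hm h)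

/-- trace of the inverse of a finite order endomorphism is the conjugate of the trace -/
theorem trace_inv_eq_conj (f g : Module.End ℂ V) (m : ℕ) (hm : 0 < m) (hf : f ^ m = 1)
    (hgf : g * f = 1) : LinearMap.trace ℂ V g = conj (LinearMap.trace ℂ V f) := by
  have hss := isSemisimple_of_pow_eq_one f m hm hf
  rw [trace_inv_eq_sum_eigen f g hss hgf, trace_eq_sum_eigen_self f hss, map_sum]
  apply Finset.sum_congr rfl
  intro μ hμ
  rw [map_mul, Complex.conj_natCast, inv_eq_conj_of_pow_eq_one μ m hm (eigen_pow_eq_one f m hf μ hμ)]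

theorem norm_trace_le (f : Module.End ℂ V) (m : ℕ) (hm : 0 < m) (hf : f ^ m = 1) :
    ‖LinearMap.trace ℂ V f‖ ≤ (finrank ℂ V : ℝ) := by
  have hss := isSemisimple_of_pow_eq_one f m hm hf
  have h1 : ((finrank ℂ V : ℝ) : ℂ) = ((∑ μ ∈ (eigen_finite f).toFinset, (finrank ℂ (f.eigenspace μ) : ℝ) : ℝ) : ℂ) := by
    push_cast
    exact finrank_eq_sum_eigen f hss
  have h2 : (finrank ℂ V : ℝ) = ∑ μ ∈ (eigen_finite f).toFinset, (finrank ℂ (f.eigenspace μ) : ℝ) := by
    exact_mod_cast h1
  rw [trace_eq_sum_eigen_self f hss, h2]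
  refine (norm_sum_le _ _).trans ?_
  apply Finset.sum_le_sum
  intro μ hμ
  rw [norm_mul, norm_eq_one_of_pow_eq_one' μ m hm (eigen_pow_eq_one f m hf μ hμ), one_mul]
  simp

theorem isIntegral_trace (f : Module.End ℂ V) (m : ℕ) (hm : 0 < m) (hf : f ^ m = 1) :
    IsIntegral ℤ (LinearMap.trace ℂ V f) := by
  have hss := isSemisimple_of_pow_eq_one f m hm hf
  rw [trace_eq_sum_eigen_self f hss]
  apply IsIntegral.sum
  intro μ hμ
  apply IsIntegral.mul
  · exact IsIntegral.of_pow hm (by rw [eigen_pow_eq_one f m hf μ hμ]; exact isIntegral_one)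
  · exact isIntegral_natCast (R := ℤ) _

theorem eq_one_of_norm_one_re_one (μ : ℂ) (h1 : ‖μ‖ = 1) (h2 : μ.re = 1) : μ = 1 := by
  have h3 : Complex.normSq μ = 1 := by
    rw [Complex.normSq_eq_norm_sq, h1]; norm_num
  rw [Complex.normSq_apply, h2] at h3
  have h4 : μ.im = 0 := by nlinarith
  apply Complex.ext <;> simp [h2, h4]

/-- If the trace of a finite order endomorphism equals the dimension, it is the identity. -/
theorem eq_one_of_trace_eq_finrank (f : Module.End ℂ V) (m : ℕ) (hm : 0 < m) (hf : f ^ m = 1)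
    (htr : LinearMap.trace ℂ V f = (finrank ℂ V : ℂ)) : f = 1 := by
  have hss := isSemisimple_of_pow_eq_one f m hm hf
  rw [trace_eq_sum_eigen_self f hss, finrank_eq_sum_eigen f hss] at htr
  have h0 : ∑ μ ∈ (eigen_finite f).toFinset, (1 - μ.re) * (finrank ℂ (f.eigenspace μ) : ℝ) = 0 := by
    have := congrArg Complex.re htr
    simp only [Complex.re_sum, Complex.mul_re, Complex.natCast_re, Complex.natCast_im, mul_zero,
      sub_zero] at this
    simp only [sub_mul, one_mul, Finset.sum_sub_distrib]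
    linarith
  have hnonneg : ∀ μ ∈ (eigen_finite f).toFinset,
      0 ≤ (1 - μ.re) * (finrank ℂ (f.eigenspace μ) : ℝ) := by
    intro μ hμ
    have h1 := norm_eq_one_of_pow_eq_one' μ m hm (eigen_pow_eq_one f m hf μ hμ)
    have h2 : μ.re ≤ 1 := h1 ▸ Complex.re_le_norm μ
    apply mul_nonneg (by linarith) (by positivity)
  have hall := (Finset.sum_eq_zero_iff_of_nonneg hnonneg).1 h0
  have hS : ∀ μ ∈ (eigen_finite f).toFinset, μ = 1 := by
    intro μ hμ
    have h1 := norm_eq_one_of_pow_eq_one' μ m hm (eigen_pow_eq_one f m hf μ hμ)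
    have h3 := hall μ hμ
    have hpos : (0 : ℝ) < (finrank ℂ (f.eigenspace μ) : ℝ) := by
      have : f.eigenspace μ ≠ ⊥ := by simpa using hμ
      have : 0 < finrank ℂ (f.eigenspace μ) := by
        rw [Module.finrank_pos_iff]
        exact (Submodule.nontrivial_iff_ne_bot).2 this
      exact_mod_cast this
    have h4 : 1 - μ.re = 0 := by
      rcases mul_eq_zero.1 h3 with h | h
      · exact h
      · linarith
    exact eq_one_of_norm_one_re_one μ h1 (by linarith)
  have htop : f.eigenspace 1 = ⊤ := by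
    rw [eq_top_iff, ← hss.iSup_eigenspace_eq_top]
    apply iSup_le
    intro μ
    by_cases hμ : f.eigenspace μ = ⊥
    · rw [hμ]; exact bot_le
    · have : μ ∈ (eigen_finite f).toFinset := by simpa using hμ
      rw [hS μ this]
  ext v
  have : v ∈ f.eigenspace 1 := by rw [htop]; trivial
  simpa using Module.End.mem_eigenspace_iff.1 this

end FiniteOrder

end Cfsg.Agent.Helper79
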