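import Mathlib
import Cfsg.Agent.S1409
import Cfsg.Agent.S1415
import Cfsg.Agent.S1417
import Cfsg.Agent.Lib.Helper45.BG143
import Cfsg.Agent.Lib.Helper60.BG139a
import Cfsg.Agent.Lib.Helper76.EqOrd1
import Cfsg.Agent.Lib.Helper33.Conj

/-!
# Request (Q5) of helper54's BG142 server (B–G 14.2, lemma (L1))

If a subgroup `Y` of order `s ∈ τ₃(M)` of a complement `E` of `M_σ` has a nontrivial fixed point on
`M_σ`, then `τ₂(M) = ∅`.
-/

set_option autoImplicit false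
set_option linter.style.haveILetI false
open Pointwise

namespace Cfsg.Agent.Helper79.BG142Req

open Subgroup
open Cfsg.Agent.Helper33 (mem_normalizer_iff_smul_eq conj_smul_le_iff card_conj_smul
  smul_eq_of_mem_normalizer conj_smul_le_conj_smul)
open Cfsg.Agent.Helper34.BG (ne_top_of_le_coatom solvable_of_ne_top normalizer_ne_top
  exists_coatom_ge)

variable {G : Type*} [Group G] [Finite G]

/-- A subgroup of prime order `s ∈ τ₃(M)` of a complement `E` of `M_σ` is normal in `E`. -/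
theorem le_normalizer_of_tau3 (hG : Cfsg.IsMinSimpleOddOrder G) (M : Subgroup G)
    (hM : IsCoatom M) (E : Subgroup G) (hE : Cfsg.IsComplIn E (Cfsg.sigmaCore M) M) (s : ℕ)
    (hs : s ∈ Cfsg.tau3 M) (Y : Subgroup G) (hYE : Y ≤ E) (hY : Nat.card Y = s) :
    E ≤ normalizer (Y : Set G) := by
  haveI : Fact s.Prime := ⟨hs.1⟩
  have hEne : E ≠ ⊤ := ne_top_of_le_coatom hM hE.1
  have hEsol : Group.IsSolvable E := solvable_of_ne_top hG hEne
  have hYp : IsPGroup s Y := IsPGroup.of_card (n := 1) (by rw [hY, pow_one])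
  obtain ⟨E3, hE3, hYE3⟩ :=
    Cfsg.Agent.Helper60.BG139.exists_hall_ge hEsol (Cfsg.tau3 M) hs hYp hYE
  obtain ⟨hcyc, -, hnorm⟩ := (Cfsg.Agent.S1415.result hG M hM E hE).2.2 E3 hE3
  intro e he
  rw [mem_normalizer_iff_smul_eq]
  haveI : IsCyclic ↥E3 := hcyc
  apply Cfsg.Agent.Helper76.EqOrd.eq_of_card_eq_of_le_isCyclic E3 _ _ ?_ hYE3
    (card_conj_smul e Y)
  have h1 : MulAut.conj e • Y ≤ MulAut.conj e • E3 := conj_smul_le_conj_smul hYE3
  rwa [smul_eq_of_mem_normalizer (hnorm he)] at h1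

theorem tau2_eq_empty_of_tau3_fixed (hG : Cfsg.IsMinSimpleOddOrder G) (M : Subgroup G)
    (hM : IsCoatom M) (E : Subgroup G) (hE : Cfsg.IsComplIn E (Cfsg.sigmaCore M) M) (s : ℕ)
    (hs : s ∈ Cfsg.tau3 M) (Y : Subgroup G) (hYE : Y ≤ E) (hY : Nat.card Y = s)
    (hC : Cfsg.sigmaCore M ⊓ centralizer (Y : Set G) ≠ ⊥) :
    Cfsg.tau2 M = ∅ := by
  by_contra hne
  obtain ⟨r, hr⟩ := Set.nonempty_iff_ne_empty.mpr hne
  obtain ⟨A, hAE, hAe, hAc⟩ := Cfsg.Agent.Helper45.BG143.exists_elemAb_in_compl hr hE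
  haveI : Fact s.Prime := ⟨hs.1⟩
  haveI : Fact r.Prime := ⟨hr.1⟩
  have hEY := le_normalizer_of_tau3 hG M hM E hE s hs Y hYE hY
  have hY0 : Y ≠ ⊥ := by
    intro h
    rw [h, Subgroup.card_bot] at hY
    exact hs.1.one_lt.ne hY
  have hY1 : Y ≠ ⊤ := by
    intro h
    have : E = ⊤ := top_le_iff.mp (h ▸ hYE)
    exact ne_top_of_le_coatom hM hE.1 this
  obtain ⟨H, hH, hNH⟩ := exists_coatom_ge (normalizer_ne_top hG hY0 hY1)
  have hHM : H ≠ M := by
    intro h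
    have h9 := (Cfsg.Agent.S1409.result hG M hM s hs.2.1 Y hY (h ▸ hNH)).1.2
    exact h9 hs.2.2.2
  have hAH : A ≤ H := hAE.trans (hEY.trans hNH)
  have h17 := (Cfsg.Agent.S1417.result hG M hM r hr A ⟨hAE.trans hE.1, hAe, hAc⟩).2.2.2.2.1
    H hH hHM hAH
  apply hC
  rw [eq_bot_iff, ← h17]
  exact inf_le_inf_left _ ((centralizer_le_normalizer _).trans hNH)

end Cfsg.Agent.Helper79.BG142Req
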