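import Mathlib
import Cfsg.Agent.Lib.Helper79.BG11b2

/-!
# B-G Section 11, spare pieces for (b1): the transvection in a `p`-group

`P` a `p`-group, `A ≤ P` elementary abelian of order `p ^ 2`, maximal among the elementary abelian
subgroups of `P`, and not central in `P`.  Then `Z := A ∩ Z(P)` has order `p` and contains every
central element of order dividing `p`, and there is `x ∈ N_P(A)` such that `⟨x⟩` permutes
transitively the `p` subgroups of order `p` of `A` different from `Z`.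
-/

set_option autoImplicit false
open Cfsg

namespace Cfsg.Agent.Helper79.BG11b1x

open Cfsg.Agent.Helper79.BG11b2

variable {G : Type*} [Group G]

/-- If `x` has `p`-power order, fixes `Z` pointwise, and `x a x⁻¹ = z₀ a ^ k` with `z₀ ∈ Z`, where
`a` has order `p`, commutes with `Z` and `⟨a⟩ ∩ Z = 1`, then `a ^ k = a`. -/
theorem pow_eq_self_of_conj {p : ℕ} [Fact p.Prime] {Z : Subgroup G} {a x z₀ : G} {k n : ℕ}
    (ha1 : a ≠ 1) (hap : a ^ p = 1) (haZ : ∀ z ∈ Z, a * z = z * a)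
    (hZa : ∀ y ∈ Z, y ∈ Subgroup.zpowers a → y = 1)
    (hxZ : ∀ z ∈ Z, x * z * x⁻¹ = z) (hz₀ : z₀ ∈ Z) (hxa : x * a * x⁻¹ = z₀ * a ^ k)
    (hxn : x ^ (p ^ n) = 1) : a ^ k = a := by
  have hpp : p.Prime := Fact.out
  have hord : orderOf a = p := orderOf_eq_prime hap ha1
  -- iterate
  have hiter : ∀ j : ℕ, ∃ z ∈ Z, x ^ j * a * (x ^ j)⁻¹ = z * a ^ (k ^ j) := by
    intro j
    induction j with
    | zero => exact ⟨1, Z.one_mem, by simp⟩
    | succ j ih =>
      obtain ⟨z, hz, hzj⟩ := ih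
      refine ⟨z * z₀ ^ (k ^ j), Z.mul_mem hz (Z.pow_mem hz₀ _), ?_⟩
      have h1 : x ^ (j + 1) * a * (x ^ (j + 1))⁻¹ = x * (x ^ j * a * (x ^ j)⁻¹) * x⁻¹ := by
        rw [pow_succ']; group
      rw [h1, hzj]
      have h2 : x * (z * a ^ (k ^ j)) * x⁻¹ = (x * z * x⁻¹) * (x * a * x⁻¹) ^ (k ^ j) := by
        have : (x * a * x⁻¹) ^ (k ^ j) = x * a ^ (k ^ j) * x⁻¹ := by
          rw [conj_pow]
        rw [this]; group
      rw [h2, hxZ z hz, hxa]
      have hc : Commute z₀ (a ^ k) :=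
        Commute.pow_right (show Commute z₀ a from (haZ z₀ hz₀).symm) k
      rw [hc.mul_pow, ← pow_mul, ← pow_succ', mul_assoc]
  obtain ⟨z, hz, hzj⟩ := hiter (p ^ n)
  rw [hxn] at hzj
  simp only [one_mul, inv_one, mul_one] at hzj
  -- `z = a * (a ^ _)⁻¹ ∈ ⟨a⟩ ∩ Z`
  have hz1 : z = 1 := by
    apply hZa z hz
    have : z = a * (a ^ (k ^ p ^ n))⁻¹ := eq_mul_inv_of_mul_eq hzj.symm
    rw [this]
    exact Subgroup.mul_mem _ (Subgroup.mem_zpowers a)
      (Subgroup.inv_mem _ (Subgroup.npow_mem_zpowers a _))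
  rw [hz1, one_mul] at hzj
  -- `k ^ p ^ n ≡ 1 [MOD p]`
  have hmod : k ^ p ^ n ≡ 1 [MOD p] := by
    have : a ^ (k ^ p ^ n) = a ^ 1 := by rw [pow_one]; exact hzj.symm
    rw [pow_eq_pow_iff_modEq, hord] at this
    exact this
  have hk : k ≡ 1 [MOD p] := by
    rw [← ZMod.natCast_eq_natCast_iff] at hmod ⊢
    push_cast at hmod ⊢
    rw [ZMod.pow_card_pow] at hmod
    exact hmod
  have : a ^ k = a ^ 1 := by
    rw [pow_eq_pow_iff_modEq, hord]; exact hk
  rw [this, pow_one]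


/-- A nontrivial element of a subgroup of prime order generates it. -/
theorem zpowers_eq_of_card_prime [Finite G] {p : ℕ} (hp : p.Prime) {H : Subgroup G}
    (hH : Nat.card H = p) {a : G} (ha : a ∈ H) (ha1 : a ≠ 1) : Subgroup.zpowers a = H := by
  have hle : Subgroup.zpowers a ≤ H := by rw [Subgroup.zpowers_le]; exact ha
  have hd : Nat.card (Subgroup.zpowers a) ∣ p := hH ▸ Subgroup.card_dvd_of_le hle
  rcases (Nat.dvd_prime hp).mp hd with h | h
  · exfalso; apply ha1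
    have := Subgroup.card_eq_one.mp h
    rw [Subgroup.zpowers_eq_bot] at this
    exact this
  · exact Subgroup.eq_of_le_of_card_ge hle (by rw [h, hH])

/-- The meet of a subgroup `Z` with a subgroup of prime order not contained in `Z` is trivial. -/
theorem eq_one_of_mem_zpowers [Finite G] {p : ℕ} (hp : p.Prime) {Z : Subgroup G} {a : G}
    (hap : a ^ p = 1) (haZ : a ∉ Z) {y : G} (hyZ : y ∈ Z) (hya : y ∈ Subgroup.zpowers a) :
    y = 1 := by
  by_contra hy1
  have ha1 : a ≠ 1 := by rintro rfl; exact haZ Z.one_mem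
  have hcard : Nat.card (Subgroup.zpowers a) = p := by
    have hfact : Fact p.Prime := ⟨hp⟩
    rw [Nat.card_zpowers]; exact orderOf_eq_prime hap ha1
  have := zpowers_eq_of_card_prime hp hcard hya hy1
  apply haZ
  have ha : a ∈ Subgroup.zpowers y := by rw [this]; exact Subgroup.mem_zpowers a
  exact (Subgroup.zpowers_le.mpr hyZ) ha

/-- **Transvection lemma.** -/
theorem exists_transvection [Finite G] (p : ℕ) [Fact p.Prime] (P : Subgroup G)
    (hP : IsPGroup p P) (A : Subgroup G) (hAP : A ≤ P) (hAe : Cfsg.IsElementaryAbelian p A)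
    (hA2 : Nat.card A = p ^ 2)
    (hAmax : ∀ B : Subgroup G, B ≤ P → Cfsg.IsElementaryAbelian p B → A ≤ B → B = A)
    (hnc : ¬ ∀ a ∈ A, ∀ x ∈ P, a * x = x * a) :
    ∃ Z : Subgroup G, Z ≤ A ∧ Nat.card Z = p ∧ (∀ z ∈ Z, ∀ x ∈ P, z * x = x * z) ∧
      (∀ y ∈ P, y ^ p = 1 → (∀ x ∈ P, y * x = x * y) → y ∈ Z) ∧
      ∃ x ∈ P, (∀ a ∈ A, x * a * x⁻¹ ∈ A) ∧
        ∀ A1 A2 : Subgroup G, A1 ≤ A → A2 ≤ A → Nat.card A1 = p → Nat.card A2 = p →
          A1 ≠ Z → A2 ≠ Z → ∃ i : ℕ, A1.map (MulAut.conj (x ^ i)).toMonoidHom = A2 := by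
  have hpp : p.Prime := Fact.out
  have hAc : ∀ a ∈ A, ∀ b ∈ A, a * b = b * a := fun a ha b hb =>
    haveI := hAe.1
    setLike_mul_comm ha hb
  set Z : Subgroup G := A ⊓ Subgroup.centralizer (P : Set G) with hZdef
  have hZA : Z ≤ A := inf_le_left
  have hZc : ∀ z ∈ Z, ∀ x ∈ P, z * x = x * z := by
    intro z hz x hx
    exact (Subgroup.mem_centralizer_iff.mp hz.2 x hx).symm
  have hΩ : ∀ y ∈ P, y ^ p = 1 → (∀ x ∈ P, y * x = x * y) → y ∈ Z := by
    intro y hy hyp hyc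
    refine ⟨mem_of_centralizes hAP hAe hAmax hy (fun a ha => (hyc a (hAP ha)).symm) hyp, ?_⟩
    show y ∈ Subgroup.centralizer (P : Set G)
    rw [Subgroup.mem_centralizer_iff]
    intro x hx
    exact (hyc x hx).symm
  -- `Z ≠ ⊥`
  have hZne : Z ≠ ⊥ := by
    have hPnt : Nontrivial P := by
      rw [← Finite.one_lt_card_iff_nontrivial]
      have h1 : Nat.card A ≤ Nat.card P := Subgroup.card_le_of_le hAP
      have h2 : 1 < p ^ 2 := Nat.one_lt_pow (by norm_num) hpp.one_lt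
      omega
    have hcnt := hP.center_nontrivial
    have hcp : IsPGroup p (Subgroup.center P) := hP.to_subgroup _
    have hdvd : p ∣ Nat.card (Subgroup.center P) := by
      rcases hcp.card_eq_or_dvd with h | h
      · exfalso
        have := Finite.one_lt_card_iff_nontrivial.mpr hcnt
        omega
      · exact h
    obtain ⟨⟨⟨y, hyP⟩, hyc⟩, hy⟩ := exists_prime_orderOf_dvd_card' p hdvd
    have hyp : y ^ p = 1 := by
      have := pow_orderOf_eq_one (⟨⟨y, hyP⟩, hyc⟩ : Subgroup.center P)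
      rw [hy] at this
      have h2 := congrArg (fun t : Subgroup.center P => ((t : P) : G)) this
      simpa using h2
    have hy1 : y ≠ 1 := by
      rintro rfl
      have : (⟨⟨1, hyP⟩, hyc⟩ : Subgroup.center P) = 1 := rfl
      rw [this, orderOf_one] at hy
      exact hpp.one_lt.ne hy
    have hyZ : y ∈ Z := by
      apply hΩ y hyP hyp
      intro x hx
      have := Subgroup.mem_center_iff.mp hyc ⟨x, hx⟩
      exact (congrArg Subtype.val this).symm
    intro h
    rw [h, Subgroup.mem_bot] at hyZ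
    exact hy1 hyZ
  have hZneA : Z ≠ A := by
    intro h
    apply hnc
    intro a ha x hx
    rw [← h] at ha
    exact hZc a ha x hx
  have hZp : Nat.card Z = p :=
    Cfsg.Agent.S1453.card_eq_prime_of_between hpp hZA hA2 hZne hZneA
  -- the centralizer of `A` in `P` and an element of its normalizer
  set C : Subgroup G := P ⊓ Subgroup.centralizer (A : Set G) with hCdef
  have hAC : A ≤ C := by
    intro a ha
    refine ⟨hAP ha, ?_⟩
    show a ∈ Subgroup.centralizer (A : Set G)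
    rw [Subgroup.mem_centralizer_iff]
    intro b hb
    exact hAc b hb a ha
  have hCP : C.subgroupOf P < ⊤ := by
    rw [lt_top_iff_ne_top]
    intro h
    apply hnc
    intro a ha x hx
    have : (⟨x, hx⟩ : P) ∈ C.subgroupOf P := by rw [h]; exact Subgroup.mem_top _
    exact Subgroup.mem_centralizer_iff.mp this.2 a ha
  have hnil : Group.IsNilpotent P := hP.isNilpotent
  have hNC := Group.normalizerCondition_of_isNilpotent (G := P) (C.subgroupOf P) hCP
  obtain ⟨⟨x, hxP⟩, hxN, hxC⟩ := SetLike.exists_of_lt hNC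
  have hxnorm : ∀ c ∈ C, x * c * x⁻¹ ∈ C := by
    intro c hc
    have := (Subgroup.mem_normalizer_iff.mp hxN ⟨c, hc.1⟩).mp hc
    exact this
  have hxA : ∀ a ∈ A, x * a * x⁻¹ ∈ A := by
    intro a ha
    have hc := hxnorm a (hAC ha)
    refine mem_of_centralizes hAP hAe hAmax hc.1 ?_ ?_
    · intro b hb
      exact Subgroup.mem_centralizer_iff.mp hc.2 b hb
    · rw [conj_pow, hAe.2 a ha, mul_one, mul_inv_cancel]
  have hxnotC : x ∉ Subgroup.centralizer (A : Set G) := fun h => hxC ⟨hxP, h⟩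
  have hxZ : ∀ z ∈ Z, x * z * x⁻¹ = z := by
    intro z hz
    rw [← hZc z hz x hxP, mul_inv_cancel_right]
  obtain ⟨n, hn⟩ := hP ⟨x, hxP⟩
  have hxn : x ^ (p ^ n) = 1 := by
    have := congrArg Subtype.val hn
    simpa using this
  -- Lemma T
  have hT : ∀ a ∈ A, a ∉ Z → ∃ z ∈ Z, z ≠ 1 ∧ x * a * x⁻¹ = z * a := by
    intro a ha haZ
    have ha1 : a ≠ 1 := by rintro rfl; exact haZ Z.one_mem
    have hsup : Z ⊔ Subgroup.zpowers a = A :=
      Cfsg.Agent.S1453.sup_zpowers_eq hpp hZA hZp hA2 ha haZ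
    have hcomm : ∀ z ∈ Z, ∀ b ∈ Subgroup.zpowers a, z * b = b * z := by
      intro z hz b hb
      exact hAc z (hZA hz) b ((Subgroup.zpowers_le.mpr ha) hb)
    have hmem : x * a * x⁻¹ ∈ Z ⊔ Subgroup.zpowers a := by rw [hsup]; exact hxA a ha
    obtain ⟨z₀, hz₀, b, hb, hxa⟩ := mem_sup_of_comm hcomm hmem
    obtain ⟨k, rfl⟩ := (mem_powers_iff_mem_zpowers.mpr hb)
    have hak : a ^ k = a :=
      pow_eq_self_of_conj ha1 (hAe.2 a ha) (fun z hz => hAc a ha z (hZA hz))
        (fun y hy hya => eq_one_of_mem_zpowers hpp (hAe.2 a ha) haZ hy hya) hxZ hz₀ hxa hxn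
    have hxa' : x * a * x⁻¹ = z₀ * a := by
      have h := hxa
      simp only [] at h
      rw [h]
      show z₀ * a ^ k = z₀ * a
      rw [hak]
    refine ⟨z₀, hz₀, ?_, hxa'⟩
    rintro rfl
    apply hxnotC
    rw [Subgroup.mem_centralizer_iff]
    intro b hb
    rw [← hsup] at hb
    obtain ⟨z, hz, c, hc, rfl⟩ := mem_sup_of_comm hcomm hb
    obtain ⟨j, rfl⟩ := Subgroup.mem_zpowers_iff.mp hc
    have h1 : Commute x a := by
      have : x * a * x⁻¹ = a := by rw [hxa', one_mul]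
      show x * a = a * x
      calc x * a = x * a * x⁻¹ * x := by group
        _ = a * x := by rw [this]
    have h2 : Commute x z := (hZc z hz x hxP).symm
    exact ((h2.mul_right (h1.zpow_right j)).eq).symm
  have hiter : ∀ (a z : G), z ∈ Z → x * a * x⁻¹ = z * a →
      ∀ i : ℕ, x ^ i * a * (x ^ i)⁻¹ = z ^ i * a := by
    intro a z hz hxa i
    induction i with
    | zero => simp
    | succ i ih =>
      have h1 : x ^ (i + 1) * a * (x ^ (i + 1))⁻¹ = x * (x ^ i * a * (x ^ i)⁻¹) * x⁻¹ := by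
        rw [pow_succ']; group
      rw [h1, ih]
      have h2 : x * (z ^ i * a) * x⁻¹ = (x * z ^ i * x⁻¹) * (x * a * x⁻¹) := by group
      rw [h2, hxa, hxZ _ (Z.pow_mem hz i), pow_succ, mul_assoc]
  refine ⟨Z, hZA, hZp, hZc, hΩ, x, hxP, hxA, ?_⟩
  intro A1 A2 hA1 hA2' hc1 hc2 hne1 hne2
  -- generators
  have hgen : ∀ B : Subgroup G, B ≤ A → Nat.card B = p → B ≠ Z →
      ∃ b ∈ B, b ≠ 1 ∧ b ∉ Z ∧ Subgroup.zpowers b = B := by
    intro B hBA hBc hBZ
    have hBne : B ≠ ⊥ := by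
      intro h
      rw [h, Subgroup.card_bot] at hBc
      exact hpp.one_lt.ne hBc
    obtain ⟨b, hb1⟩ := (Subgroup.ne_bot_iff_exists_ne_one.mp hBne)
    have hzb := zpowers_eq_of_card_prime hpp hBc b.2 (fun h => hb1 (Subtype.ext h))
    refine ⟨b, b.2, fun h => hb1 (Subtype.ext h), ?_, hzb⟩
    intro hbZ
    apply hBZ
    have hle : B ≤ Z := by rw [← hzb, Subgroup.zpowers_le]; exact hbZ
    exact Subgroup.eq_of_le_of_card_ge hle (by rw [hZp, hBc])
  obtain ⟨a1, ha1A1, ha11, ha1Z, hz1⟩ := hgen A1 hA1 hc1 hne1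
  obtain ⟨a2, ha2A2, ha21, ha2Z, hz2⟩ := hgen A2 hA2' hc2 hne2
  have ha1A : a1 ∈ A := hA1 ha1A1
  have ha2A : a2 ∈ A := hA2' ha2A2
  have hsup : Z ⊔ Subgroup.zpowers a1 = A :=
    Cfsg.Agent.S1453.sup_zpowers_eq hpp hZA hZp hA2 ha1A ha1Z
  have hcomm : ∀ z ∈ Z, ∀ b ∈ Subgroup.zpowers a1, z * b = b * z := by
    intro z hz b hb
    exact hAc z (hZA hz) b ((Subgroup.zpowers_le.mpr ha1A) hb)
  have hmem : a2 ∈ Z ⊔ Subgroup.zpowers a1 := by rw [hsup]; exact ha2A
  obtain ⟨z', hz', b, hb, ha2eq⟩ := mem_sup_of_comm hcomm hmem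
  obtain ⟨k, rfl⟩ := (mem_powers_iff_mem_zpowers.mpr hb)
  have hord1 : orderOf a1 = p := orderOf_eq_prime (hAe.2 a1 ha1A) ha11
  have hpk : Nat.Coprime k p := by
    rw [Nat.coprime_comm, Nat.Prime.coprime_iff_not_dvd hpp]
    intro hdvd
    apply ha2Z
    have : a1 ^ k = 1 := by
      rw [← hord1] at hdvd
      exact orderOf_dvd_iff_pow_eq_one.mp hdvd
    have h2 : a2 = z' := by
      have h := ha2eq
      simp only [] at h
      rw [h]
      show z' * a1 ^ k = z'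
      rw [this, mul_one]
    rw [h2]; exact hz'
  obtain ⟨k', -, hkk'⟩ := Nat.exists_mul_mod_eq_one_of_coprime hpk hpp.one_lt
  have hpow1 : a1 ^ (k * k') = a1 := by
    have : a1 ^ (k * k') = a1 ^ 1 := by
      rw [pow_eq_pow_iff_modEq, hord1]
      show k * k' % p = 1 % p
      rw [hkk', Nat.mod_eq_of_lt hpp.one_lt]
    rw [this, pow_one]
  have ha2k : a2 ^ k' = z' ^ k' * a1 := by
    have h := ha2eq
    simp only [] at h
    rw [h]
    show (z' * a1 ^ k) ^ k' = z' ^ k' * a1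
    have hc : Commute z' (a1 ^ k) :=
      Commute.pow_right (show Commute z' a1 from hAc z' (hZA hz') a1 ha1A) k
    rw [hc.mul_pow, ← pow_mul, hpow1]
  obtain ⟨z1, hz1Z, hz11, hxa1⟩ := hT a1 ha1A ha1Z
  have hzz : Subgroup.zpowers z1 = Z := zpowers_eq_of_card_prime hpp hZp hz1Z hz11
  have hmem2 : z' ^ k' ∈ Subgroup.zpowers z1 := by rw [hzz]; exact Z.pow_mem hz' k'
  obtain ⟨i, hi⟩ := (mem_powers_iff_mem_zpowers.mpr hmem2)
  have hi' : z1 ^ i = z' ^ k' := hi
  refine ⟨i, ?_⟩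
  have hconj : x ^ i * a1 * (x ^ i)⁻¹ = a2 ^ k' := by
    rw [hiter a1 z1 hz1Z hxa1 i, hi', ha2k]
  rw [← hz1, MonoidHom.map_zpowers]
  have : (MulAut.conj (x ^ i)).toMonoidHom a1 = a2 ^ k' := by
    show x ^ i * a1 * (x ^ i)⁻¹ = a2 ^ k'
    exact hconj
  rw [this]
  apply zpowers_eq_of_card_prime hpp hc2 (A2.pow_mem ha2A2 k')
  intro h
  rw [ha2k] at h
  apply ha1Z
  have : a1 = (z' ^ k')⁻¹ := eq_inv_of_mul_eq_one_right h
  rw [this]
  exact Z.inv_mem (Z.pow_mem hz' k')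

end Cfsg.Agent.Helper79.BG11b1x
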