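import Mathlib
import Cfsg.Prelude.Def_OddOrderLocal
import Cfsg.Agent.Lib.Helper52.Coprime
import Cfsg.Agent.Lib.Helper24.Averaging

/-!
# Request (Q7) of helper54's BG142 server, generic part

A `p'`-group `C` acting faithfully on an elementary abelian group `A` of order `p ^ 2` and
centralizing a line `X` of `A`: `C_A(C) = X` and `[A, C]` is a second `C`-invariant line on which
every nontrivial element of `C` acts without fixed points.
-/

set_option autoImplicit false
set_option linter.style.haveILetI false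

namespace Cfsg.Agent.Helper79.BG142Q7

open Subgroup

variable {G : Type*} [Group G] [Finite G]

/-- In a group of order `p ^ 2`, a proper subgroup containing a subgroup of order `p` equals it. -/
theorem eq_of_le_of_card_sq {p : ℕ} (hp : p.Prime) {A X B : Subgroup G}
    (hAc : Nat.card A = p ^ 2) (hX : Nat.card X = p) (hXB : X ≤ B) (hBA : B ≤ A) (hne : B ≠ A) :
    B = X := by
  have hdvd : Nat.card B ∣ p ^ 2 := hAc ▸ Subgroup.card_dvd_of_le hBA
  obtain ⟨k, hk2, hk⟩ := (Nat.dvd_prime_pow hp).mp hdvd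
  have hk1 : k ≠ 0 := by
    intro h0
    rw [h0, pow_zero] at hk
    have := Subgroup.card_dvd_of_le hXB
    rw [hk, hX] at this
    exact hp.one_lt.ne' (Nat.dvd_one.mp this)
  have hk' : k = 1 := by
    rcases Nat.lt_or_ge k 2 with h | h
    · omega
    · exfalso
      have hk2' : k = 2 := le_antisymm hk2 h
      rw [hk2'] at hk
      exact hne (Subgroup.eq_of_le_of_card_ge hBA (by rw [hk, hAc]))
  rw [hk', pow_one] at hk
  exact (Subgroup.eq_of_le_of_card_ge hXB (by rw [hk, hX])).symm

/-- A subgroup of prime order meets any subgroup trivially or lies in it. -/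
theorem inf_eq_bot_or_le_of_card_prime {p : ℕ} (hp : p.Prime) {X B : Subgroup G}
    (hX : Nat.card X = p) : X ⊓ B = ⊥ ∨ X ≤ B := by
  have hdvd : Nat.card ↥(X ⊓ B) ∣ p := hX ▸ Subgroup.card_dvd_of_le inf_le_left
  rcases (Nat.dvd_prime hp).mp hdvd with h | h
  · exact Or.inl (Subgroup.card_eq_one.mp h)
  · right
    have : X ⊓ B = X := Subgroup.eq_of_le_of_card_ge inf_le_left (by rw [h, hX])
    exact this ▸ inf_le_right

theorem line_structure {p : ℕ} [hp : Fact p.Prime] {A X C : Subgroup G}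
    (hAe : Cfsg.IsElementaryAbelian p A) (hAc : Nat.card A = p ^ 2) (hXA : X ≤ A)
    (hX : Nat.card X = p) (hCA : C ≤ normalizer (A : Set G))
    (hCX : C ≤ centralizer (X : Set G)) (hcop : (Nat.card C).Coprime p)
    (hfaith : C ⊓ centralizer (A : Set G) = ⊥) (hC1 : C ≠ ⊥) :
    A ⊓ centralizer (C : Set G) = X ∧
      ∃ A2 : Subgroup G, A2 ≤ A ∧ Nat.card A2 = p ∧ A2 ⊓ X = ⊥ ∧ A2 ≠ X ∧
        C ≤ normalizer (A2 : Set G) ∧
        ∀ c ∈ C, c ≠ 1 → A2 ⊓ centralizer ({c} : Set G) = ⊥ := by
  have hpP := hp.out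
  haveI : IsMulCommutative A := hAe.1
  have hXC : X ≤ centralizer (C : Set G) := Subgroup.le_centralizer_iff.mp hCX
  have hAC : A ⊓ centralizer (C : Set G) = X := by
    apply eq_of_le_of_card_sq hpP hAc hX (le_inf hXA hXC) inf_le_left
    intro h
    apply hC1
    rw [eq_bot_iff, ← hfaith]
    refine le_inf le_rfl ?_
    rw [Subgroup.le_centralizer_iff]
    rw [← h]
    exact inf_le_right
  refine ⟨hAC, ⁅A, C⁆, ?_⟩
  have hA2A : ⁅A, C⁆ ≤ A := Cfsg.Agent.Helper24.commutator_le_of_le_normalizer A C hCA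
  have hcop' : (Nat.card C).Coprime (Nat.card A) := by
    rw [hAc]; exact Nat.Coprime.pow_right 2 hcop
  have hAsolv : Group.IsSolvable A := by
    exact Group.isSolvable_of_comm (fun a b => mul_comm' a b)
  have hsup : A = ⁅A, C⁆ ⊔ (A ⊓ centralizer (C : Set G)) :=
    Cfsg.Agent.Helper52.eq_commutator_sup_centralizer A C hCA hcop' (Or.inr hAsolv)
  rw [hAC] at hsup
  have hAA : (⁅A, A⁆ : Subgroup G) = ⊥ := by
    rw [Subgroup.commutator_eq_bot_iff_le_centralizer]
    intro a ha
    rw [Subgroup.mem_centralizer_iff]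
    intro b hb
    have := mul_comm' (⟨b, hb⟩ : A) ⟨a, ha⟩
    exact congrArg Subtype.val this
  have hinf : ⁅A, C⁆ ⊓ X = ⊥ := by
    have h1 := Cfsg.Agent.Helper24.inf_centralizer_inf_commutator_le A C hCA hcop'.symm
    rw [hAC, hAA, inf_comm] at h1
    exact le_bot_iff.mp h1
  have hX1 : X ≠ ⊥ := by
    intro h
    rw [h, Subgroup.card_bot] at hX
    exact hpP.one_lt.ne hX
  have hne : ⁅A, C⁆ ≠ X := by
    intro h
    rw [h, inf_idem] at hinf
    exact hX1 hinf
  have hcard : Nat.card ↥⁅A, C⁆ = p := by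
    have hdvd : Nat.card ↥⁅A, C⁆ ∣ p ^ 2 := hAc ▸ Subgroup.card_dvd_of_le hA2A
    obtain ⟨k, hk2, hk⟩ := (Nat.dvd_prime_pow hpP).mp hdvd
    have hk0 : k ≠ 0 := by
      intro h0
      rw [h0, pow_zero] at hk
      have h1 : (⁅A, C⁆ : Subgroup G) = ⊥ := Subgroup.card_eq_one.mp hk
      rw [h1, bot_sup_eq] at hsup
      rw [← hsup, hAc] at hX
      have : p ^ 2 = p ^ 1 := by rw [pow_one]; exact hX
      exact absurd (Nat.pow_right_injective hpP.two_le this) (by norm_num)
    have hk2' : k ≠ 2 := by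
      intro h2
      rw [h2] at hk
      have h1 : (⁅A, C⁆ : Subgroup G) = A := Subgroup.eq_of_le_of_card_ge hA2A (by rw [hk, hAc])
      rw [h1, inf_eq_right.mpr hXA] at hinf
      exact hX1 hinf
    have : k = 1 := by omega
    rw [this, pow_one] at hk
    exact hk
  refine ⟨hA2A, hcard, hinf, hne, Subgroup.normalizer_commutator_ge_right A C, ?_⟩
  intro c hc hc1
  rcases inf_eq_bot_or_le_of_card_prime (B := centralizer ({c} : Set G)) hpP hcard with h | h
  · exact h
  · exfalso
    apply hc1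
    have hXc : X ≤ centralizer ({c} : Set G) := by
      intro x hx
      rw [Subgroup.mem_centralizer_iff]
      intro y hy
      rw [Set.mem_singleton_iff.mp hy]
      exact (Subgroup.mem_centralizer_iff.mp (hCX hc) x hx).symm
    have hAc' : A ≤ centralizer ({c} : Set G) := by
      rw [hsup]
      exact sup_le h hXc
    have hcA : c ∈ C ⊓ centralizer (A : Set G) := by
      refine Subgroup.mem_inf.mpr ⟨hc, ?_⟩
      rw [Subgroup.mem_centralizer_iff]
      intro a ha
      exact (Subgroup.mem_centralizer_iff.mp (hAc' ha) c (Set.mem_singleton c)).symm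
    rw [hfaith] at hcA
    exact Subgroup.mem_bot.mp hcA

end Cfsg.Agent.Helper79.BG142Q7
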