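import Mathlib
import Cfsg.Agent.S1405
import Cfsg.Agent.S1409
import Cfsg.Agent.S1415
import Cfsg.Agent.S1417
import Cfsg.Agent.S1418
import Cfsg.Agent.S1419
import Cfsg.Agent.S1446
import Cfsg.Agent.Lib.Helper15.BGV.Core3
import Cfsg.Agent.Lib.Helper22.BG11W2
import Cfsg.Agent.Lib.Helper58.BG11W3
import Cfsg.Agent.Lib.Helper60.BG139a
import Cfsg.Agent.Lib.Helper71.BG142L3
import Cfsg.Agent.Lib.Helper79.BG11b1x
import Cfsg.Agent.Lib.Helper79.BG142Q7a

/-!
# Request (Q7) of helper54's BG142 server: lemma (L6) = "(3d)", core form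

`X ≤ M` of prime order `p ∉ σ(M)`, `M` of `p`-rank one, `C_{M_σ}(X) ≠ 1`, `H` a maximal subgroup over
`N_G(X)`.  Then `X ≤ H_σ`.  The CONFIG A kill (lemma (L4) of `BG142_PROOF.md`) enters as the
hypothesis `ConfigAKill G`.
-/

set_option autoImplicit false
set_option linter.style.haveILetI false
set_option linter.unusedSectionVars false

namespace Cfsg.Agent.Helper79.BG142Q7

open Cfsg Subgroup Cfsg.Agent.Helper52 Cfsg.Agent.Helper15.BGU Cfsg.Agent.Helper55.BGB
  Cfsg.Agent.Helper15.BGV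

variable {G : Type*} [Group G] [Finite G]

/-- The CONFIG A kill ((L4) of `BG142_PROOF.md`), as a hypothesis. -/
def ConfigAKill (G : Type*) [Group G] : Prop :=
  ∀ (M : Subgroup G), IsCoatom M → ∀ (E : Subgroup G), IsComplIn E (sigmaCore M) M →
    ∀ (r p : ℕ) [Fact r.Prime] [Fact p.Prime], r ∈ tau2 M →
      (∀ S : Sylow r G, ¬ IsMulCommutative (S : Subgroup G)) →
      ∀ A : Subgroup G, (A ≤ E ∧ IsElementaryAbelian r A ∧ Nat.card A = r ^ 2) →
      p ∈ tau1 M → ∀ X : Subgroup G, X ≤ E → Nat.card X = p →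
      sigmaCore M ⊓ centralizer (X : Set G) ≠ ⊥ →
      X ≤ centralizer ((A ⊓ centralizer (sigmaCore M : Set G) : Subgroup G) : Set G) →
      ¬ X ≤ centralizer (A : Set G) → False

/-- the centralizer of a nontrivial element of a group of prime order. -/
theorem centralizer_singleton_eq_of_card_prime {q : ℕ} (hq : q.Prime) {Q : Subgroup G}
    (hQ : Nat.card Q = q) {x : G} (hx : x ∈ Q) (hx1 : x ≠ 1) :
    centralizer ({x} : Set G) = centralizer (Q : Set G) := by
  have hz := Cfsg.Agent.Helper79.BG11b1x.zpowers_eq_of_card_prime hq hQ hx hx1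
  apply le_antisymm
  · intro y hy
    rw [mem_centralizer_iff] at hy ⊢
    intro z hz'
    rw [← hz] at hz'
    obtain ⟨n, rfl⟩ := mem_zpowers_iff.mp hz'
    have h1 : Commute x y := hy x (Set.mem_singleton x)
    exact (h1.zpow_left n).eq
  · apply centralizer_le
    intro z hz'
    rw [Set.mem_singleton_iff.mp hz']
    exact hx

/-- a Sylow `p`-subgroup of `G` is abelian: then `p ∤ |N_G(A) : C_G(A)|` for every `p`-subgroup. -/
theorem not_dvd_relIndex_normalizer {r : ℕ} [Fact r.Prime] (S : Sylow r G)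
    (hScomm : IsMulCommutative (S : Subgroup G)) (A : Subgroup G) (hAp : IsPGroup r A) :
    ¬ r ∣ (normalizer (A : Set G) ⊓ centralizer (A : Set G)).relIndex (normalizer (A : Set G)) := by
  obtain ⟨S', hAS'⟩ := hAp.exists_le_sylow
  obtain ⟨g, hg⟩ := MulAction.exists_smul_eq G S' S
  have hS'comm : ∀ u ∈ (S' : Subgroup G), ∀ v ∈ (S' : Subgroup G), u * v = v * u := by
    intro u hu v hv
    have hmem : ∀ w ∈ (S' : Subgroup G), g * w * g⁻¹ ∈ (S : Subgroup G) := by
      intro w hw
      rw [← hg, Sylow.coe_subgroup_smul, Subgroup.mem_pointwise_smul_iff_inv_smul_mem]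
      have : (MulAut.conj g)⁻¹ • (g * w * g⁻¹) = w := by
        rw [← map_inv, MulAut.smul_def, MulAut.conj_apply]
        group
      rw [this]
      exact hw
    have h1 := hmem u hu
    have h2 := hmem v hv
    have h3 : (⟨g * u * g⁻¹, h1⟩ : (S : Subgroup G)) * ⟨g * v * g⁻¹, h2⟩ =
        ⟨g * v * g⁻¹, h2⟩ * ⟨g * u * g⁻¹, h1⟩ := hScomm.is_comm.comm _ _
    have h4 := congrArg Subtype.val h3
    simp only [Subgroup.coe_mul] at h4
    have h5 : g * (u * v) * g⁻¹ = g * (v * u) * g⁻¹ := by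
      calc g * (u * v) * g⁻¹ = (g * u * g⁻¹) * (g * v * g⁻¹) := by group
        _ = (g * v * g⁻¹) * (g * u * g⁻¹) := h4
        _ = g * (v * u) * g⁻¹ := by group
    exact mul_left_cancel (mul_right_cancel h5)
  have hS'C : (S' : Subgroup G) ≤ centralizer (A : Set G) := by
    intro u hu
    rw [mem_centralizer_iff]
    intro a ha
    exact hS'comm a (hAS' ha) u hu
  have hCN : centralizer (A : Set G) ≤ normalizer (A : Set G) := centralizer_le_normalizer _
  intro hdvd
  have h1 : (normalizer (A : Set G) ⊓ centralizer (A : Set G)).relIndex (normalizer (A : Set G)) ∣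
      (normalizer (A : Set G) ⊓ centralizer (A : Set G)).index :=
    ⟨(normalizer (A : Set G)).index, (Subgroup.relIndex_mul_index inf_le_left).symm⟩
  have h2 : (normalizer (A : Set G) ⊓ centralizer (A : Set G)).index ∣ (S' : Subgroup G).index :=
    Subgroup.index_dvd_of_le (le_inf (hS'C.trans hCN) hS'C)
  exact S'.not_dvd_index (hdvd.trans (h1.trans h2))

/-- a group of order `p ^ 2` has `p`-rank at most two. -/
theorem pRankLE_two_of_card {p : ℕ} {A : Subgroup G} (hAc : Nat.card A = p ^ 2) :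
    PRankLE p 2 ↥A := by
  intro B _ _
  rw [← hAc]
  exact Subgroup.card_le_card_group B

/-- **(L6) = "(3d)"**, core form. -/
theorem core (hG : IsMinSimpleOddOrder G) (hCAk : ConfigAKill G) (M : Subgroup G)
    (hM : IsCoatom M) (p : ℕ) (hp : p.Prime) (hpσ : p ∉ sigma M) (hr : PRankLE p 1 M)
    (X : Subgroup G) (hXM : X ≤ M) (hX : Nat.card X = p)
    (hC : sigmaCore M ⊓ centralizer (X : Set G) ≠ ⊥) (H : Subgroup G) (hH : IsCoatom H)
    (hNH : normalizer (X : Set G) ≤ H) :
    X ≤ sigmaCore H := by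
  haveI : Fact p.Prime := ⟨hp⟩
  have hHallH := hallOf hG hH
  have hXp : IsPGroup p X := isPGroup_of_card_prime hX
  have hXH : X ≤ H := le_normalizer.trans hNH
  by_cases hpH : p ∈ sigma H
  · exact le_sigmaCore_of_isPGroup hp hHallH hpH hXH hXp
  exfalso
  have hpp2 : p ^ 1 < p ^ 2 := Nat.pow_lt_pow_right hp.one_lt (by norm_num)
  have hrk : ∀ A : Subgroup G, A ≤ M → IsElementaryAbelian p A → Nat.card A ≠ p ^ 2 := by
    intro A hAM hAe hAc
    exact not_pRankLE_of_le hAM hAe (by rw [hAc]; exact hpp2) hr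
  obtain ⟨⟨h2, h1⟩, hni, A0, hA0e, hA0c, hXA0⟩ :=
    Cfsg.Agent.S1409.result hG H hH p hpH X hX hNH
  have hτ2 : p ∈ tau2 H := ⟨hp, hpH, h2, h1⟩
  have hnc := not_conj_of_rank_one hG hM hpσ hrk hX hNH
  have hCH : centralizer (X : Set G) ≤ H := (centralizer_le_normalizer _).trans hNH
  have hA0H : A0 ≤ H := by
    refine le_trans ?_ hCH
    intro a ha
    rw [mem_centralizer_iff]
    intro x hx
    exact Cfsg.Agent.Helper34.BG.commute_of_isElementaryAbelian hA0e (hXA0 hx) ha
  -- the group `C`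
  have hCMσ : sigmaCore M ⊓ centralizer (X : Set G) ≤ sigmaCore M := inf_le_left
  have hCX : sigmaCore M ⊓ centralizer (X : Set G) ≤ centralizer (X : Set G) := inf_le_right
  generalize hCdef : sigmaCore M ⊓ centralizer (X : Set G) = C at hC hCMσ hCX
  have hCM : C ≤ M := hCMσ.trans (sigmaCore_le M)
  have hCHle : C ≤ H := hCX.trans hCH
  have hCprime : ∀ q : ℕ, q.Prime → q ∣ Nat.card C → q ∈ sigma M ∧ q ∉ sigma H ∧ q ≠ p := by
    intro q hq hqd
    have hqM : q ∈ sigma M := isPi_sigmaCore M q hq (hqd.trans (card_dvd_of_le hCMσ))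
    haveI : Fact q.Prime := ⟨hq⟩
    refine ⟨hqM, fun hqH => tau2_sigma_false hG hM hH hnc hτ2 hqM hqH, ?_⟩
    rintro rfl
    exact hpσ hqM
  have hcopCp : (Nat.card C).Coprime p :=
    ((Nat.Prime.coprime_iff_not_dvd hp).mpr (fun hd => (hCprime p hp hd).2.2 rfl)).symm
  have hcopCK : (Nat.card C).Coprime (Nat.card (sigmaCore H)) := by
    apply Nat.coprime_of_dvd
    intro q hq hqd hqd'
    exact not_dvd_card_sigmaCore hq (hCprime q hq hqd).2.1 hqd'
  -- the normal subgroup `N = H_σ A0`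
  have hKn : H ≤ normalizer (sigmaCore H : Set G) := le_normalizer_sigmaCore H
  have hA0p : IsPGroup p A0 := isPGroup_of_isElementaryAbelian hA0e
  have hpK : ¬ p ∣ Nat.card (sigmaCore H) := not_dvd_card_sigmaCore hp hpH
  have hA0K : A0 ≤ normalizer (sigmaCore H : Set G) := hA0H.trans hKn
  have hA0syl : Nat.card A0 = sylCard p (sigmaCore H ⊔ A0) := card_eq_sylCard_sup hA0K hA0p hpK
  have hNH' : sigmaCore H ⊔ A0 ≤ H := sup_le (sigmaCore_le H) hA0H
  have h17 := Cfsg.Agent.S1417.result hG H hH p hτ2 A0 ⟨hA0H, hA0e, hA0c⟩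
  have hHN : H ≤ normalizer ((sigmaCore H ⊔ A0 : Subgroup G) : Set G) := h17.2.2.1
  have hnil : Group.IsNilpotent (sigmaCore H) := h17.1
  have hNcard : Nat.card (sigmaCore H ⊔ A0 : Subgroup G) ∣
      Nat.card (sigmaCore H) * Nat.card A0 :=
    Cfsg.Agent.Helper54.card_sup_dvd_of_le_normalizer (sigmaCore H) A0 hA0K
  have hcopCN : (Nat.card C).Coprime (Nat.card (sigmaCore H ⊔ A0 : Subgroup G)) := by
    apply Nat.Coprime.coprime_dvd_right hNcard
    apply Nat.Coprime.mul_right hcopCK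
    rw [hA0c]
    exact Nat.Coprime.pow_right 2 hcopCp
  have hsolv : Group.IsSolvable C ∨ Group.IsSolvable (sigmaCore H ⊔ A0 : Subgroup G) :=
    Or.inr (solv_of_le_coatom hG hH hNH')
  have hCnX : C ≤ normalizer (X : Set G) := hCX.trans (centralizer_le_normalizer _)
  obtain ⟨A, hAN, hAsyl, hXA, hCA⟩ := exists_invariant_sylow_ge C (sigmaCore H ⊔ A0)
    (hCHle.trans hHN) hcopCN hsolv p X (hXA0.trans le_sup_right) hXp hCnX
  obtain ⟨k, -, hkA⟩ := exists_conj_of_card p (sigmaCore H ⊔ A0) A0 A le_sup_right hAN hA0syl hAsyl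
  have hAe : IsElementaryAbelian p A := hkA ▸ isElementaryAbelian_conj hA0e k
  have hAc : Nat.card A = p ^ 2 := by rw [hkA, card_conj, hA0c]
  have hAH : A ≤ H := hAN.trans hNH'
  have hAp : IsPGroup p A := isPGroup_of_isElementaryAbelian hAe
  -- `C` is faithful on `A`
  obtain ⟨E, hE⟩ := exists_compl_sigmaCore (hallOf hG hM)
  have hfaith : C ⊓ centralizer (A : Set G) = ⊥ := by
    by_contra hne
    have hc1 : Nat.card ↥(C ⊓ centralizer (A : Set G)) ≠ 1 := fun h => hne (card_eq_one.mp h)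
    obtain ⟨q, hq, hqd⟩ := Nat.exists_prime_and_dvd hc1
    haveI : Fact q.Prime := ⟨hq⟩
    obtain ⟨a, ha⟩ := exists_prime_orderOf_dvd_card' (G := ↥(C ⊓ centralizer (A : Set G))) q hqd
    have hQ0le : zpowers (a : G) ≤ C ⊓ centralizer (A : Set G) := by
      rw [zpowers_le]; exact a.2
    have hQ0c : Nat.card (zpowers (a : G)) = q := by
      rw [Nat.card_zpowers, Subgroup.orderOf_coe]; exact ha
    obtain ⟨hqM, -, hqp⟩ := hCprime q hq (hqd.trans (card_dvd_of_le inf_le_left))
    exact global_false hG hM hE (Ne.symm hqp) hrk hni hqM (isPGroup_of_card_prime hQ0c)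
      (ne_bot_of_card_prime hQ0c) ((hQ0le.trans inf_le_left).trans hCM) hX hXM
      (le_centralizer_iff.mp ((hQ0le.trans inf_le_left).trans hCX)) hAe hAc
      (le_centralizer_iff.mp (hQ0le.trans inf_le_right))
  obtain ⟨hAC, A2, hA2A, hA2c, -, hA2ne, hCA2, hfpf⟩ :=
    line_structure hAe hAc hXA hX hCA hCX hcopCp hfaith hC
  -- the complement `E_H = N_H(A)`
  obtain ⟨EH0, hEH0⟩ := exists_compl_sigmaCore hHallH
  have hAsolv : Group.IsSolvable A := solv_of_le_coatom hG hH hAH
  have hcopKA : (Nat.card (sigmaCore H)).Coprime (Nat.card A) := by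
    rw [hAc]
    exact Nat.Coprime.pow_right 2 ((Nat.Prime.coprime_iff_not_dvd hp).mpr hpK).symm
  obtain ⟨EH, hEH, hAEH⟩ := Cfsg.Agent.Helper22.BG11.exists_compl_ge EH0 hEH0 hKn hAH
    (Or.inr hAsolv) hcopKA
  obtain ⟨⟨h18a, -⟩, ⟨h18b1, h18b2, h18b3⟩, -⟩ :=
    Cfsg.Agent.S1418.result hG H hH EH hEH p hτ2 A ⟨hAEH, hAe, hAc⟩
  have hCEH : C ≤ EH := by
    rw [← h18b2]
    exact le_inf hCHle hCA
  have hp2 : p ≠ 2 := by
    apply p_ne_two_of_odd hG.1 hXp
    rw [hX]; exact hp.one_lt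
  have hEHH : EH ≤ H := hEH.1
  by_cases hS : ∀ S : Sylow p G, ¬ IsMulCommutative (S : Subgroup G)
  · -- nonabelian Sylow `p`-subgroups: S1419
    obtain ⟨h19a, -, h19c⟩ :=
      Cfsg.Agent.S1419.result hG H hH EH hEH p hτ2 hS A ⟨hAEH, hAe, hAc⟩
    have hXeq : X = A ⊓ centralizer (sigmaCore H : Set G) := by
      by_contra hne
      exact (h19c X (hXA.trans hAEH) hX hne).2 hCH
    have hA2fix : sigmaCore H ⊓ centralizer (A2 : Set G) = ⊥ :=
      (h19c A2 (hA2A.trans hAEH) hA2c (hXeq ▸ hA2ne)).1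
    -- a subgroup `Q1` of prime order of `C`
    have hc1 : Nat.card C ≠ 1 := fun h => hC (card_eq_one.mp h)
    obtain ⟨q, hq, hqd⟩ := Nat.exists_prime_and_dvd hc1
    haveI : Fact q.Prime := ⟨hq⟩
    obtain ⟨a, ha⟩ := exists_prime_orderOf_dvd_card' (G := ↥C) q hqd
    have hQ1C : zpowers (a : G) ≤ C := by rw [zpowers_le]; exact a.2
    have hQ1c : Nat.card (zpowers (a : G)) = q := by
      rw [Nat.card_zpowers, Subgroup.orderOf_coe]; exact ha
    generalize zpowers (a : G) = Q1 at hQ1C hQ1c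
    obtain ⟨hqM, hqH, hqp⟩ := hCprime q hq hqd
    have hQ1q : IsPGroup q Q1 := isPGroup_of_card_prime hQ1c
    have hQ11 : Q1 ≠ ⊥ := ne_bot_of_card_prime hQ1c
    have hQ1EH : Q1 ≤ EH := hQ1C.trans hCEH
    have hQ1H : Q1 ≤ H := hQ1EH.trans hEHH
    have hQ1A : ¬ Q1 ≤ centralizer (A : Set G) := by
      intro h
      apply hQ11
      rw [eq_bot_iff, ← hfaith]
      exact le_inf hQ1C h
    -- the Frobenius group `A2 Q1` on `H_σ`
    have hA2H : A2 ≤ H := hA2A.trans hAH
    have hA21 : A2 ≠ ⊥ := ne_bot_of_card_prime hA2c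
    have hA2p : IsPGroup p A2 := isPGroup_of_card_prime hA2c
    have hQ1A2 : Q1 ≤ normalizer (A2 : Set G) := hQ1C.trans hCA2
    have hqK : ¬ q ∣ Nat.card (sigmaCore H) := not_dvd_card_sigmaCore hq hqH
    have hfix : sigmaCore H ⊓ centralizer (Q1 : Set G) ≠ ⊥ := by
      have hsupH : A2 ⊔ Q1 ≤ H := sup_le hA2H hQ1H
      have h46 := Cfsg.Agent.S1446.result A2 Q1 (sigmaCore H) hA21 hQ11
        (inf_eq_bot_of_coprime_card (by
          rw [hA2c, hQ1c]; exact (Nat.coprime_primes hp hq).mpr (Ne.symm hqp)))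
        hQ1A2 (fun r hr hr1 => hfpf r (hQ1C hr) hr1)
        (solv_of_le_coatom hG hH hsupH)
        (Odd.of_dvd_nat hG.1 (Subgroup.card_subgroup_dvd_card _))
        (Cfsg.Agent.Helper58.BG11.sigmaCore_ne_bot hG H hH) hnil (hA2H.trans hKn)
        (hQ1H.trans hKn)
        (by
          apply Nat.Coprime.coprime_dvd_left
            (Cfsg.Agent.Helper54.card_sup_dvd_of_le_normalizer A2 Q1 hQ1A2)
          apply Nat.Coprime.mul_left
          · rw [hA2c]; exact (Nat.Prime.coprime_iff_not_dvd hp).mpr hpK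
          · rw [hQ1c]; exact (Nat.Prime.coprime_iff_not_dvd hq).mpr hqK)
        hA2fix
        (fun x hx hx1 => by rw [centralizer_singleton_eq_of_card_prime hq hQ1c hx hx1])
      intro hbot
      apply Cfsg.Agent.Helper58.BG11.sigmaCore_ne_bot hG H hH
      apply card_eq_one.mp
      rw [h46.2.1, hbot, Subgroup.card_bot, one_pow]
    -- `q ∈ τ₁(H) ∪ τ₃(H)`
    have h05 := Cfsg.Agent.S1405.result hG H hH
    have hq2 : PRankLE q 2 H := prankLE_two_of_not_mem_sigma hq h05.1 h05.2.2.1 hqH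
    have hq1 : PRankLE q 1 H := by
      by_contra hn
      have : q ∈ tau2 H := ⟨hq, hqH, hq2, hn⟩
      rw [h19a] at this
      exact hqp (Set.mem_singleton_iff.mp this)
    have hqdH : q ∣ Nat.card H := dvd_card_of_le hQ1q hQ11 hQ1H
    by_cases hqc : q ∣ Nat.card ↥⁅H, H⁆
    · -- `q ∈ τ₃(H)`
      have hq3 : q ∈ tau3 H := ⟨hq, hqH, hqc, hq1⟩
      have hEHsolv : Group.IsSolvable EH := solv_of_le_coatom hG hH hEHH
      obtain ⟨E3, hE3, hQ1E3⟩ :=
        Cfsg.Agent.Helper60.BG139.exists_hall_ge hEHsolv (tau3 H) hq3 hQ1q hQ1EH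
      have hE3c : E3 ≤ ⁅EH, EH⁆ := ((Cfsg.Agent.S1415.result hG H hH EH hEH).2.2 E3 hE3).2.1
      -- a Sylow `p`-subgroup of `H` over `A` is abelian and lies in `E_H ∩ C(A)`
      obtain ⟨P, hAP⟩ := exists_sylow_ge hAp hAH
      have h17A := Cfsg.Agent.S1417.result hG H hH p hτ2 A ⟨hAH, hAe, hAc⟩
      have hPcomm := (h17A.2.1 P).1
      have hPC : (P : Subgroup H).map H.subtype ≤ centralizer (A : Set G) := by
        rintro _ ⟨u, hu, rfl⟩
        rw [mem_centralizer_iff]
        intro b hb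
        obtain ⟨v, hv, rfl⟩ := hAP hb
        have h3 := hPcomm.is_comm.comm (⟨v, hv⟩ : ↥(P : Subgroup H)) ⟨u, hu⟩
        have h4 := congrArg Subtype.val h3
        have h5 := congrArg Subtype.val h4
        simpa using h5
      have hPEH : (P : Subgroup H).map H.subtype ≤ EH ⊓ centralizer (A : Set G) := by
        refine le_inf ?_ hPC
        rw [← h18b2]
        exact le_inf (Subgroup.map_subtype_le _) (hPC.trans (centralizer_le_normalizer _))
      have hcop : ¬ p ∣ (EH ⊓ centralizer (A : Set G)).relIndex EH := by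
        intro hd
        have hPc := card_sylow_map p H P
        have h1 : Nat.card ((P : Subgroup H).map H.subtype) *
            ((P : Subgroup H).map H.subtype).relIndex H = Nat.card H :=
          card_mul_relIndex_eq (Subgroup.map_subtype_le _)
        have h2 : ((P : Subgroup H).map H.subtype).relIndex H =
            ((P : Subgroup H).map H.subtype).relIndex (EH ⊓ centralizer (A : Set G)) *
              (EH ⊓ centralizer (A : Set G)).relIndex H :=
          (Subgroup.relIndex_mul_relIndex _ _ _ hPEH (inf_le_left.trans hEHH)).symm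
        have h3 : (EH ⊓ centralizer (A : Set G)).relIndex H =
            (EH ⊓ centralizer (A : Set G)).relIndex EH * EH.relIndex H :=
          (Subgroup.relIndex_mul_relIndex _ _ _ inf_le_left hEHH).symm
        have h4 : p ∣ ((P : Subgroup H).map H.subtype).relIndex H := by
          rw [h2, h3]
          exact (hd.mul_right _).mul_left _
        have h5 : p ^ ((Nat.card H).factorization p + 1) ∣ Nat.card H := by
          have h6 : p ^ (Nat.card H).factorization p * p ∣
              Nat.card ((P : Subgroup H).map H.subtype) *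
                ((P : Subgroup H).map H.subtype).relIndex H := by
            rw [hPc, sylCard]
            exact mul_dvd_mul_left _ h4
          rw [h1] at h6
          rw [pow_succ]
          exact h6
        exact Nat.pow_succ_factorization_not_dvd Nat.card_pos.ne' hp h5
      have hcomm := Cfsg.Agent.Helper71.BG142.commutator_mem_centralizer_of_rank_two hp2 A EH
        hAp (pRankLE_two_of_card hAc) h18a hEHsolv
        (Odd.of_dvd_nat hG.1 (Subgroup.card_subgroup_dvd_card _)) hcop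
      have hder : ⁅EH, EH⁆ ≤ centralizer (A : Set G) := by
        rw [Subgroup.commutator_le]
        intro x hx y hy
        exact hcomm x hx y hy
      exact hQ1A ((hQ1E3.trans hE3c).trans hder)
    · -- `q ∈ τ₁(H)`: CONFIG A
      have hq1' : q ∈ tau1 H := ⟨hq, hqH, hqdH, hqc, hq1⟩
      refine hCAk H hH EH hEH p q hτ2 hS A ⟨hAEH, hAe, hAc⟩ hq1' Q1 hQ1EH hQ1c hfix ?_ hQ1A
      rw [← hXeq]
      exact hQ1C.trans hCX
  · -- an abelian Sylow `p`-subgroup: (L3)
    push Not at hS
    obtain ⟨S, hScomm⟩ := hS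
    have hA1 : A ≠ ⊥ := by
      intro h
      rw [h, Subgroup.card_bot] at hAc
      have : 1 < p ^ 2 := Nat.one_lt_pow (by norm_num) hp.one_lt
      omega
    have hNtop : normalizer (A : Set G) ≠ ⊤ := normalizer_ne_top_of_le_coatom hG hH hAH hA1
    have hNs : Group.IsSolvable (normalizer (A : Set G)) := hG.2.2.2 _ hNtop
    have hNodd : Odd (Nat.card (normalizer (A : Set G))) :=
      Odd.of_dvd_nat hG.1 (Subgroup.card_subgroup_dvd_card _)
    have hcop := not_dvd_relIndex_normalizer S hScomm A hAp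
    have hL3 := Cfsg.Agent.Helper71.BG142.le_normalizer_inf_centralizer_of_rank_two hp2 A
      (normalizer (A : Set G)) hAp (pRankLE_two_of_card hAc) le_rfl hNs hNodd hcop C hCA
    rw [hAC] at hL3
    exact h18b3 (hL3.trans hNH)

end Cfsg.Agent.Helper79.BG142Q7
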