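import Mathlib
import Cfsg.Agent.Lib.Helper79.BG142Q7b
import Cfsg.Agent.Lib.Helper24.CharSub
import Cfsg.Agent.Lib.Helper64.BG142End
import Cfsg.Agent.Lib.Helper79.BG142L4P

/-!
# BG 14.2, (L4) CONFIG A kill: steps (2) and (3) of the paper proof (helper79)

CONFIG A: `r ∈ τ₂(M)`, Sylow `r`-subgroups of `G` nonabelian, `A ≤ E` elementary abelian of order
`r ^ 2`, `A0 = C_A(M_σ)`, `X ≤ E` of order `p ∈ τ₁(M)` with `C_{M_σ}(X) ≠ 1`, `[X, A0] = 1`,
`[X, A] ≠ 1`.  Then
* (2) a Hall `τ₁(M)`-subgroup `E1 ≥ X` of `E` equals `X` (S1446 on `[A,X] E1` acting on `M_σ`);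
* (3) `M = C_G(A0)`.
The prime action of `E1` on `M_σ` (helper68's `prime_action_tau1`, from S1427 + S1428) enters as an
explicit hypothesis, so this file does not depend on S1428.
-/

set_option autoImplicit false
set_option linter.style.haveILetI false
set_option linter.unusedSectionVars false

namespace Cfsg.Agent.Helper79.BG142L4

open Cfsg Subgroup Cfsg.Agent.Helper52 Cfsg.Agent.Helper15.BGU Cfsg.Agent.Helper55.BGB
  Cfsg.Agent.Helper15.BGV Cfsg.Agent.Helper79.BG142Q7

variable {G : Type*} [Group G] [Finite G]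

/-- `line_structure` of `BG142Q7a` with the explicit line `[A, C]`. -/
theorem line_structure_comm {p : ℕ} [hp : Fact p.Prime] {A X C : Subgroup G}
    (hAe : Cfsg.IsElementaryAbelian p A) (hAc : Nat.card A = p ^ 2) (hXA : X ≤ A)
    (hX : Nat.card X = p) (hCA : C ≤ normalizer (A : Set G))
    (hCX : C ≤ centralizer (X : Set G)) (hcop : (Nat.card C).Coprime p)
    (hfaith : C ⊓ centralizer (A : Set G) = ⊥) (hC1 : C ≠ ⊥) :
    A ⊓ centralizer (C : Set G) = X ∧ ⁅A, C⁆ ≤ A ∧ Nat.card ↥⁅A, C⁆ = p ∧ ⁅A, C⁆ ⊓ X = ⊥ ∧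
      ⁅A, C⁆ ≠ X ∧ C ≤ normalizer ((⁅A, C⁆ : Subgroup G) : Set G) ∧
      ∀ c ∈ C, c ≠ 1 → ⁅A, C⁆ ⊓ centralizer ({c} : Set G) = ⊥ := by
  have hpP := hp.out
  haveI : IsMulCommutative A := hAe.1
  have hXC : X ≤ centralizer (C : Set G) := Subgroup.le_centralizer_iff.mp hCX
  have hAC : A ⊓ centralizer (C : Set G) = X := by
    apply eq_of_le_of_card_sq hpP hAc hX (le_inf hXA hXC) inf_le_left
    intro h
    apply hC1
    rw [eq_bot_iff, ← hfaith]
    refine le_inf le_rfl ?_
    rw [Subgroup.le_centralizer_iff]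
    rw [← h]
    exact inf_le_right
  refine ⟨hAC, ?_⟩
  have hA2A : ⁅A, C⁆ ≤ A := Cfsg.Agent.Helper24.commutator_le_of_le_normalizer A C hCA
  have hcop' : (Nat.card C).Coprime (Nat.card A) := by
    rw [hAc]; exact Nat.Coprime.pow_right 2 hcop
  have hAsolv : Group.IsSolvable A := by
    exact Group.isSolvable_of_comm (fun a b => mul_comm' a b)
  have hsup : A = ⁅A, C⁆ ⊔ (A ⊓ centralizer (C : Set G)) :=
    Cfsg.Agent.Helper52.eq_commutator_sup_centralizer A C hCA hcop' (Or.inr hAsolv)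
  rw [hAC] at hsup
  have hAA : (⁅A, A⁆ : Subgroup G) = ⊥ := by
    rw [Subgroup.commutator_eq_bot_iff_le_centralizer]
    intro a ha
    rw [Subgroup.mem_centralizer_iff]
    intro b hb
    have := mul_comm' (⟨b, hb⟩ : A) ⟨a, ha⟩
    exact congrArg Subtype.val this
  have hinf : ⁅A, C⁆ ⊓ X = ⊥ := by
    have h1 := Cfsg.Agent.Helper24.inf_centralizer_inf_commutator_le A C hCA hcop'.symm
    rw [hAC, hAA, inf_comm] at h1
    exact le_bot_iff.mp h1
  have hX1 : X ≠ ⊥ := by
    intro h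
    rw [h, Subgroup.card_bot] at hX
    exact hpP.one_lt.ne hX
  have hne : ⁅A, C⁆ ≠ X := by
    intro h
    rw [h, inf_idem] at hinf
    exact hX1 hinf
  have hcard : Nat.card ↥⁅A, C⁆ = p := by
    have hdvd : Nat.card ↥⁅A, C⁆ ∣ p ^ 2 := hAc ▸ Subgroup.card_dvd_of_le hA2A
    obtain ⟨k, hk2, hk⟩ := (Nat.dvd_prime_pow hpP).mp hdvd
    have hk0 : k ≠ 0 := by
      intro h0
      rw [h0, pow_zero] at hk
      have h1 : (⁅A, C⁆ : Subgroup G) = ⊥ := Subgroup.card_eq_one.mp hk
      rw [h1, bot_sup_eq] at hsup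
      rw [← hsup, hAc] at hX
      have : p ^ 2 = p ^ 1 := by rw [pow_one]; exact hX
      exact absurd (Nat.pow_right_injective hpP.two_le this) (by norm_num)
    have hk2' : k ≠ 2 := by
      intro h2
      rw [h2] at hk
      have h1 : (⁅A, C⁆ : Subgroup G) = A := Subgroup.eq_of_le_of_card_ge hA2A (by rw [hk, hAc])
      rw [h1, inf_eq_right.mpr hXA] at hinf
      exact hX1 hinf
    have : k = 1 := by omega
    rw [this, pow_one] at hk
    exact hk
  refine ⟨hA2A, hcard, hinf, hne, Subgroup.normalizer_commutator_ge_right A C, ?_⟩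
  intro c hc hc1
  rcases inf_eq_bot_or_le_of_card_prime (B := centralizer ({c} : Set G)) hpP hcard with h | h
  · exact h
  · exfalso
    apply hc1
    have hXc : X ≤ centralizer ({c} : Set G) := by
      intro x hx
      rw [Subgroup.mem_centralizer_iff]
      intro y hy
      rw [Set.mem_singleton_iff.mp hy]
      exact (Subgroup.mem_centralizer_iff.mp (hCX hc) x hx).symm
    have hAc' : A ≤ centralizer ({c} : Set G) := by
      rw [hsup]
      exact sup_le h hXc
    have hcA : c ∈ C ⊓ centralizer (A : Set G) := by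
      refine Subgroup.mem_inf.mpr ⟨hc, ?_⟩
      rw [Subgroup.mem_centralizer_iff]
      intro a ha
      exact (Subgroup.mem_centralizer_iff.mp (hAc' ha) c (Set.mem_singleton c)).symm
    rw [hfaith] at hcA
    exact Subgroup.mem_bot.mp hcA

/-- the normalizer of `Y` normalizes the centralizer of `Y` -/
theorem normalizer_le_normalizer_centralizer (Y : Subgroup G) :
    normalizer (Y : Set G) ≤ normalizer ((centralizer (Y : Set G) : Subgroup G) : Set G) := by
  apply Cfsg.Agent.Helper64.BG142End.le_normalizer_of_conj_mem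
  intro n hn x hx
  rw [Subgroup.mem_centralizer_iff]
  intro s hs
  have hs' : n⁻¹ * s * n ∈ Y := by
    have := (Subgroup.mem_normalizer_iff.mp (Subgroup.inv_mem _ hn) s).mp hs
    simpa using this
  have hc := Subgroup.mem_centralizer_iff.mp hx _ hs'
  calc s * (n * x * n⁻¹) = n * ((n⁻¹ * s * n) * x) * n⁻¹ := by group
    _ = n * (x * (n⁻¹ * s * n)) * n⁻¹ := by rw [hc]
    _ = n * x * n⁻¹ * s := by group

/-- CONFIG A, step (2): a Hall `τ₁(M)`-subgroup of `E` over `X` is `X` itself. -/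
theorem hall_tau1_eq (hG : IsMinSimpleOddOrder G) (M : Subgroup G) (hM : IsCoatom M)
    (E : Subgroup G) (hE : IsComplIn E (sigmaCore M) M) (r p : ℕ) [hr' : Fact r.Prime]
    [hp' : Fact p.Prime] (hr : r ∈ tau2 M)
    (hS : ∀ S : Sylow r G, ¬ IsMulCommutative (S : Subgroup G))
    (A : Subgroup G) (hA : A ≤ E ∧ IsElementaryAbelian r A ∧ Nat.card A = r ^ 2)
    (hp : p ∈ tau1 M) (X : Subgroup G) (hXE : X ≤ E) (hX : Nat.card X = p)
    (hC : sigmaCore M ⊓ centralizer (X : Set G) ≠ ⊥)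
    (hXA0 : X ≤ centralizer ((A ⊓ centralizer (sigmaCore M : Set G) : Subgroup G) : Set G))
    (hXA : ¬ X ≤ centralizer (A : Set G))
    (E1 : Subgroup G) (hE1 : IsPiHallOf (tau1 M) E1 E) (hXE1 : X ≤ E1)
    (hprime : ∀ x ∈ E1, x ≠ 1 →
      sigmaCore M ⊓ centralizer ({x} : Set G) ≤ sigmaCore M ⊓ centralizer (E1 : Set G)) :
    E1 = X := by
  classical
  have hrp : r.Prime := hr'.out
  have hpp : p.Prime := hp'.out
  have hEM : E ≤ M := hE.1
  obtain ⟨hAE, hAe, hAc⟩ := hA
  obtain ⟨-, ⟨h19b, -⟩, h19c⟩ :=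
    Cfsg.Agent.S1419.result hG M hM E hE r hr hS A ⟨hAE, hAe, hAc⟩
  obtain ⟨⟨h18a, -⟩, -, -⟩ := Cfsg.Agent.S1418.result hG M hM E hE r hr A ⟨hAE, hAe, hAc⟩
  have h17 := Cfsg.Agent.S1417.result hG M hM r hr A ⟨hAE.trans hEM, hAe, hAc⟩
  have hnil : Group.IsNilpotent (sigmaCore M) := h17.1
  have hpr : p ≠ r := by
    rintro rfl
    exact hr.2.2.2 hp.2.2.2.2
  have hX1 : X ≠ ⊥ := ne_bot_of_card_prime hX
  have hcopXr : (Nat.card X).Coprime r := by
    rw [hX]; exact (Nat.coprime_primes hpp hrp).mpr hpr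
  have hfaithX : X ⊓ centralizer (A : Set G) = ⊥ := by
    rcases inf_eq_bot_or_le_of_card_prime (B := centralizer (A : Set G)) hpp hX with h | h
    · exact h
    · exact absurd h hXA
  obtain ⟨-, hA1A, hA1c, -, hA1ne, hXA1, hfpfX⟩ :=
    line_structure_comm hAe hAc (inf_le_left : A ⊓ centralizer (sigmaCore M : Set G) ≤ A) h19b
      (hXE.trans h18a) hXA0 hcopXr hfaithX hX1
  generalize hA1def : (⁅A, X⁆ : Subgroup G) = A1 at hA1A hA1c hA1ne hXA1 hfpfX
  -- `E1`
  have hE1E : E1 ≤ E := hE1.1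
  have hcyc : IsCyclic E1 := (Cfsg.Agent.S1415.result hG M hM E hE).2.1 E1 hE1
  have hE1comm : ∀ a ∈ E1, ∀ b ∈ E1, a * b = b * a := by
    intro a ha b hb
    have := mul_comm' (⟨a, ha⟩ : E1) ⟨b, hb⟩
    exact congrArg Subtype.val this
  have hE1CX : E1 ≤ centralizer (X : Set G) := by
    intro e he
    rw [mem_centralizer_iff]
    intro x hx
    exact hE1comm x (hXE1 hx) e he
  have hE1A1 : E1 ≤ normalizer (A1 : Set G) := by
    rw [← hA1def]
    exact Cfsg.Agent.Helper24.le_normalizer_commutator_of_le (hE1E.trans h18a)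
      (hE1CX.trans (centralizer_le_normalizer _))
  have hA11 : A1 ≠ ⊥ := ne_bot_of_card_prime hA1c
  obtain ⟨⟨x, hxX⟩, hx1'⟩ := (Subgroup.ne_bot_iff_exists_ne_one).mp hX1
  have hx1 : x ≠ 1 := fun h => hx1' (Subtype.ext h)
  have hCx : centralizer ({x} : Set G) = centralizer (X : Set G) :=
    centralizer_singleton_eq_of_card_prime hpp hX hxX hx1
  have hA1X : ⁅A1, X⁆ = A1 := by
    have hle : ⁅A1, X⁆ ≤ A1 := Cfsg.Agent.Helper24.commutator_le_of_le_normalizer A1 X hXA1
    rcases inf_eq_bot_or_le_of_card_prime (B := ⁅A1, X⁆) hrp hA1c with h | h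
    · exfalso
      have hbot : ⁅A1, X⁆ = ⊥ := by rw [eq_bot_iff, ← h]; exact le_inf hle le_rfl
      rw [Subgroup.commutator_eq_bot_iff_le_centralizer] at hbot
      have h2 := hfpfX x hxX hx1
      apply hA11
      rw [eq_bot_iff, ← h2]
      exact le_inf le_rfl (hCx ▸ hbot)
    · exact le_antisymm hle h
  have hKn : M ≤ normalizer (sigmaCore M : Set G) := le_normalizer_sigmaCore M
  have hA1E : A1 ≤ E := hA1A.trans hAE
  have hA1M : A1 ≤ M := hA1E.trans hEM
  have hA1fix : sigmaCore M ⊓ centralizer (A1 : Set G) = ⊥ := (h19c A1 hA1E hA1c hA1ne).1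
  have hfrob : ∀ e ∈ E1, e ≠ 1 → A1 ⊓ centralizer ({e} : Set G) = ⊥ := by
    intro e he he1
    rcases inf_eq_bot_or_le_of_card_prime (B := centralizer ({e} : Set G)) hrp hA1c with h | h
    · exact h
    exfalso
    apply hC
    have hY1 : sigmaCore M ⊓ centralizer (X : Set G) ≤
        sigmaCore M ⊓ centralizer ({e} : Set G) := by
      rw [← hCx]
      refine (hprime x (hXE1 hxX) hx1).trans (inf_le_inf_left _ ?_)
      exact centralizer_le (Set.singleton_subset_iff.mpr he)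
    have hY2 : sigmaCore M ⊓ centralizer ({e} : Set G) ≤
        sigmaCore M ⊓ centralizer (X : Set G) :=
      (hprime e he he1).trans (inf_le_inf_left _ (centralizer_le hXE1))
    have hYeq := le_antisymm hY1 hY2
    have hA1Y : A1 ≤
        normalizer ((sigmaCore M ⊓ centralizer (X : Set G) : Subgroup G) : Set G) := by
      rw [hYeq]
      apply Cfsg.Agent.Helper64.BG142End.le_normalizer_of_conj_mem
      intro a ha y hy
      refine mem_inf.mpr ⟨(mem_normalizer_iff.mp (hKn (hA1M ha)) y).mp hy.1, ?_⟩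
      rw [mem_centralizer_iff]
      intro z hz
      rw [Set.mem_singleton_iff.mp hz]
      have h1 : Commute e a := (mem_centralizer_iff.mp (h ha)) e rfl
      have h2 : Commute e y := (mem_centralizer_iff.mp hy.2) e rfl
      exact ((h1.mul_right h2).mul_right h1.inv_right).eq
    have hXCY : X ≤
        centralizer ((sigmaCore M ⊓ centralizer (X : Set G) : Subgroup G) : Set G) :=
      le_centralizer_iff.mp inf_le_right
    have hcomm : ⁅A1, X⁆ ≤
        centralizer ((sigmaCore M ⊓ centralizer (X : Set G) : Subgroup G) : Set G) := by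
      rw [Subgroup.commutator_le]
      intro a ha x' hx'
      have hn := normalizer_le_normalizer_centralizer _ (hA1Y ha)
      rw [commutatorElement_def]
      have h1 := (mem_normalizer_iff.mp hn x').mp (hXCY hx')
      exact mul_mem h1 (inv_mem (hXCY hx'))
    rw [hA1X] at hcomm
    rw [eq_bot_iff, ← hA1fix]
    exact le_inf inf_le_left (le_centralizer_iff.mp hcomm)
  -- S1446
  have hE11 : E1 ≠ ⊥ := fun h => hX1 (eq_bot_iff.mpr (h ▸ hXE1))
  have hrE1 : ¬ r ∣ Nat.card E1 := fun hd => hr.2.2.2 (hE1.2.1 r hrp hd).2.2.2.2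
  have hKR : A1 ⊓ E1 = ⊥ := by
    rcases inf_eq_bot_or_le_of_card_prime (B := E1) hrp hA1c with h | h
    · exact h
    · exfalso
      apply hrE1
      rw [← hA1c]
      exact card_dvd_of_le h
  have hsupM : A1 ⊔ E1 ≤ M := sup_le hA1M (hE1E.trans hEM)
  have hrK : ¬ r ∣ Nat.card (sigmaCore M) := not_dvd_card_sigmaCore hrp hr.2.1
  have hcopE1K : (Nat.card E1).Coprime (Nat.card (sigmaCore M)) := by
    apply Nat.coprime_of_dvd
    intro q hq hqd hqd'
    exact (hE1.2.1 q hq hqd).2.1 (isPi_sigmaCore M q hq hqd')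
  have h46 := Cfsg.Agent.S1446.result A1 E1 (sigmaCore M) hA11 hE11 hKR hE1A1 hfrob
    (solv_of_le_coatom hG hM hsupM) (Odd.of_dvd_nat hG.1 (Subgroup.card_subgroup_dvd_card _))
    (Cfsg.Agent.Helper58.BG11.sigmaCore_ne_bot hG M hM) hnil (hA1M.trans hKn)
    ((hE1E.trans hEM).trans hKn)
    (by
      apply Nat.Coprime.coprime_dvd_left
        (Cfsg.Agent.Helper54.card_sup_dvd_of_le_normalizer A1 E1 hE1A1)
      apply Nat.Coprime.mul_left
      · rw [hA1c]; exact (Nat.Prime.coprime_iff_not_dvd hrp).mpr hrK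
      · exact hcopE1K)
    hA1fix
    (fun y hy hy1 => le_antisymm (hprime y hy hy1)
      (inf_le_inf_left _ (centralizer_le (Set.singleton_subset_iff.mpr hy))))
  have hE1prime : (Nat.card E1).Prime := h46.1
  have hdvd : p ∣ Nat.card E1 := by
    have := card_dvd_of_le hXE1
    rwa [hX] at this
  have hcard : Nat.card E1 = p := ((Nat.prime_dvd_prime_iff_eq hpp hE1prime).mp hdvd).symm
  exact (Subgroup.eq_of_le_of_card_ge hXE1 (by rw [hcard, hX])).symm

/-- a subgroup lies in `H` as soon as `H` contains a Sylow subgroup of it for each prime -/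
theorem le_of_forall_syl_le {K H : Subgroup G}
    (h : ∀ t : ℕ, t.Prime → t ∣ Nat.card K → ∃ T : Subgroup G, T ≤ K ∧
      Nat.card T = sylCard t K ∧ T ≤ H) : K ≤ H := by
  have hdvd : Nat.card K ∣ Nat.card (K ⊓ H : Subgroup G) := by
    rw [← Nat.factorization_le_iff_dvd Nat.card_pos.ne' Nat.card_pos.ne', Finsupp.le_def]
    intro t
    by_cases ht : t.Prime
    · by_cases htK : t ∣ Nat.card K
      · obtain ⟨T, hTK, hTc, hTH⟩ := h t ht htK
        have h1 : t ^ (Nat.card K).factorization t ∣ Nat.card (K ⊓ H : Subgroup G) := by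
          rw [sylCard] at hTc
          rw [← hTc]; exact Subgroup.card_dvd_of_le (le_inf hTK hTH)
        exact (ht.pow_dvd_iff_le_factorization Nat.card_pos.ne').mp h1
      · rw [Nat.factorization_eq_zero_of_not_dvd htK]; exact Nat.zero_le _
    · rw [Nat.factorization_eq_zero_of_not_prime _ ht]; exact Nat.zero_le _
  have hle : Nat.card K ≤ Nat.card (K ⊓ H : Subgroup G) := Nat.le_of_dvd Nat.card_pos hdvd
  have h2 : (K ⊓ H : Subgroup G) = K := Subgroup.eq_of_le_of_card_ge inf_le_left hle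
  rw [← h2]; exact inf_le_right

/-- the Sylow order does not change in a subgroup of index prime to `t` -/
theorem sylCard_eq_of_not_dvd_relIndex {t : ℕ} (_ht : t.Prime) {H K : Subgroup G} (hHK : H ≤ K)
    (h : ¬ t ∣ H.relIndex K) : sylCard t H = sylCard t K := by
  have h1 := card_mul_relIndex_eq hHK
  have h0 : H.relIndex K ≠ 0 := by
    intro h0
    rw [h0, mul_zero] at h1
    exact Nat.card_pos.ne' h1.symm
  rw [sylCard, sylCard, ← h1, Nat.factorization_mul Nat.card_pos.ne' h0]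
  simp [Nat.factorization_eq_zero_of_not_dvd h]

/-- a subgroup containing a Sylow `r`-subgroup of `E` has index prime to `r` in `E` -/
theorem not_dvd_relIndex_of_sylCard {r : ℕ} (hr : r.Prime) {P C E : Subgroup G} (hPC : P ≤ C)
    (hCE : C ≤ E) (hP : Nat.card P = sylCard r E) : ¬ r ∣ C.relIndex E := by
  intro hd
  have h1 := card_mul_relIndex_eq hCE
  have h2 : r ^ (Nat.card E).factorization r ∣ Nat.card C := by
    rw [sylCard] at hP
    rw [← hP]; exact Subgroup.card_dvd_of_le hPC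
  have h3 : r ^ ((Nat.card E).factorization r + 1) ∣ Nat.card E := by
    rw [pow_succ]
    calc r ^ (Nat.card E).factorization r * r ∣ Nat.card C * C.relIndex E := mul_dvd_mul h2 hd
      _ = Nat.card E := h1
  exact Nat.pow_succ_factorization_not_dvd Nat.card_pos.ne' hr h3

/-- CONFIG A, step (3): `M = C_G(A0)`. -/
theorem le_centralizer_A0 (hG : IsMinSimpleOddOrder G) (M : Subgroup G) (hM : IsCoatom M)
    (E : Subgroup G) (hE : IsComplIn E (sigmaCore M) M) (r p : ℕ) [hr' : Fact r.Prime]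
    [hp' : Fact p.Prime] (hr : r ∈ tau2 M)
    (hS : ∀ S : Sylow r G, ¬ IsMulCommutative (S : Subgroup G))
    (A : Subgroup G) (hA : A ≤ E ∧ IsElementaryAbelian r A ∧ Nat.card A = r ^ 2)
    (hp : p ∈ tau1 M) (X : Subgroup G) (hXE : X ≤ E) (hX : Nat.card X = p)
    (hC : sigmaCore M ⊓ centralizer (X : Set G) ≠ ⊥)
    (hXA0 : X ≤ centralizer ((A ⊓ centralizer (sigmaCore M : Set G) : Subgroup G) : Set G))
    (hXA : ¬ X ≤ centralizer (A : Set G))
    (hprime : ∀ E1 : Subgroup G, IsPiHallOf (tau1 M) E1 E → ∀ x ∈ E1, x ≠ 1 →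
      sigmaCore M ⊓ centralizer ({x} : Set G) ≤ sigmaCore M ⊓ centralizer (E1 : Set G)) :
    M ≤ centralizer ((A ⊓ centralizer (sigmaCore M : Set G) : Subgroup G) : Set G) := by
  classical
  have hrp : r.Prime := hr'.out
  have hpp : p.Prime := hp'.out
  have hEM : E ≤ M := hE.1
  have hA' := hA
  obtain ⟨hAE, hAe, hAc⟩ := hA
  have hAM : A ≤ M := hAE.trans hEM
  obtain ⟨h19a, -, -⟩ := Cfsg.Agent.S1419.result hG M hM E hE r hr hS A ⟨hAE, hAe, hAc⟩
  obtain ⟨⟨h18a, -⟩, -, -⟩ := Cfsg.Agent.S1418.result hG M hM E hE r hr A ⟨hAE, hAe, hAc⟩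
  have h17 := Cfsg.Agent.S1417.result hG M hM r hr A ⟨hAM, hAe, hAc⟩
  have h15 := Cfsg.Agent.S1415.result hG M hM E hE
  have h05 := Cfsg.Agent.S1405.result hG M hM
  have hAp : IsPGroup r A := isPGroup_of_isElementaryAbelian hAe
  have hXp : IsPGroup p X := isPGroup_of_card_prime hX
  have hEsolv : Group.IsSolvable E := solv_of_le_coatom hG hM hEM
  have hA0A : A ⊓ centralizer (sigmaCore M : Set G) ≤ A := inf_le_left
  have hCA0 : centralizer (A : Set G) ≤
      centralizer ((A ⊓ centralizer (sigmaCore M : Set G) : Subgroup G) : Set G) :=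
    centralizer_le hA0A
  have hr2 : r ≠ 2 := by
    apply p_ne_two_of_odd hG.1 hAp
    rw [hAc]; exact Nat.one_lt_pow (by norm_num) hrp.one_lt
  -- a Sylow `r`-subgroup of `E` over `A` centralizes `A`
  obtain ⟨P, hAP, hPE, hPc⟩ := exists_syl_ge r hAp hAE
  have hPC : P ≤ centralizer (A : Set G) := by
    obtain ⟨S, hPS⟩ := exists_sylow_ge (isPGroup_of_card_sylCard r hPc) (hPE.trans hEM)
    have hScomm := (h17.2.1 S).1
    intro u hu
    rw [mem_centralizer_iff]
    intro b hb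
    obtain ⟨u', hu', rfl⟩ := hPS hu
    obtain ⟨v, hv, rfl⟩ := hPS (hAP hb)
    have h3 := hScomm.is_comm.comm (⟨v, hv⟩ : ↥(S : Subgroup M)) ⟨u', hu'⟩
    have h4 := congrArg Subtype.val h3
    have h5 := congrArg Subtype.val h4
    simpa using h5
  -- `[E, E] ≤ C(A)`
  have hcop : ¬ r ∣ (E ⊓ centralizer (A : Set G)).relIndex E :=
    not_dvd_relIndex_of_sylCard hrp (le_inf hPE hPC) inf_le_left hPc
  have hcomm := Cfsg.Agent.Helper71.BG142.commutator_mem_centralizer_of_rank_two hr2 A E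
    hAp (pRankLE_two_of_card hAc) h18a hEsolv
    (Odd.of_dvd_nat hG.1 (Subgroup.card_subgroup_dvd_card _)) hcop
  have hder : ⁅E, E⁆ ≤ centralizer (A : Set G) := by
    rw [Subgroup.commutator_le]
    intro x hx y hy
    exact hcomm x hx y hy
  -- `E ≤ C(A0)`
  have hEC : E ≤ centralizer ((A ⊓ centralizer (sigmaCore M : Set G) : Subgroup G) : Set G) := by
    apply le_of_forall_syl_le
    intro t ht htE
    haveI : Fact t.Prime := ⟨ht⟩
    have htσ : t ∉ sigma M :=
      Cfsg.Agent.Helper78.BG121.not_mem_sigma_of_dvd (hallOf hG hM) hE ht htE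
    have htM : t ∣ Nat.card M := htE.trans (card_dvd_of_le hEM)
    have ht2 : PRankLE t 2 M := prankLE_two_of_not_mem_sigma ht h05.1 h05.2.2.1 htσ
    by_cases ht1 : PRankLE t 1 M
    · by_cases htc : t ∣ Nat.card ↥⁅M, M⁆
      · -- `t ∈ τ₃(M)`
        have ht3 : t ∈ tau3 M := ⟨ht, htσ, htc, ht1⟩
        obtain ⟨E3, hE3, -⟩ := Cfsg.Agent.Helper60.BG139.exists_hall_ge hEsolv (tau3 M) ht3
          (IsPGroup.of_bot : IsPGroup t (⊥ : Subgroup G)) bot_le
        have hE3c : E3 ≤ ⁅E, E⁆ := (h15.2.2 E3 hE3).2.1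
        obtain ⟨T, -, hTE3, hTc⟩ := exists_syl_ge t
          (IsPGroup.of_bot : IsPGroup t (⊥ : Subgroup G)) (bot_le : ⊥ ≤ E3)
        refine ⟨T, hTE3.trans hE3.1, ?_, ((hTE3.trans hE3c).trans hder).trans hCA0⟩
        rw [hTc]
        exact sylCard_eq_of_not_dvd_relIndex ht hE3.1 (hE3.2.2 t ht ht3)
      · -- `t ∈ τ₁(M)`
        have ht1' : t ∈ tau1 M := ⟨ht, htσ, htM, htc, ht1⟩
        obtain ⟨E1, hE1, hXE1⟩ :=
          Cfsg.Agent.Helper60.BG139.exists_hall_ge hEsolv (tau1 M) hp hXp hXE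
        have hE1X : E1 = X := hall_tau1_eq hG M hM E hE r p hr hS A hA' hp X hXE hX hC hXA0 hXA
          E1 hE1 hXE1 (hprime E1 hE1)
        rw [hE1X] at hE1
        have h1 : sylCard t X = sylCard t E :=
          sylCard_eq_of_not_dvd_relIndex ht hXE (hE1.2.2 t ht ht1')
        have htX : t ∣ Nat.card X := by
          by_contra hn
          have h2 : sylCard t X = 1 := by
            rw [sylCard, Nat.factorization_eq_zero_of_not_dvd hn, pow_zero]
          have h3 : t ∣ sylCard t E := by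
            rw [sylCard]
            have h4 : 1 ≤ (Nat.card E).factorization t :=
              (ht.dvd_iff_one_le_factorization Nat.card_pos.ne').mp htE
            exact dvd_pow_self t (by omega)
          rw [← h1, h2] at h3
          exact ht.one_lt.ne' (Nat.dvd_one.mp h3)
        rw [hX] at htX
        have htp : t = p := (Nat.prime_dvd_prime_iff_eq ht hpp).mp htX
        refine ⟨X, hXE, ?_, hXA0⟩
        rw [← h1, sylCard, hX, htp, hpp.factorization_self, pow_one]
    · -- `t ∈ τ₂(M) = {r}`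
      have ht2' : t ∈ tau2 M := ⟨ht, htσ, ht2, ht1⟩
      rw [h19a] at ht2'
      have htr : t = r := Set.mem_singleton_iff.mp ht2'
      refine ⟨P, hPE, ?_, hPC.trans hCA0⟩
      rw [htr]
      exact hPc
  -- `M = M_σ E`
  have hKC : sigmaCore M ≤
      centralizer ((A ⊓ centralizer (sigmaCore M : Set G) : Subgroup G) : Set G) :=
    le_centralizer_iff.mp inf_le_right
  intro m hm
  obtain ⟨a, ha, b, hb, rfl⟩ := hE.2.2.2 m hm
  exact mul_mem (hEC ha) (hKC hb)

/-- CONFIG A, step (3), in the form `hN` of `configA_endgame`: `N_G(A0) = M = C_G(A0)`. -/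
theorem normalizer_A0_le_centralizer (hG : IsMinSimpleOddOrder G) (M : Subgroup G)
    (hM : IsCoatom M) (E : Subgroup G) (hE : IsComplIn E (sigmaCore M) M) (r p : ℕ)
    [hr' : Fact r.Prime] [hp' : Fact p.Prime] (hr : r ∈ tau2 M)
    (hS : ∀ S : Sylow r G, ¬ IsMulCommutative (S : Subgroup G))
    (A : Subgroup G) (hA : A ≤ E ∧ IsElementaryAbelian r A ∧ Nat.card A = r ^ 2)
    (hp : p ∈ tau1 M) (X : Subgroup G) (hXE : X ≤ E) (hX : Nat.card X = p)
    (hC : sigmaCore M ⊓ centralizer (X : Set G) ≠ ⊥)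
    (hXA0 : X ≤ centralizer ((A ⊓ centralizer (sigmaCore M : Set G) : Subgroup G) : Set G))
    (hXA : ¬ X ≤ centralizer (A : Set G))
    (hprime : ∀ E1 : Subgroup G, IsPiHallOf (tau1 M) E1 E → ∀ x ∈ E1, x ≠ 1 →
      sigmaCore M ⊓ centralizer ({x} : Set G) ≤ sigmaCore M ⊓ centralizer (E1 : Set G)) :
    normalizer ((A ⊓ centralizer (sigmaCore M : Set G) : Subgroup G) : Set G) = M ∧
      M ≤ centralizer ((A ⊓ centralizer (sigmaCore M : Set G) : Subgroup G) : Set G) := by
  have hMC := le_centralizer_A0 hG M hM E hE r p hr hS A hA hp X hXE hX hC hXA0 hXA hprime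
  refine ⟨?_, hMC⟩
  obtain ⟨-, ⟨h19b, -⟩, -⟩ := Cfsg.Agent.S1419.result hG M hM E hE r hr hS A hA
  have hA01 : A ⊓ centralizer (sigmaCore M : Set G) ≠ ⊥ := ne_bot_of_card_prime h19b
  have hA0M : A ⊓ centralizer (sigmaCore M : Set G) ≤ M := inf_le_left.trans (hA.1.trans hE.1)
  have hNtop := normalizer_ne_top_of_le_coatom hG hM hA0M hA01
  have hMN : M ≤ normalizer ((A ⊓ centralizer (sigmaCore M : Set G) : Subgroup G) : Set G) :=
    hMC.trans (centralizer_le_normalizer _)
  exact (hM.le_iff.mp hMN).resolve_left hNtop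

/-- CONFIG A, steps (2)+(3), with the row S1428 (for `M`, `E`) as the only extra hypothesis:
`N_G(A0) = M = C_G(A0)`. -/
theorem normalizer_A0_eq_of_h28 (hG : IsMinSimpleOddOrder G) (M : Subgroup G)
    (hM : IsCoatom M) (E : Subgroup G) (hE : IsComplIn E (sigmaCore M) M)
    (h28 : ∀ (p : ℕ) (_ : p ∈ Cfsg.tau1 M) (P : Subgroup G) (_ : P ≤ E) (_ : Nat.card P = p)
      (R : Subgroup G) (_ : R ≤ E ⊓ Subgroup.centralizer (P : Set G)) (_ : (Nat.card R).Prime),
      Cfsg.sigmaCore M ⊓ Subgroup.centralizer (P : Set G) ≤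
        Cfsg.sigmaCore M ⊓ Subgroup.centralizer (R : Set G))
    (r p : ℕ) [hr' : Fact r.Prime] [hp' : Fact p.Prime] (hr : r ∈ tau2 M)
    (hS : ∀ S : Sylow r G, ¬ IsMulCommutative (S : Subgroup G))
    (A : Subgroup G) (hA : A ≤ E ∧ IsElementaryAbelian r A ∧ Nat.card A = r ^ 2)
    (hp : p ∈ tau1 M) (X : Subgroup G) (hXE : X ≤ E) (hX : Nat.card X = p)
    (hC : sigmaCore M ⊓ centralizer (X : Set G) ≠ ⊥)
    (hXA0 : X ≤ centralizer ((A ⊓ centralizer (sigmaCore M : Set G) : Subgroup G) : Set G))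
    (hXA : ¬ X ≤ centralizer (A : Set G)) :
    normalizer ((A ⊓ centralizer (sigmaCore M : Set G) : Subgroup G) : Set G) = M ∧
      M ≤ centralizer ((A ⊓ centralizer (sigmaCore M : Set G) : Subgroup G) : Set G) :=
  normalizer_A0_le_centralizer hG M hM E hE r p hr hS A hA hp X hXE hX hC hXA0 hXA
    (fun E1 hE1 x hx hx1 => prime_action_tau1_of hG M hM E hE h28 E1 hE1 x hx hx1)

end Cfsg.Agent.Helper79.BG142L4
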