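import Mathlib
import Cfsg.Prelude.Def_OddOrderLocal
import Cfsg.Agent.S1412
import Cfsg.Agent.S1453
import Cfsg.Agent.Lib.Helper24.CharSub
import Cfsg.Agent.Lib.Helper24.RankThree
import Cfsg.Agent.Lib.Helper45.CNSimple
import Cfsg.Agent.Lib.Helper64.BG142End
import Cfsg.Agent.Lib.Helper71.BG142L3
import Cfsg.Agent.Lib.Helper83.S1423E
import Cfsg.Agent.Lib.Helper79.BG142Q7a

/-!
# BG 14.2, (L4) CONFIG A kill: the `T`-construction for `configA_endgame` (helper79)

For a nonabelian Sylow `r`-subgroup `S` of a minimal simple group of odd order, a maximal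
elementary abelian `A ≤ S` of order `r ^ 2`, a line `A0 ≤ A` which is not central in `S`, and an
`r'`-group `V ≤ N(S)`, we produce the subgroup `T` needed by
`Cfsg.Agent.Helper64.BG142End.configA_endgame` (hypotheses `hTS hST hTV hTc hTp hA0T h5`):
* rank `≤ 2`: `T = Z(S)` (S1412) and `[V,V] ≤ C(S)` (helper71's (L3));
* rank `≥ 3`: `T = C_S(Ω₁ Z₂(S))` (S1453), and `S = A0 T`.
-/

set_option autoImplicit false

namespace Cfsg.Agent.Helper79.BG142L4

open Subgroup Cfsg
open scoped commutatorElement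

variable {G : Type*} [Group G]

/-- `N(S)` normalizes `Z(S)` -/
theorem normalizer_le_normalizer_center (S : Subgroup G) :
    normalizer (S : Set G) ≤ normalizer ((S ⊓ centralizer (S : Set G) : Subgroup G) : Set G) := by
  apply Cfsg.Agent.Helper64.BG142End.le_normalizer_of_conj_mem
  intro n hn x hx
  have hnS := Subgroup.mem_normalizer_iff.mp hn
  refine Subgroup.mem_inf.mpr ⟨(hnS x).mp hx.1, ?_⟩
  rw [Subgroup.mem_centralizer_iff]
  intro s hs
  have hs' : n⁻¹ * s * n ∈ S := by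
    have := (Subgroup.mem_normalizer_iff.mp (Subgroup.inv_mem _ hn) s).mp hs
    simpa using this
  have hc := Subgroup.mem_centralizer_iff.mp hx.2 _ hs'
  calc s * (n * x * n⁻¹) = n * ((n⁻¹ * s * n) * x) * n⁻¹ := by group
    _ = n * (x * (n⁻¹ * s * n)) * n⁻¹ := by rw [hc]
    _ = n * x * n⁻¹ * s := by group

/-- the rank `≤ 2` case of `exists_T`, from the S1412 decomposition -/
theorem exists_T_of_decomp {r : ℕ} [hr : Fact r.Prime] (S P₁ P₂ : Subgroup G)
    (hsup : P₁ ⊔ P₂ = S) (hcomm : ∀ a ∈ P₁, ∀ b ∈ P₂, a * b = b * a)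
    (hP1na : ¬ IsMulCommutative P₁) (hP1c : Nat.card P₁ = r ^ 3)
    (hP1e : Monoid.exponent P₁ = r) (hP2c : IsCyclic P₂) :
    ⁅S, S⁆ ≤ S ⊓ centralizer (S : Set G) ∧ ∀ y ∈ S, y ^ r ∈ S ⊓ centralizer (S : Set G) := by
  have hP1S : P₁ ≤ S := hsup ▸ le_sup_left
  have hP2S : P₂ ≤ S := hsup ▸ le_sup_right
  have : Finite P₁ := Nat.finite_of_card_ne_zero (by rw [hP1c]; exact pow_ne_zero _ hr.out.ne_zero)
  -- `P₂` is central in `S`
  have hP2Z : P₂ ≤ centralizer (S : Set G) := by
    rw [Subgroup.le_centralizer_iff, ← hsup]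
    refine sup_le ?_ ?_
    · intro a ha
      rw [Subgroup.mem_centralizer_iff]
      intro b hb
      exact (hcomm a ha b hb).symm
    · intro b hb
      rw [Subgroup.mem_centralizer_iff]
      intro b' hb'
      have := mul_comm' (⟨b', hb'⟩ : P₂) ⟨b, hb⟩
      exact congrArg Subtype.val this
  have hP2N : P₂ ≤ normalizer (P₁ : Set G) := by
    apply Cfsg.Agent.Helper64.BG142End.le_normalizer_of_conj_mem
    intro b hb a ha
    have : b * a * b⁻¹ = a := by rw [← hcomm a ha b hb, mul_inv_cancel_right]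
    rw [this]; exact ha
  have hdec : ∀ x ∈ S, ∃ a ∈ P₁, ∃ b ∈ P₂, x = a * b := by
    intro x hx
    rw [← hsup] at hx
    exact Cfsg.Agent.Helper64.BG142End.mem_sup_decomp hP2N hx
  have hna : ∃ a b : P₁, a * b ≠ b * a := by
    by_contra hcon
    push Not at hcon
    exact hP1na ⟨⟨hcon⟩⟩
  -- commutators of `P₁` are central in `S`
  have hcc : ∀ a ∈ P₁, ∀ a' ∈ P₁, ⁅a, a'⁆ ∈ centralizer (S : Set G) := by
    intro a ha a' ha'
    have hc := Cfsg.Agent.Helper83.S1423Req.comm_mem_center_p3 (p := r) hP1c hna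
      (⟨a, ha⟩ : P₁) ⟨a', ha'⟩
    have hcP1 : ⁅a, a'⁆ ∈ P₁ := by
      rw [commutatorElement_def]
      exact P₁.mul_mem (P₁.mul_mem (P₁.mul_mem ha ha') (P₁.inv_mem ha)) (P₁.inv_mem ha')
    have hle : S ≤ centralizer ({⁅a, a'⁆} : Set G) := by
      rw [← hsup]
      refine sup_le ?_ ?_
      · intro s hs
        rw [Subgroup.mem_centralizer_singleton_iff]
        have h1 := (Subgroup.mem_center_iff.mp hc) (⟨s, hs⟩ : P₁)
        have h2 := congrArg Subtype.val h1
        simpa [commutatorElement_def] using h2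
      · intro b hb
        rw [Subgroup.mem_centralizer_singleton_iff]
        exact (hcomm _ hcP1 b hb).symm
    rw [Subgroup.mem_centralizer_iff]
    intro s hs
    exact Subgroup.mem_centralizer_singleton_iff.mp (hle hs)
  constructor
  · rw [Subgroup.commutator_le]
    intro x hx y hy
    refine Subgroup.mem_inf.mpr ⟨?_, ?_⟩
    · rw [commutatorElement_def]
      exact S.mul_mem (S.mul_mem (S.mul_mem hx hy) (S.inv_mem hx)) (S.inv_mem hy)
    · obtain ⟨a, ha, b, hb, rfl⟩ := hdec x hx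
      obtain ⟨a', ha', b', hb', rfl⟩ := hdec y hy
      have hbZ := Subgroup.mem_centralizer_iff.mp (hP2Z hb)
      have hb'Z := Subgroup.mem_centralizer_iff.mp (hP2Z hb')
      have e1 : ⁅a * b, a' * b'⁆ = ⁅a, a' * b'⁆ := by
        have h1 : (a' * b') * b = b * (a' * b') := hbZ _ hy
        have h2 : b * (a' * b') * b⁻¹ = a' * b' := by rw [← h1, mul_inv_cancel_right]
        rw [commutatorElement_def, commutatorElement_def]
        calc a * b * (a' * b') * (a * b)⁻¹ * (a' * b')⁻¹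
            = a * (b * (a' * b') * b⁻¹) * a⁻¹ * (a' * b')⁻¹ := by group
          _ = a * (a' * b') * a⁻¹ * (a' * b')⁻¹ := by rw [h2]
      have e2 : ⁅a, a' * b'⁆ = ⁅a, a'⁆ := by
        have h1 : a⁻¹ * b' = b' * a⁻¹ := hb'Z _ (S.inv_mem (hP1S ha))
        have h2 : b' * a⁻¹ * b'⁻¹ = a⁻¹ := by rw [← h1, mul_inv_cancel_right]
        rw [commutatorElement_def, commutatorElement_def]
        calc a * (a' * b') * a⁻¹ * (a' * b')⁻¹
            = a * a' * (b' * a⁻¹ * b'⁻¹) * a'⁻¹ := by group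
          _ = a * a' * a⁻¹ * a'⁻¹ := by rw [h2]
      rw [e1, e2]
      exact hcc a ha a' ha'
  · intro y hy
    obtain ⟨a, ha, b, hb, rfl⟩ := hdec y hy
    have hab : Commute a b := hcomm a ha b hb
    have har : a ^ r = 1 := by
      have h1 := Monoid.pow_exponent_eq_one (⟨a, ha⟩ : P₁)
      rw [hP1e] at h1
      have h2 := congrArg Subtype.val h1
      simpa using h2
    rw [hab.mul_pow, har, one_mul]
    have hbr : b ^ r ∈ P₂ := P₂.pow_mem hb r
    exact Subgroup.mem_inf.mpr ⟨hP2S hbr, hP2Z hbr⟩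

/-- the rank `≥ 3` case of `exists_T`, from S1453 on the type `↥S` -/
theorem exists_T_of_rank_three [Finite G] {r : ℕ} [hr : Fact r.Prime] (hr2 : r ≠ 2)
    (S : Subgroup G) (hS : IsPGroup r S) (hrk : ¬ PRankLE r 2 S)
    (A A0 : Subgroup G) (hAS : A ≤ S) (hA : IsElementaryAbelian r A)
    (hA2 : Nat.card A = r ^ 2)
    (hAmax : ∀ B : Subgroup G, B ≤ S → IsElementaryAbelian r B → A ≤ B → B = A)
    (hA0A : A0 ≤ A) (hA0 : Nat.card A0 = r)
    (hA0Z : ¬ S ≤ centralizer (A0 : Set G)) :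
    ∃ T : Subgroup G, T ≤ S ∧ normalizer (S : Set G) ≤ normalizer (T : Set G) ∧
      ⁅S, S⁆ ≤ T ∧ (∀ y ∈ S, y ^ r ∈ T) ∧ A0 ⊓ T = ⊥ ∧ S ≤ A0 ⊔ T := by
  classical
  have hrp : r.Prime := hr.out
  -- the data on the type `↥S`
  set E : Subgroup S := A.subgroupOf S with hEdef
  have hmemE : ∀ x : S, x ∈ E ↔ (x : G) ∈ A := fun x => Subgroup.mem_subgroupOf
  have hE : IsElementaryAbelian r E := by
    refine ⟨⟨⟨fun x y => ?_⟩⟩, ?_⟩
    · have := hA.1.is_comm.comm ⟨(x : S), (hmemE _).mp x.2⟩ ⟨(y : S), (hmemE _).mp y.2⟩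
      have h2 := congrArg Subtype.val this
      exact Subtype.ext (Subtype.ext h2)
    · intro a ha
      have := hA.2 (a : G) ((hmemE a).mp ha)
      exact Subtype.ext (by simpa using this)
  have hE2 : Nat.card E = r ^ 2 := by
    rw [← hA2]
    exact Nat.card_congr (Subgroup.subgroupOfEquivOfLe hAS).toEquiv
  have hEmax : ∀ B : Subgroup S, IsElementaryAbelian r B → E ≤ B → B = E := by
    intro B hB hEB
    have hB' : IsElementaryAbelian r (B.map S.subtype) := by
      refine ⟨⟨⟨fun x y => ?_⟩⟩, ?_⟩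
      · obtain ⟨x', hx', hxe⟩ := Subgroup.mem_map.mp x.2
        obtain ⟨y', hy', hye⟩ := Subgroup.mem_map.mp y.2
        have := hB.1.is_comm.comm ⟨x', hx'⟩ ⟨y', hy'⟩
        have h2 : (x' : G) * (y' : G) = (y' : G) * (x' : G) := by
          have h3 := congrArg (fun z : B => ((z : S) : G)) this
          simpa using h3
        apply Subtype.ext
        show (x : G) * (y : G) = (y : G) * (x : G)
        rw [← hxe, ← hye]
        exact h2
      · intro a ha
        obtain ⟨a', ha', rfl⟩ := Subgroup.mem_map.mp ha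
        have := hB.2 a' ha'
        have h2 := congrArg Subtype.val this
        simpa using h2
    have hAB : A ≤ B.map S.subtype := by
      intro a ha
      exact Subgroup.mem_map.mpr ⟨⟨a, hAS ha⟩, hEB ((hmemE _).mpr ha), rfl⟩
    have h1 := hAmax _ (Subgroup.map_subtype_le B) hB' hAB
    have h2 : (B.map S.subtype).subgroupOf S = B :=
      Subgroup.comap_map_eq_self_of_injective Subtype.coe_injective B
    rw [← h2, h1]
  obtain ⟨h1, h2, _, h4, h5⟩ := Cfsg.Agent.S1453.result r hr2 hS hrk E hE hE2 hEmax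
  set W' : Subgroup S :=
    Subgroup.closure {x : S | x ∈ Subgroup.upperCentralSeries S 2 ∧ x ^ r = 1} with hW'
  set Z' : Subgroup S := Subgroup.closure {x : S | x ∈ Subgroup.center S ∧ x ^ r = 1} with hZ'
  set T' : Subgroup S := Subgroup.centralizer (W' : Set S) with hT'
  have : T'.Characteristic := h4
  have : T'.Normal := Subgroup.normal_of_characteristic T'
  have hqcard : Nat.card (S ⧸ T') = r := by rw [← Subgroup.index_eq_card, h5]
  have : IsCyclic (S ⧸ T') := isCyclic_of_prime_card hqcard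
  have hcomm' : ∀ x y : S, ⁅x, y⁆ ∈ T' := by
    intro x y
    rw [← QuotientGroup.eq_one_iff]
    have : ((⁅x, y⁆ : S) : S ⧸ T') = ⁅(x : S ⧸ T'), (y : S ⧸ T')⁆ := by
      simp only [commutatorElement_def, QuotientGroup.mk_mul, QuotientGroup.mk_inv]
    rw [this, commutatorElement_eq_one_iff_commute]
    exact mul_comm' _ _
  have hpow' : ∀ y : S, y ^ r ∈ T' := by
    intro y
    rw [← QuotientGroup.eq_one_iff, QuotientGroup.mk_pow]
    have := pow_card_eq_one' (G := S ⧸ T') (x := (y : S ⧸ T'))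
    rwa [hqcard] at this
  -- `Z' ≤ T'` and `Z' ≤ E`
  have hZT : Z' ≤ T' := by
    rw [hZ', Subgroup.closure_le]
    rintro x ⟨hx, _⟩
    exact Subgroup.center_le_centralizer _ hx
  have hkey : ∀ x : S, x ^ r = 1 → (∀ y ∈ E, y * x = x * y) → x ∈ E := by
    intro x hx hxE
    have hK : IsElementaryAbelian r (Subgroup.zpowers x) := by
      refine ⟨inferInstance, ?_⟩
      intro a ha
      obtain ⟨k, rfl⟩ := Subgroup.mem_zpowers_iff.mp ha
      rw [← zpow_natCast, ← zpow_mul, mul_comm, zpow_mul, zpow_natCast, hx, one_zpow]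
    have hEK : E ≤ Subgroup.centralizer ((Subgroup.zpowers x : Subgroup S) : Set S) := by
      rw [Subgroup.le_centralizer_iff, Subgroup.zpowers_le]
      rw [Subgroup.mem_centralizer_iff]
      intro y hy
      exact hxE y hy
    have := hEmax _ (Cfsg.Agent.Helper24.RankThree.elemAb_sup hE hK hEK) le_sup_left
    rw [← this]
    exact Subgroup.mem_sup_right (Subgroup.mem_zpowers x)
  have hZE : Z' ≤ E := by
    rw [hZ', Subgroup.closure_le]
    rintro x ⟨hx, hx'⟩
    exact hkey x hx' (fun y _ => (Subgroup.mem_center_iff.mp hx) y)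
  have hZcen : Z' ≤ Subgroup.center S := by
    rw [hZ', Subgroup.closure_le]
    rintro x ⟨hx, _⟩
    exact hx
  -- `E ⊓ T' = Z'`
  have hET : E ⊓ T' = Z' := by
    apply Cfsg.Agent.Helper79.BG142Q7.eq_of_le_of_card_sq hrp hE2 h2 (le_inf hZE hZT) inf_le_left
    intro h
    exact h1 (h ▸ inf_le_right)
  have hTS : T'.map S.subtype ≤ S := Subgroup.map_subtype_le _
  have hbot : A0 ⊓ T'.map S.subtype = ⊥ := by
    rcases Cfsg.Agent.Helper79.BG142Q7.inf_eq_bot_or_le_of_card_prime hrp hA0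
        (B := T'.map S.subtype) with h | h
    · exact h
    · exfalso
      apply hA0Z
      rw [Subgroup.le_centralizer_iff]
      intro a ha
      obtain ⟨a', ha', hae⟩ := Subgroup.mem_map.mp (h ha)
      have hae' : (a' : G) = a := hae
      have haE : a' ∈ E := (hmemE a').mpr (by rw [hae']; exact hA0A ha)
      have hacen : a' ∈ Subgroup.center S := hZcen (hET ▸ Subgroup.mem_inf.mpr ⟨haE, ha'⟩)
      rw [Subgroup.mem_centralizer_iff]
      intro s hs
      have := (Subgroup.mem_center_iff.mp hacen) ⟨s, hs⟩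
      have h2 : s * (a' : G) = (a' : G) * s := congrArg Subtype.val this
      rw [← hae']
      exact h2
  refine ⟨T'.map S.subtype, hTS,
    Cfsg.Agent.Helper24.normalizer_le_normalizer_map_subtype_of_characteristic S T', ?_, ?_, hbot, ?_⟩
  · rw [Subgroup.commutator_le]
    intro x hx y hy
    exact Subgroup.mem_map.mpr ⟨⁅(⟨x, hx⟩ : S), ⟨y, hy⟩⁆, hcomm' _ _, rfl⟩
  · intro y hy
    exact Subgroup.mem_map.mpr ⟨(⟨y, hy⟩ : S) ^ r, hpow' _, rfl⟩
  · -- `S = A0 T` by index `r`
    have hcardT : Nat.card (T'.map S.subtype) * r = Nat.card S := by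
      have h := Subgroup.card_mul_index T'
      rw [h5] at h
      rw [← h, Subgroup.card_map_of_injective (Subgroup.subtype_injective S)]
    have hA0T : ¬ A0 ≤ T'.map S.subtype := by
      intro h
      have h3 : A0 ⊓ T'.map S.subtype = A0 := inf_eq_left.mpr h
      rw [hbot] at h3
      have h4 : Nat.card A0 = 1 := by rw [← h3]; exact Subgroup.card_bot
      rw [hA0] at h4
      exact hrp.one_lt.ne' h4
    have hK : T'.map S.subtype ≤ A0 ⊔ T'.map S.subtype := le_sup_right
    have hKS : A0 ⊔ T'.map S.subtype ≤ S := sup_le (hA0A.trans hAS) hTS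
    have hd1 : Nat.card (T'.map S.subtype) ∣ Nat.card (A0 ⊔ T'.map S.subtype : Subgroup G) :=
      Subgroup.card_dvd_of_le hK
    have hd2 : Nat.card (A0 ⊔ T'.map S.subtype : Subgroup G) ∣ Nat.card S :=
      Subgroup.card_dvd_of_le hKS
    obtain ⟨d, hd⟩ := hd1
    rw [hd, ← hcardT] at hd2
    have hTpos : 0 < Nat.card (T'.map S.subtype) := Nat.card_pos
    have hdr : d ∣ r := (Nat.mul_dvd_mul_iff_left hTpos).mp hd2
    rcases (Nat.dvd_prime hrp).mp hdr with h | h
    · exfalso
      have h3 : T'.map S.subtype = A0 ⊔ T'.map S.subtype :=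
        Subgroup.eq_of_le_of_card_ge hK (by rw [hd, h, mul_one])
      exact hA0T (h3 ▸ le_sup_left)
    · have h3 : A0 ⊔ T'.map S.subtype = S :=
        Subgroup.eq_of_le_of_card_ge hKS (by rw [hd, h, hcardT])
      exact h3.ge

/-- **the `T`-construction** for `Cfsg.Agent.Helper64.BG142End.configA_endgame`:
its hypotheses `hTS hST hTV hTc hTp hA0T h5`. -/
theorem exists_T [Finite G] (hG : IsMinSimpleOddOrder G) (r : ℕ) [hr : Fact r.Prime]
    (S : Sylow r G) (hSna : ¬ IsMulCommutative (S : Subgroup G))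
    (A A0 V : Subgroup G) (hAS : A ≤ (S : Subgroup G)) (hA : IsElementaryAbelian r A)
    (hA2 : Nat.card A = r ^ 2)
    (hAmax : ∀ B : Subgroup G, B ≤ (S : Subgroup G) → IsElementaryAbelian r B → A ≤ B → B = A)
    (hA0A : A0 ≤ A) (hA0 : Nat.card A0 = r)
    (hA0Z : ¬ (S : Subgroup G) ≤ centralizer (A0 : Set G))
    (hVS : V ≤ normalizer ((S : Subgroup G) : Set G))
    (hcop : (Nat.card V).Coprime (Nat.card (S : Subgroup G))) :
    ∃ T : Subgroup G, T ≤ (S : Subgroup G) ∧ (S : Subgroup G) ≤ normalizer (T : Set G) ∧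
      V ≤ normalizer (T : Set G) ∧ ⁅(S : Subgroup G), (S : Subgroup G)⁆ ≤ T ∧
      (∀ y ∈ (S : Subgroup G), y ^ r ∈ T) ∧ A0 ⊓ T = ⊥ ∧
      ((S : Subgroup G) ≤ A0 ⊔ T ∨ ⁅V, V⁆ ≤ centralizer ((S : Subgroup G) : Set G)) := by
  classical
  have hrp : r.Prime := hr.out
  have hrS : r ∣ Nat.card (S : Subgroup G) := by
    have h := Subgroup.card_dvd_of_le (hA0A.trans hAS)
    rwa [hA0] at h
  have hS1 : (S : Subgroup G) ≠ ⊥ := by
    intro h
    rw [h, Subgroup.card_bot] at hrS
    exact hrp.one_lt.ne' (Nat.dvd_one.mp hrS)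
  have hr2 : r ≠ 2 := by
    rintro rfl
    have h2 : 2 ∣ Nat.card G := hrS.trans (Subgroup.card_subgroup_dvd_card _)
    exact (Nat.not_even_iff_odd.mpr hG.1) (even_iff_two_dvd.mpr h2)
  have hVr : (Nat.card V).Coprime r := Nat.Coprime.coprime_dvd_right hrS hcop
  by_cases hrk : PRankLE r 2 (S : Subgroup G)
  · -- rank at most 2
    rcases Cfsg.Agent.S1412.result hG r S hrk with hab | ⟨P₁, P₂, hsup, hcomm, hP1na, hP1c, hP1e, hP2c, _⟩
    · exact absurd hab hSna
    obtain ⟨hc1, hc2⟩ := exists_T_of_decomp (r := r) (S : Subgroup G) P₁ P₂ hsup hcomm hP1na hP1c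
      hP1e hP2c
    have hNZ := normalizer_le_normalizer_center (S : Subgroup G)
    refine ⟨(S : Subgroup G) ⊓ centralizer ((S : Subgroup G) : Set G), inf_le_left,
      Subgroup.le_normalizer.trans hNZ, hVS.trans hNZ, hc1, hc2, ?_, Or.inr ?_⟩
    · rcases Cfsg.Agent.Helper79.BG142Q7.inf_eq_bot_or_le_of_card_prime hrp hA0
          (B := (S : Subgroup G) ⊓ centralizer ((S : Subgroup G) : Set G)) with h | h
      · exact h
      · exfalso
        apply hA0Z
        rw [Subgroup.le_centralizer_iff]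
        exact h.trans inf_le_right
    · have hNtop : normalizer ((S : Subgroup G) : Set G) ≠ ⊤ :=
        Cfsg.Agent.Helper45.CNSimple.normalizer_ne_top hG S.isPGroup' hS1
      have hVtop : V ≠ ⊤ := by
        rintro rfl
        exact hNtop (top_le_iff.mp hVS)
      have hVs : Group.IsSolvable V := hG.2.2.2 V hVtop
      have hVodd : Odd (Nat.card V) := Odd.of_dvd_nat hG.1 (Subgroup.card_subgroup_dvd_card V)
      have hcop' : ¬ r ∣ (V ⊓ centralizer ((S : Subgroup G) : Set G)).relIndex V := by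
        intro h
        have h2 : r ∣ Nat.card V := h.trans (Subgroup.relIndex_dvd_card _ _)
        have h3 : r ∣ Nat.gcd (Nat.card V) r := Nat.dvd_gcd h2 dvd_rfl
        rw [hVr] at h3
        exact hrp.one_lt.ne' (Nat.dvd_one.mp h3)
      have hc := Cfsg.Agent.Helper71.BG142.commutator_mem_centralizer_of_rank_two hr2
        (S : Subgroup G) V S.isPGroup' hrk hVS hVs hVodd hcop'
      rw [Subgroup.commutator_le]
      intro x hx y hy
      exact hc x hx y hy
  · -- rank at least 3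
    obtain ⟨T, hTS, hNT, hc1, hc2, hbot, hsup⟩ := exists_T_of_rank_three hr2 (S : Subgroup G)
      S.isPGroup' hrk A A0 hAS hA hA2 hAmax hA0A hA0 hA0Z
    exact ⟨T, hTS, Subgroup.le_normalizer.trans hNT, hVS.trans hNT, hc1, hc2, hbot, Or.inl hsup⟩

end Cfsg.Agent.Helper79.BG142L4
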