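import Mathlib
import Cfsg.Agent.S1350
import Cfsg.Agent.S1408
import Cfsg.Agent.S1411
import Cfsg.Agent.S1413
import Cfsg.Agent.S1414
import Cfsg.Agent.Lib.Helper64.BG142End
import Cfsg.Agent.Lib.Helper71.BG142L4d
import Cfsg.Agent.Lib.Helper79.BG142L4T
import Cfsg.Agent.Lib.Helper79.BG142L4M

/-!
# BG 14.2, (L4): the CONFIG A kill `configA_false` (assembly, helper79)

Paper proof: helper51, board #2607.  Pieces: helper71 (step (1): `omega_center_line`,
`exists_invariant_sylow_of_line`), helper79 (steps (2)+(3): `normalizer_A0_eq_of_h28`; the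
`T`-construction `exists_T`), helper64 (steps (4)-(6): `configA_endgame`).
The row S1428 enters as the explicit hypothesis `h28` (its verbatim statement for `G`); all other
rows are imported.
-/

set_option autoImplicit false
set_option linter.style.haveILetI false
set_option linter.unusedSectionVars false

namespace Cfsg.Agent.Helper79.BG142L4

open Cfsg Subgroup Cfsg.Agent.Helper52 Cfsg.Agent.Helper15.BGU Cfsg.Agent.Helper55.BGB
  Cfsg.Agent.Helper15.BGV Cfsg.Agent.Helper79.BG142Q7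

variable {G : Type*} [Group G] [Finite G]

/-- **(L4) CONFIG A is impossible.** -/
theorem configA_false (hG : IsMinSimpleOddOrder G)
    (h28 : ∀ (M : Subgroup G) (_ : IsCoatom M) (E : Subgroup G)
      (_ : Cfsg.IsComplIn E (Cfsg.sigmaCore M) M) (p : ℕ) (_ : p ∈ Cfsg.tau1 M) (P : Subgroup G)
      (_ : P ≤ E) (_ : Nat.card P = p) (R : Subgroup G)
      (_ : R ≤ E ⊓ Subgroup.centralizer (P : Set G)) (_ : (Nat.card R).Prime),
      Cfsg.sigmaCore M ⊓ Subgroup.centralizer (P : Set G) ≤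
        Cfsg.sigmaCore M ⊓ Subgroup.centralizer (R : Set G))
    (M : Subgroup G) (hM : IsCoatom M) (E : Subgroup G) (hE : IsComplIn E (sigmaCore M) M)
    (r p : ℕ) [hr' : Fact r.Prime] [hp' : Fact p.Prime] (hr : r ∈ tau2 M)
    (hS : ∀ S : Sylow r G, ¬ IsMulCommutative (S : Subgroup G))
    (A : Subgroup G) (hA : A ≤ E ∧ IsElementaryAbelian r A ∧ Nat.card A = r ^ 2)
    (hp : p ∈ tau1 M) (X : Subgroup G) (hXE : X ≤ E) (hX : Nat.card X = p)
    (hC : sigmaCore M ⊓ centralizer (X : Set G) ≠ ⊥)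
    (hXA0 : X ≤ centralizer ((A ⊓ centralizer (sigmaCore M : Set G) : Subgroup G) : Set G))
    (hXA : ¬ X ≤ centralizer (A : Set G)) : False := by
  classical
  have hrp : r.Prime := hr'.out
  have hpp : p.Prime := hp'.out
  have hEM : E ≤ M := hE.1
  have hA' := hA
  obtain ⟨hAE, hAe, hAc⟩ := hA
  have hAM : A ≤ M := hAE.trans hEM
  have hAp : IsPGroup r A := isPGroup_of_isElementaryAbelian hAe
  obtain ⟨-, ⟨h19b, -⟩, -⟩ := Cfsg.Agent.S1419.result hG M hM E hE r hr hS A hA'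
  obtain ⟨⟨h18a, -⟩, ⟨h18b1, -, h18b3⟩, -⟩ := Cfsg.Agent.S1418.result hG M hM E hE r hr A hA'
  have h17 := Cfsg.Agent.S1417.result hG M hM r hr A ⟨hAM, hAe, hAc⟩
  have h08 := Cfsg.Agent.S1408.result hG M hM r hr.2.1 hr.2.2.1 hr.2.2.2
  have hmax : ∀ B : Subgroup G, IsElementaryAbelian r B → A ≤ B → B = A :=
    h08.2 A hAM hAe hAc
  have hpr : p ≠ r := by
    rintro rfl
    exact hr.2.2.2 hp.2.2.2.2
  -- steps (2)+(3)
  obtain ⟨hNM, hMC⟩ := normalizer_A0_eq_of_h28 hG M hM E hE (h28 M hM E hE) r p hr hS A hA' hp X hXE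
    hX hC hXA0 hXA
  generalize hA0def : A ⊓ centralizer (sigmaCore M : Set G) = A0 at h19b hXA0 hNM hMC
  have hA0A : A0 ≤ A := hA0def ▸ inf_le_left
  -- `A ∩ C(X) = A0`
  have hX1 : X ≠ ⊥ := ne_bot_of_card_prime hX
  have hcopXr : (Nat.card X).Coprime r := by
    rw [hX]; exact (Nat.coprime_primes hpp hrp).mpr hpr
  have hfaithX : X ⊓ centralizer (A : Set G) = ⊥ := by
    rcases inf_eq_bot_or_le_of_card_prime (B := centralizer (A : Set G)) hpp hX with h | h
    · exact h
    · exact absurd h hXA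
  obtain ⟨hAX, -⟩ := line_structure_comm hAe hAc hA0A h19b (hXE.trans h18a) hXA0 hcopXr hfaithX hX1
  -- step (1)
  obtain ⟨S', hAS'⟩ := hAp.exists_le_sylow
  obtain ⟨hZc, hZA, -, hNAZ⟩ := Cfsg.Agent.Helper71.BG142L4.omega_center_line hG M hM r A A0 S'
    hAe hAc hAS' (hS S') hmax (Cfsg.Agent.S1413.result hG r S').2.2 (fun P => (h17.2.1 P).1)
    (h18b1.trans inf_le_left) h18b3 hA0A h19b (hMC.trans (centralizer_le_normalizer _))
  obtain ⟨S, V, L, hAS, hXS, hXV, hcompl, -, -, -, -, -⟩ :=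
    Cfsg.Agent.Helper71.BG142L4.exists_invariant_sylow_of_line hG r p hpr A X
      (Cfsg.Agent.Helper71.BG142L4.omegaCenter r (S' : Subgroup G)) S' hAe hAc hAS'
      (ne_bot_of_card_prime hZc) hZA
      (Cfsg.Agent.Helper71.BG142L4.normalizer_le_normalizer_omegaCenter r (S' : Subgroup G)) hNAZ
      h08.1 (fun L hL => (Cfsg.Agent.S1350.result hG L hL).1)
      (fun L hL hd hb => ((Cfsg.Agent.S1414.result hG L hL).2.2.2.2 r hrp hd hb).2.1)
      (hXE.trans h18a) hX hXA
  -- the endgame data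
  have hSp : IsPGroup r (S : Subgroup G) := S.isPGroup'
  have hVS : V ≤ normalizer ((S : Subgroup G) : Set G) := hcompl.2.1
  have hcop : (Nat.card V).Coprime (Nat.card (S : Subgroup G)) := by
    have h1 := Cfsg.Agent.Helper78.BG121.card_eq_of_isComplIn hcompl
    have h2 : Nat.card (S : Subgroup G) = r ^ (Nat.card G).factorization r :=
      S.card_eq_multiplicity
    have h3 : ¬ r ∣ Nat.card V := by
      intro hd
      have h4 : r ^ ((Nat.card G).factorization r + 1) ∣ Nat.card G := by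
        rw [pow_succ, ← h2]
        calc Nat.card (S : Subgroup G) * r ∣ Nat.card (S : Subgroup G) * Nat.card V :=
              mul_dvd_mul_left _ hd
          _ = Nat.card (normalizer ((S : Subgroup G) : Set G)) := h1.symm
          _ ∣ Nat.card G := Subgroup.card_subgroup_dvd_card _
      exact Nat.pow_succ_factorization_not_dvd Nat.card_pos.ne' hrp h4
    rw [h2]
    exact Nat.Coprime.pow_right _ ((Nat.Prime.coprime_iff_not_dvd hrp).mpr h3).symm
  have hSV : (S : Subgroup G) ≤ ⁅(S : Subgroup G), V⁆ :=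
    le_of_eq (Cfsg.Agent.S1411.result hG r S V hcompl).1
  -- the `P0`-facts
  have hCA0M : centralizer (A0 : Set G) ≤ M := by
    rw [← hNM]; exact centralizer_le_normalizer _
  have hP0M : (S : Subgroup G) ⊓ centralizer (A0 : Set G) ≤ M := inf_le_right.trans hCA0M
  have hAC0 : A ≤ centralizer (A0 : Set G) := by
    intro a ha
    rw [mem_centralizer_iff]
    intro b hb
    exact Cfsg.Agent.Helper34.BG.commute_of_isElementaryAbelian hAe (hA0A hb) ha
  obtain ⟨P, hP0P⟩ := exists_sylow_ge (hSp.to_le inf_le_left) hP0M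
  obtain ⟨hPcomm, hPA⟩ := h17.2.1 P
  have hAP : A ≤ (P : Subgroup M).map M.subtype := (le_inf hAS hAC0).trans hP0P
  have hP0c : ∀ x ∈ (S : Subgroup G) ⊓ centralizer (A0 : Set G),
      ∀ y ∈ (S : Subgroup G) ⊓ centralizer (A0 : Set G), x * y = y * x := by
    intro x hx y hy
    obtain ⟨u, hu, rfl⟩ := hP0P hx
    obtain ⟨v, hv, rfl⟩ := hP0P hy
    have h3 := hPcomm.is_comm.comm (⟨u, hu⟩ : ↥(P : Subgroup M)) ⟨v, hv⟩
    have h4 := congrArg Subtype.val h3
    have h5 := congrArg Subtype.val h4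
    simpa using h5
  have hP0o : ∀ x ∈ (S : Subgroup G) ⊓ centralizer (A0 : Set G), x ^ r = 1 → x ∈ A :=
    fun x hx hxr => ((hPA hAP).1 x (hP0P hx)).mp hxr
  have hN : ∀ v ∈ V, v ∈ normalizer (A0 : Set G) → v ∈ centralizer (A0 : Set G) := by
    intro v _ hv
    rw [hNM] at hv
    exact hMC hv
  have hA0Z : ¬ (S : Subgroup G) ≤ centralizer (A0 : Set G) := by
    intro h
    apply hS S
    refine ⟨⟨fun x y => Subtype.ext ?_⟩⟩
    exact hP0c x (mem_inf.mpr ⟨x.2, h x.2⟩) y (mem_inf.mpr ⟨y.2, h y.2⟩)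
  obtain ⟨T, hTS, hST, hTV, hTc, hTp, hA0T, h5⟩ := exists_T hG r S (hS S) A A0 V hAS hAe hAc
    (fun B _ hB hAB => hmax B hB hAB) hA0A h19b hA0Z hVS hcop
  exact Cfsg.Agent.Helper64.BG142End.configA_endgame r (S : Subgroup G) V X A A0 T hSp hVS hcop hSV
    hXV hAS hA0A h19b hXA0 (le_of_eq hAX) hP0c hP0o hN hTS hST hTV hTc hTp hA0T h5

end Cfsg.Agent.Helper79.BG142L4
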