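import Mathlib
import Cfsg.Agent.S1428
import Cfsg.Agent.Lib.Helper79.BG142Q7b
import Cfsg.Agent.Lib.Helper79.BG142L4

/-!
# Request (Q7) of helper54's BG142 server (B–G 14.2, lemma (L6) = "(3d)"), verbatim statement

`X` of prime order `p`, `p`-rank of `M` equal to one, `p ∉ σ(M)`, with a fixed point on `M_σ`, lies
in `H_σ` for every maximal `H` over `N_G(X)`.  Core: `Cfsg.Agent.Helper79.BG142Q7.core`; the
CONFIG A kill (L4): `Cfsg.Agent.Helper79.BG142L4.configA_false` (with S1428 imported here).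
-/

set_option autoImplicit false

namespace Cfsg.Agent.Helper79.BG142Req

open Subgroup

variable {G : Type*} [Group G] [Finite G]

/-- (L4) CONFIG A kill, hypothesis-free form (`ConfigAKill G` of `BG142Q7b`). -/
theorem configAKill (hG : Cfsg.IsMinSimpleOddOrder G) : Cfsg.Agent.Helper79.BG142Q7.ConfigAKill G :=
  fun M hM E hE r p _ _ hr hS A hA hp X hXE hX hC hXA0 hXA =>
    Cfsg.Agent.Helper79.BG142L4.configA_false hG
      (fun M hM E hE p hp P hPE hP R hRE hR =>
        Cfsg.Agent.S1428.result hG M hM E hE p hp P hPE hP R hRE hR)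
      M hM E hE r p hr hS A hA hp X hXE hX hC hXA0 hXA

/-- (Q7) = (L6) = '(3d)'. -/
theorem le_sigmaCore_of_normalizer_le (hG : Cfsg.IsMinSimpleOddOrder G) (M : Subgroup G)
    (hM : IsCoatom M) (p : ℕ) (hp : p.Prime) (hpσ : p ∉ Cfsg.sigma M) (hr : Cfsg.PRankLE p 1 M)
    (X : Subgroup G) (hXM : X ≤ M) (hX : Nat.card X = p)
    (hC : Cfsg.sigmaCore M ⊓ centralizer (X : Set G) ≠ ⊥) (H : Subgroup G) (hH : IsCoatom H)
    (hNH : normalizer (X : Set G) ≤ H) :
    X ≤ Cfsg.sigmaCore H :=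
  Cfsg.Agent.Helper79.BG142Q7.core hG (configAKill hG) M hM p hp hpσ hr X hXM hX hC H hH hNH

end Cfsg.Agent.Helper79.BG142Req
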