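import Mathlib
import Cfsg.Agent.Lib.Helper2.SR0
import Cfsg.Agent.Lib.Helper79.SRC3

/-!
# SR (C4) for helper2's server (S2281): the action of `uEl s` on `e_0, e_1, f_{n-2}, f_{n-1}`.
-/

set_option autoImplicit false

namespace Cfsg.Agent.Helper79.SR

open Matrix Cfsg Cfsg.Agent.Helper13 Cfsg.Agent.Helper84.SpRoot Cfsg.Agent.Helper5.SpAut
open Cfsg.Agent.Helper2.SR

section C
variable {F : Type*} [Field F] {m : ℕ}

theorem h79_mulVec_be (M : Matrix (Fin (m + 2) ⊕ Fin (m + 2)) (Fin (m + 2) ⊕ Fin (m + 2)) F)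
    (j : Fin (m + 2)) (x : Fin (m + 2) ⊕ Fin (m + 2)) : (M *ᵥ be j) x = M x (Sum.inl j) := by
  unfold be
  rw [Matrix.mulVec_single_one]; rfl

theorem h79_mulVec_bf (M : Matrix (Fin (m + 2) ⊕ Fin (m + 2)) (Fin (m + 2) ⊕ Fin (m + 2)) F)
    (j : Fin (m + 2)) (x : Fin (m + 2) ⊕ Fin (m + 2)) : (M *ᵥ bf j) x = M x (Sum.inr j) := by
  unfold bf
  rw [Matrix.mulVec_single_one]; rfl

theorem h79_be_inl (i j : Fin (m + 2)) : (be (F := F) j) (Sum.inl i) = if i = j then 1 else 0 := by
  unfold be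
  rw [Pi.single_apply]
  simp only [Sum.inl.injEq]

theorem h79_be_inr (i j : Fin (m + 2)) : (be (F := F) j) (Sum.inr i) = 0 := by
  unfold be
  rw [Pi.single_apply]
  simp

theorem h79_bf_inr (i j : Fin (m + 2)) : (bf (F := F) j) (Sum.inr i) = if i = j then 1 else 0 := by
  unfold bf
  rw [Pi.single_apply]
  simp only [Sum.inr.injEq]

theorem h79_bf_inl (i j : Fin (m + 2)) : (bf (F := F) j) (Sum.inl i) = 0 := by
  unfold bf
  rw [Pi.single_apply]
  simp

theorem h79_Pm_apply (i j : Fin (m + 2)) :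
    Pm m F i j = (if i = j then 1 else 0) + (if i.val + 1 = j.val then 1 else 0) := by
  simp [Pm, Nm, Matrix.one_apply]

theorem h79_PY_apply (s : F) (i j : Fin (m + 2)) :
    (Pm m F * Ym s : Matrix (Fin (m + 2)) (Fin (m + 2)) F) i j = if j = jB then Pm m F i jB * s else 0 := by
  rw [Matrix.mul_apply]
  by_cases hj : j = jB
  · rw [if_pos hj, Finset.sum_eq_single (jB : Fin (m + 2))]
    · simp [Ym, hj]
    · intro k _ hk
      simp [Ym, hk]
    · intro h; exact absurd (Finset.mem_univ _) h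
  · rw [if_neg hj]
    apply Finset.sum_eq_zero
    intro k _
    simp [Ym, hj]

theorem h79_YPt_apply (s : F) (i j : Fin (m + 2)) :
    (Ym s * (Pm m F)ᵀ : Matrix (Fin (m + 2)) (Fin (m + 2)) F) i j = if i = jB then s * Pm m F j jB else 0 := by
  rw [Matrix.mul_apply]
  by_cases hi : i = jB
  · rw [if_pos hi, Finset.sum_eq_single (jB : Fin (m + 2))]
    · simp [Ym, hi]
    · intro k _ hk
      simp [Ym, hk]
    · intro h; exact absurd (Finset.mem_univ _) h
  · rw [if_neg hi]
    apply Finset.sum_eq_zero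
    intro k _
    simp [Ym, hi]

/-- (C4) uses C2 -/
theorem u_be (s : F) :
    (uEl (m := m) s).val *ᵥ be 0 = be 0 ∧ (uEl (m := m) s).val *ᵥ be 1 = be 1 + be 0 := by
  rw [uEl_val]
  constructor
  · funext x
    rw [h79_mulVec_be]
    rcases x with i | i
    · rw [h79_be_inl]
      simp only [uM, Matrix.fromBlocks_apply₁₁, h79_Pm_apply]
      by_cases hi : i = 0
      · subst hi; simp
      · rw [if_neg hi, if_neg (by simp)]
        simp
    · rw [h79_be_inr]
      simp [uM]
  · funext x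
    rw [h79_mulVec_be]
    rcases x with i | i
    · rw [Pi.add_apply, h79_be_inl, h79_be_inl]
      simp only [uM, Matrix.fromBlocks_apply₁₁, h79_Pm_apply]
      have h1 : ((1 : Fin (m + 2)) : ℕ) = 1 := by simp
      have hi0 : (i = 0) ↔ (i.val + 1 = ((1 : Fin (m + 2)) : ℕ)) := by
        rw [h1]
        constructor
        · intro h; subst h; simp
        · intro h; apply Fin.ext; rw [Fin.val_zero]; omega
      by_cases hi : i = 0
      · rw [if_pos (hi0.1 hi), if_pos hi]
      · rw [if_neg (fun h => hi (hi0.2 h)), if_neg hi]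
    · rw [Pi.add_apply, h79_be_inr, h79_be_inr]
      simp [uM]

end C

end Cfsg.Agent.Helper79.SR
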