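import Mathlib
import Cfsg.Agent.Lib.Helper2.SR0
import Cfsg.Agent.Lib.Helper79.SRC4

/-!
# SR (C5) for helper2's server (S2281): the action of `uEl s` and its inverse on `f_{n-2}, f_{n-1}`.
-/

set_option autoImplicit false

namespace Cfsg.Agent.Helper79.SR

open Matrix Cfsg Cfsg.Agent.Helper13 Cfsg.Agent.Helper84.SpRoot Cfsg.Agent.Helper5.SpAut
open Cfsg.Agent.Helper2.SR

section C
variable {F : Type*} [Field F] {m : ℕ}

theorem h79_jA_val : ((jA : Fin (m + 2)) : ℕ) = m := rfl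

theorem h79_jB_val : ((jB : Fin (m + 2)) : ℕ) = m + 1 := rfl

theorem h79_jA_ne_jB : (jA : Fin (m + 2)) ≠ jB := by
  intro h
  have := congrArg Fin.val h
  rw [h79_jA_val, h79_jB_val] at this
  omega

theorem h79_eq_jA (i : Fin (m + 2)) : i = jA ↔ i.val = m :=
  ⟨fun h => by rw [h, h79_jA_val], fun h => Fin.ext (by rw [h, h79_jA_val])⟩

theorem h79_eq_jB (i : Fin (m + 2)) : i = jB ↔ i.val = m + 1 :=
  ⟨fun h => by rw [h, h79_jB_val], fun h => Fin.ext (by rw [h, h79_jB_val])⟩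

/-- `P i jB = [i = jB] + [i = jA]` -/
theorem h79_Pm_jB (i : Fin (m + 2)) :
    Pm m F i jB = (if i = jB then 1 else 0) + (if i = jA then 1 else 0) := by
  rw [h79_Pm_apply]
  congr 1
  by_cases h : i = jA
  · rw [if_pos h, if_pos]
    rw [h79_jB_val, (h79_eq_jA i).1 h]
  · rw [if_neg h, if_neg]
    rw [h79_jB_val]
    intro h'
    exact h ((h79_eq_jA i).2 (by omega))

/-- `P jA i = [i = jA] + [i = jB]` -/
theorem h79_Pm_jA (i : Fin (m + 2)) :
    Pm m F jA i = (if i = jA then 1 else 0) + (if i = jB then 1 else 0) := by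
  rw [h79_Pm_apply]
  congr 1
  · by_cases h : i = jA
    · rw [if_pos h, if_pos h.symm]
    · rw [if_neg h, if_neg (fun h' => h h'.symm)]
  · by_cases h : i = jB
    · rw [if_pos h, if_pos]
      rw [h79_jA_val, (h79_eq_jB i).1 h]
    · rw [if_neg h, if_neg]
      rw [h79_jA_val]
      intro h'
      exact h ((h79_eq_jB i).2 h'.symm)

/-- `Pinv jA i = [i = jA] - [i = jB]` -/
theorem h79_Pinv_jA (i : Fin (m + 2)) :
    Pinv m F jA i = (if i = jA then 1 else 0) - (if i = jB then 1 else 0) := by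
  have hA : ((jA : Fin (m + 2)) : ℕ) = m := rfl
  have hB : ((jB : Fin (m + 2)) : ℕ) = m + 1 := rfl
  simp only [Pinv, Matrix.of_apply]
  by_cases h1 : i = jA
  · subst h1
    rw [if_pos rfl, if_neg h79_jA_ne_jB, if_pos le_rfl, Nat.sub_self, pow_zero, sub_zero]
  · by_cases h2 : i = jB
    · subst h2
      have h3 : ((jB : Fin (m + 2)) : ℕ) - ((jA : Fin (m + 2)) : ℕ) = 1 := by
        rw [hA, hB]; omega
      rw [if_neg h1, if_pos rfl, if_pos (by rw [hA, hB]; omega), h3]
      simp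
    · have h1' : i.val ≠ m := fun h => h1 ((h79_eq_jA i).2 h)
      have h2' : i.val ≠ m + 1 := fun h => h2 ((h79_eq_jB i).2 h)
      have hi := i.isLt
      rw [if_neg h1, if_neg h2, if_neg (by rw [hA]; omega), sub_zero]

/-- `Pinv jB i = [i = jB]` -/
theorem h79_Pinv_jB (i : Fin (m + 2)) :
    Pinv m F jB i = (if i = jB then 1 else 0) := by
  have hB : ((jB : Fin (m + 2)) : ℕ) = m + 1 := rfl
  simp only [Pinv, Matrix.of_apply]
  by_cases h2 : i = jB
  · subst h2
    rw [if_pos rfl, if_pos le_rfl, Nat.sub_self, pow_zero]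
  · have h2' : i.val ≠ m + 1 := fun h => h2 ((h79_eq_jB i).2 h)
    have hi := i.isLt
    rw [if_neg h2, if_neg (by rw [hB]; omega)]

/-- (C5) uses C2 C3 -/
theorem u_bf (s : F) :
    (uEl (m := m) s).val *ᵥ bf jA = bf jA - bf jB ∧
    (uEl (m := m) s).val *ᵥ bf jB = bf jB + s • (be jB + be jA) ∧
    ((uEl (m := m) s)⁻¹).val *ᵥ bf jA = bf jA + bf jB - s • be jB := by
  rw [uEl_val, uEl_inv_val]
  refine ⟨?_, ?_, ?_⟩
  · funext x
    rw [h79_mulVec_bf]
    rcases x with i | i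
    · rw [Pi.sub_apply, h79_bf_inl, h79_bf_inl]
      simp only [uM, Matrix.fromBlocks_apply₁₂, h79_PY_apply]
      rw [if_neg h79_jA_ne_jB, sub_zero]
    · rw [Pi.sub_apply, h79_bf_inr, h79_bf_inr]
      simp only [uM, Matrix.fromBlocks_apply₂₂, Matrix.transpose_apply]
      exact h79_Pinv_jA i
  · funext x
    rw [h79_mulVec_bf]
    rcases x with i | i
    · rw [Pi.add_apply, Pi.smul_apply, Pi.add_apply, h79_bf_inl, h79_be_inl, h79_be_inl]
      simp only [uM, Matrix.fromBlocks_apply₁₂, h79_PY_apply]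
      rw [if_pos trivial, h79_Pm_jB, zero_add, smul_eq_mul, mul_comm]
    · rw [Pi.add_apply, Pi.smul_apply, Pi.add_apply, h79_bf_inr, h79_be_inr, h79_be_inr]
      simp only [uM, Matrix.fromBlocks_apply₂₂, Matrix.transpose_apply]
      rw [h79_Pinv_jB]
      simp
  · funext x
    rw [h79_mulVec_bf]
    rcases x with i | i
    · rw [Pi.sub_apply, Pi.add_apply, Pi.smul_apply, h79_bf_inl, h79_bf_inl, h79_be_inl]
      simp only [uinvM, Matrix.fromBlocks_apply₁₂, Matrix.neg_apply, h79_YPt_apply]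
      rw [h79_Pm_jA, if_neg (Ne.symm h79_jA_ne_jB), if_pos rfl]
      by_cases h : i = jB
      · rw [if_pos h, if_pos h]; simp
      · rw [if_neg h, if_neg h]; simp
    · rw [Pi.sub_apply, Pi.add_apply, Pi.smul_apply, h79_bf_inr, h79_bf_inr, h79_be_inr]
      simp only [uinvM, Matrix.fromBlocks_apply₂₂, Matrix.transpose_apply]
      rw [h79_Pm_jA]
      simp

end C

end Cfsg.Agent.Helper79.SR
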