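import Mathlib
import Cfsg.Prelude.Def_DegreeGraph
import Cfsg.Agent.Lib.Helper79.Inflation
import Cfsg.Agent.Lib.Helper79.Coprime.OneChar

/-!
# DG2 server (helper89, S4811), piece (GT): `gallagher_deg`

Gallagher: if `χ_K` is irreducible and `β ∈ Irr(G/K)` then `β χ ∈ Irr(G)`, of degree `β(1) χ(1)`.
-/

set_option autoImplicit false

namespace Cfsg.Agent.Helper79.DG2

open Cfsg

universe u

theorem dg2gt_charDegree_eq {G : Type u} [Group G] {f : G → ℂ} (n : ℕ) (h : f 1 = (n : ℂ)) :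
    charDegree f = n := by
  unfold charDegree
  rw [h, Complex.natCast_re, Nat.floor_natCast]

/-- (GT) Gallagher: if `χ_K` is irreducible and `β ∈ Irr(G/K)` then `β χ ∈ Irr(G)`, of degree
`β(1) χ(1)`. -/
theorem gallagher_deg {G : Type u} [Group G] [Finite G] (K : Subgroup G) [K.Normal]
    (χ : IrrCharacter G) (hχ : IsIrrCharacter K (fun k : K => (χ : G → ℂ) k))
    (β : IrrCharacter (G ⧸ K)) :
    ∃ ψ : IrrCharacter G, charDegree (ψ : G → ℂ) = charDegree (β : G ⧸ K → ℂ) * charDegree (χ : G → ℂ) := by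
  classical
  have : Fintype G := Fintype.ofFinite G
  have : Fintype K := Fintype.ofFinite K
  have hirr := Cfsg.Agent.Helper79.Cop.irr_mul_of_le_ker K inferInstance χ
    (Cfsg.Agent.Helper79.inflate K β) hχ (Cfsg.Agent.Helper79.le_irrKer_inflate K β)
  refine ⟨⟨_, hirr⟩, ?_⟩
  have h1 := (Cfsg.Agent.Helper79.irr_one_eq (Cfsg.Agent.Helper79.inflate K β)).1
  have h2 := (Cfsg.Agent.Helper79.irr_one_eq χ).1
  have h3 : ((Cfsg.Agent.Helper79.inflate K β : G → ℂ) * (χ : G → ℂ)) 1 =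
      ((charDegree (β : G ⧸ K → ℂ) * charDegree (χ : G → ℂ) : ℕ) : ℂ) := by
    rw [Pi.mul_apply, h1, h2, Cfsg.Agent.Helper79.charDegree_inflate]
    push_cast
    rfl
  exact dg2gt_charDegree_eq _ h3

/-- (INF) inflation: an irreducible character of `G ⧸ K` gives one of `G` of the same degree (bonus,
same statement as the server's `inflate_deg`). -/
theorem inflate_deg {G : Type u} [Group G] [Finite G] (K : Subgroup G) [K.Normal]
    (β : IrrCharacter (G ⧸ K)) :
    ∃ ψ : IrrCharacter G, charDegree (ψ : G → ℂ) = charDegree (β : G ⧸ K → ℂ) :=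
  ⟨Cfsg.Agent.Helper79.inflate K β, Cfsg.Agent.Helper79.charDegree_inflate K β⟩

end Cfsg.Agent.Helper79.DG2
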