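import Cfsg.Agent.Lib.Helper79.Restrict
import Cfsg.Agent.Lib.Helper79.Inflation

set_option autoImplicit false
set_option linter.unusedSectionVars false
set_option linter.style.haveILetI false

namespace Cfsg.Agent.Helper79

open Module
open scoped ComplexConjugate

universe u v

section Scalar

variable {G : Type v} [Group G] [Fintype G] {V : Type u} [AddCommGroup V] [Module ℂ V]
  [FiniteDimensional ℂ V]

/-- an element whose image commutes with the whole image acts as a scalar of absolute value one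
in an irreducible representation -/
theorem scalar_of_commute (ρ : Representation ℂ G V) [ρ.IsIrreducible] (z : G)
    (hz : ∀ g : G, ρ z ∘ₗ ρ g = ρ g ∘ₗ ρ z) :
    ∃ l : ℂ, ρ z = l • (1 : Module.End ℂ V) ∧ conj l * l = 1 := by
  have hnt := nontrivial_of_irreducible ρ
  obtain ⟨l, hl, -⟩ := schur_scalar ρ (ρ z) hz
  refine ⟨l, hl, ?_⟩
  have hpow : (ρ z) ^ orderOf z = 1 := by rw [← map_pow, pow_orderOf_eq_one, map_one]
  rw [hl, smul_pow, one_pow] at hpow
  have hl1 : l ^ orderOf z = 1 := by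
    have h1 : (l ^ orderOf z) • (1 : Module.End ℂ V) = (1 : ℂ) • (1 : Module.End ℂ V) := by
      rw [hpow, one_smul]
    have hinj : Function.Injective (fun c : ℂ => c • (1 : Module.End ℂ V)) := by
      intro c d hcd
      obtain ⟨v, hv⟩ := exists_ne (0 : V)
      have := congrArg (fun f : Module.End ℂ V => f v) hcd
      simp only [LinearMap.smul_apply, Module.End.one_apply] at this
      exact smul_left_injective ℂ hv this
    exact hinj h1
  have hnorm : ‖l‖ = 1 := Complex.norm_eq_one_of_pow_eq_one hl1 (orderOf_pos z).ne'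
  rw [mul_comm, Complex.mul_conj, Complex.normSq_eq_norm_sq, hnorm]
  norm_num

end Scalar

section Section

variable {G : Type v} [Group G] [Finite G]

/-- if `B ≤ ker θ` and `[z, G] ⊆ B` then `|θ(z)|² = θ(1)²` -/
theorem irr_normSq_of_commutators (θ : IrrCharacter G) (B : Set G)
    (hB : ∀ b ∈ B, (θ : G → ℂ) b = (θ : G → ℂ) 1) (z : G)
    (hz : ∀ g : G, z * g * z⁻¹ * g⁻¹ ∈ B) :
    Complex.normSq ((θ : G → ℂ) z) = ((charDegree (θ : G → ℂ) : ℕ) : ℝ) ^ 2 := by
  have := Fintype.ofFinite G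
  have h1 := (irr_one_eq θ).1
  obtain ⟨n, ρ, hρ, hχ, hker⟩ := irr_exists_rep θ
  have hcomm : ∀ g : G, ρ z ∘ₗ ρ g = ρ g ∘ₗ ρ z := by
    intro g
    have h2 : ρ (z * g * z⁻¹ * g⁻¹) = 1 := (hker _).1 (hB _ (hz g))
    rw [← Module.End.mul_eq_comp, ← Module.End.mul_eq_comp, ← map_mul, ← map_mul]
    have h3 : z * g = (z * g * z⁻¹ * g⁻¹) * (g * z) := by group
    rw [h3, map_mul, h2, one_mul]
  obtain ⟨l, hl, hl1⟩ := scalar_of_commute ρ z hcomm
  have h2 : (θ : G → ℂ) z = l * (θ : G → ℂ) 1 := by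
    rw [← hχ]
    unfold Representation.character
    rw [hl, map_smul, smul_eq_mul, map_one ρ]
  rw [h2, h1, Complex.normSq_mul, Complex.normSq_natCast]
  have h3 : Complex.normSq l = 1 := by
    have := Complex.mul_conj l
    rw [mul_comm, hl1] at this
    exact_mod_cast this.symm
  rw [h3, one_mul, sq]

/-- if `B ≤ ker θ` and `D` is a subgroup with `[D, G] ⊆ B` then `|D| θ(1)² ≤ |G|` -/
theorem card_mul_sq_le_of_commutators (θ : IrrCharacter G) (B : Set G)
    (hB : ∀ b ∈ B, (θ : G → ℂ) b = (θ : G → ℂ) 1) (D : Subgroup G)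
    (hD : ∀ d ∈ D, ∀ g : G, d * g * d⁻¹ * g⁻¹ ∈ B) :
    Nat.card D * (charDegree (θ : G → ℂ)) ^ 2 ≤ Nat.card G := by
  classical
  have := Fintype.ofFinite G
  have h1 := irr_sum_normSq θ
  have h2 : ∑ g ∈ Finset.univ.filter (fun g : G => g ∈ D), Complex.normSq ((θ : G → ℂ) g)
      ≤ ∑ g : G, Complex.normSq ((θ : G → ℂ) g) :=
    Finset.sum_le_sum_of_subset_of_nonneg (Finset.filter_subset _ _)
      (fun g _ _ => Complex.normSq_nonneg _)
  have h3 : ∑ g ∈ Finset.univ.filter (fun g : G => g ∈ D), Complex.normSq ((θ : G → ℂ) g)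
      = (Nat.card D : ℝ) * ((charDegree (θ : G → ℂ) : ℕ) : ℝ) ^ 2 := by
    rw [Finset.sum_congr rfl (fun g hg =>
      irr_normSq_of_commutators θ B hB g (hD g (Finset.mem_filter.1 hg).2)),
      Finset.sum_const, nsmul_eq_mul]
    congr 2
    rw [Nat.card_eq_fintype_card, Fintype.card_subtype]
  rw [h3, h1] at h2
  exact_mod_cast h2

/-- constituents of the restriction of `χ` to `C` are trivial on every element of `C` on which
`χ` takes the value `χ(1)` -/
theorem constituent_trivial_of_eq_one (χ : IrrCharacter G) (C : Subgroup G)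
    (n : IrrCharacter C → ℕ)
    (hexp : ∀ c : C, (χ : G → ℂ) c = ∑ ψ : IrrCharacter C, (n ψ : ℂ) * (ψ : C → ℂ) c)
    (b : C) (hb : (χ : G → ℂ) b = (χ : G → ℂ) 1) (θ : IrrCharacter C) (hθ : n θ ≠ 0) :
    (θ : C → ℂ) b = (θ : C → ℂ) 1 := by
  classical
  have h1 := hexp b
  have h2 := hexp 1
  rw [Subgroup.coe_one] at h2
  rw [hb, h2] at h1
  -- real parts
  have h3 : ∑ ψ : IrrCharacter C, (n ψ : ℝ) * ((charDegree (ψ : C → ℂ) : ℝ) - ((ψ : C → ℂ) b).re) = 0 := by
    have h4 := congrArg Complex.re h1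
    rw [Complex.re_sum, Complex.re_sum] at h4
    rw [← sub_eq_zero, ← Finset.sum_sub_distrib] at h4
    rw [← h4]
    apply Finset.sum_congr rfl
    intro ψ _
    rw [(irr_one_eq ψ).1]
    simp only [Complex.mul_re, Complex.natCast_re, Complex.natCast_im, zero_mul, sub_zero]
    ring
  have hle : ∀ ψ : IrrCharacter C, ((ψ : C → ℂ) b).re ≤ (charDegree (ψ : C → ℂ) : ℝ) := by
    intro ψ
    exact (Complex.re_le_norm _).trans (irr_norm_le ψ b)
  have h5 := (Finset.sum_eq_zero_iff_of_nonneg (fun ψ _ =>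
    mul_nonneg (Nat.cast_nonneg _) (sub_nonneg.2 (hle ψ)))).1 h3 θ (Finset.mem_univ _)
  have h6 : ((θ : C → ℂ) b).re = (charDegree (θ : C → ℂ) : ℝ) := by
    rcases mul_eq_zero.1 h5 with h | h
    · exact absurd (by exact_mod_cast h) hθ
    · linarith
  have h7 : ((θ : C → ℂ) b).im = 0 := by
    have h8 := irr_norm_le θ b
    have h9 : Complex.normSq ((θ : C → ℂ) b) ≤ (charDegree (θ : C → ℂ) : ℝ) ^ 2 := by
      rw [Complex.normSq_eq_norm_sq]
      exact pow_le_pow_left₀ (norm_nonneg _) h8 2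
    rw [Complex.normSq_apply, h6] at h9
    have : ((θ : C → ℂ) b).im * ((θ : C → ℂ) b).im ≤ 0 := by nlinarith
    have h10 := mul_self_nonneg ((θ : C → ℂ) b).im
    have : ((θ : C → ℂ) b).im * ((θ : C → ℂ) b).im = 0 := le_antisymm this h10
    exact mul_self_eq_zero.1 this
  rw [(irr_one_eq θ).1]
  apply Complex.ext
  · rw [h6]; simp
  · rw [h7]; simp

end Section

end Cfsg.Agent.Helper79
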