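import Mathlib
import Cfsg.Agent.S1017
import Cfsg.Agent.Lib.Helper25.N5400Defs

/-!
# N5400 (ODD) for helper25's sub-server (S0983, order 5400): a subgroup of order `2 * odd` containing
a Sylow 5-subgroup (of order 25) cannot contain exactly six Sylow 5-subgroups.
-/

set_option autoImplicit false

namespace Cfsg.Agent.Helper79.N5400

open Cfsg MulAction Cfsg.Agent.Helper25.N5400

universe u

section NoSimple

variable {G : Type u} [Group G] [Finite G]

/-- a group of order `2 * odd` has a subgroup of order `odd` containing all elements of odd order -/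
theorem h79_odd_part {K : Type*} [Group K] [Finite K] (m : ℕ) (hm : Odd m)
    (hK : Nat.card K = 2 * m) :
    ∃ K₀ : Subgroup K, Nat.card K₀ = m ∧ ∀ y : K, Odd (orderOf y) → y ∈ K₀ := by
  have : Fact (Nat.Prime 2) := ⟨Nat.prime_two⟩
  have hm0 : m ≠ 0 := by rintro rfl; simp at hm
  have hp : (Nat.card K).minFac = 2 := (Nat.minFac_eq_two_iff _).mpr ⟨m, hK⟩
  let P : Sylow 2 K := default
  have hPcard : Nat.card P = 2 := by
    rw [P.card_eq_multiplicity, hK, Nat.factorization_mul two_ne_zero hm0, Finsupp.add_apply,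
      Nat.Prime.factorization_self Nat.prime_two,
      Nat.factorization_eq_zero_of_not_dvd (Nat.two_dvd_ne_zero.mpr (Nat.odd_iff.mp hm)),
      add_zero, pow_one]
  have hPc : IsCyclic P := isCyclic_of_prime_card hPcard
  have hcomp := IsCyclic.isComplement' hp hPc
  set K₀' := (MonoidHom.transferSylow P (IsCyclic.normalizer_le_centralizer hp hPc)).ker
    with hK₀'
  have hcard0 : Nat.card K₀' = m := by
    have h1 := hcomp.card_mul_card
    rw [hPcard, hK, mul_comm] at h1
    exact Nat.eq_of_mul_eq_mul_left two_pos h1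
  have hidx : K₀'.index = 2 := by
    rw [hcomp.symm.index_eq_card, hPcard]
  refine ⟨K₀', hcard0, ?_⟩
  intro y hy
  have h2 : (QuotientGroup.mk y : K ⧸ K₀') ^ 2 = 1 := by
    have := pow_card_eq_one' (G := K ⧸ K₀') (x := (QuotientGroup.mk y : K ⧸ K₀'))
    rwa [← Subgroup.index_eq_card, hidx] at this
  have h3 : (QuotientGroup.mk y : K ⧸ K₀') ^ orderOf y = 1 := by
    rw [← QuotientGroup.mk_pow, pow_orderOf_eq_one]; rfl
  have h4 : orderOf (QuotientGroup.mk y : K ⧸ K₀') ∣ Nat.gcd 2 (orderOf y) :=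
    Nat.dvd_gcd (orderOf_dvd_of_pow_eq_one h2) (orderOf_dvd_of_pow_eq_one h3)
  have h5 : Nat.gcd 2 (orderOf y) = 1 := (Nat.coprime_two_left).mpr hy
  rw [h5, Nat.dvd_one, orderOf_eq_one_iff] at h4
  exact (QuotientGroup.eq_one_iff y).mp h4

/-- (ODD) -/
theorem not_two_mul_odd (hP25 : ∀ Q : Sylow 5 G, Nat.card (Q : Subgroup G) = 25) (M : Subgroup G) (m : ℕ)
    (hm : Odd m) (hM : Nat.card M = 2 * m) (P : Sylow 5 G) (hPM : (P : Subgroup G) ≤ M)
    (h6 : Nat.card {Q : Sylow 5 G // (Q : Subgroup G) ≤ M} = 6) : False := by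
  have : Fact (Nat.Prime 5) := ⟨by norm_num⟩
  obtain ⟨K₀, hK₀card, hK₀mem⟩ := h79_odd_part (K := ↥M) m hm hM
  set M0 : Subgroup G := K₀.map M.subtype with hM0
  have hM0card : Nat.card M0 = m := by
    rw [hM0, Subgroup.card_map_of_injective M.subtype_injective, hK₀card]
  have hM0M : M0 ≤ M := Subgroup.map_subtype_le _
  have hiff : ∀ Q : Sylow 5 G, (Q : Subgroup G) ≤ M0 ↔ (Q : Subgroup G) ≤ M := by
    intro Q
    constructor
    · intro h; exact h.trans hM0M
    · intro h x hx
      have hxo : Odd (orderOf (⟨x, h hx⟩ : ↥M)) := by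
        have h1 : orderOf x ∣ 25 := by
          rw [← hP25 Q]; exact Subgroup.orderOf_dvd_natCard _ hx
        have h2 : orderOf (⟨x, h hx⟩ : ↥M) = orderOf x := by
          rw [← Subgroup.orderOf_coe]
        rw [h2]
        exact Odd.of_dvd_nat (by decide : Odd 25) h1
      exact ⟨⟨x, h hx⟩, hK₀mem _ hxo, rfl⟩
  have hPM0 : (P : Subgroup G) ≤ M0 := (hiff P).2 hPM
  have hcount := Cfsg.Agent.S1017.card_eq_card_mul M0 P hPM0
  have hcongr : Nat.card {Q : Sylow 5 G // (Q : Subgroup G) ≤ M0} = 6 := by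
    rw [← h6]
    exact Nat.card_congr (Equiv.subtypeEquivRight hiff)
  rw [hcongr, hM0card] at hcount
  rw [hcount] at hm
  have : ¬ Odd (6 * Nat.card ↥(Subgroup.normalizer ((P : Subgroup G) : Set G) ⊓ M0)) := by
    rw [Nat.not_odd_iff_even]
    exact ⟨3 * Nat.card ↥(Subgroup.normalizer ((P : Subgroup G) : Set G) ⊓ M0), by ring⟩
  exact this hm

end NoSimple

end Cfsg.Agent.Helper79.N5400
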