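import Mathlib
import Cfsg.Agent.Lib.Helper93.U20

/-!
# U2 server (helper93, S2335), piece C7a: `ncard_norm_fibre_le`
-/

set_option autoImplicit false

namespace Cfsg.Agent.Helper79.U2

open Matrix Cfsg.Agent.Helper13 Cfsg.Agent.Helper93.U2

variable {F : Type*} [Field F] [Fintype F] {q : ℕ} (hF : Fintype.card F = q ^ 2) {m : ℕ}

/-- piece C7a -/
theorem ncard_norm_fibre_le (d : F) : {t : F | t ^ (q + 1) = d}.ncard ≤ q + 1 := by
  classical
  have hset : {t : F | t ^ (q + 1) = d} = ↑(Polynomial.nthRoots (q + 1) d).toFinset := by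
    ext t
    simp [Polynomial.mem_nthRoots (Nat.succ_pos q)]
  rw [hset, Set.ncard_coe_finset]
  exact (Multiset.toFinset_card_le _).trans (Polynomial.card_nthRoots (q + 1) d)

end Cfsg.Agent.Helper79.U2
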