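import Mathlib
import Cfsg.Prelude.Def_Blocks
import Cfsg.Agent.Lib.Helper81.CharDet
import Cfsg.Agent.Lib.Helper81.CharInd

set_option autoImplicit false

namespace Cfsg.Agent.Helper79.M11CT

open Cfsg
open scoped ComplexConjugate

universe u

/-- (MN) Multiplicity of the linear character `x^k ↦ ζ^k` of `⟨x⟩` in `χ|⟨x⟩` is a natural number. -/
theorem mult_nat {G : Type u} [Group G] [Finite G] {χ : G → ℂ} (hχ : IsCharacter G χ) (x : G) (n : ℕ)
    (hn : 0 < n) (hx : orderOf x = n) (ζ : ℂ) (hζ : ζ ^ n = 1) :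
    ∃ m : ℕ, (n : ℂ) * (m : ℂ) = ∑ k ∈ Finset.range n, χ (x ^ k) * ζ ^ (n - k) := by
  classical
  have hζ0 : ζ ≠ 0 := by
    rintro rfl
    rw [zero_pow hn.ne'] at hζ
    exact zero_ne_one hζ
  set ζu : ℂˣ := Units.mk0 ζ hζ0 with hζu
  have hζun : ζu ^ n = 1 := by
    apply Units.ext
    rw [Units.val_pow_eq_pow_val, Units.val_mk0, hζ, Units.val_one]
  set P : Subgroup G := Subgroup.zpowers x with hP
  set gx : P := ⟨x, Subgroup.mem_zpowers x⟩ with hgx
  have hgen : ∀ w : P, w ∈ Subgroup.zpowers gx := by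
    intro w
    obtain ⟨k, hk⟩ := Subgroup.mem_zpowers_iff.mp w.2
    rw [Subgroup.mem_zpowers_iff]
    refine ⟨k, ?_⟩
    apply Subtype.ext
    rw [Subgroup.coe_zpow]
    exact hk
  have hord : orderOf gx = n := by
    rw [← hx]
    exact Subgroup.orderOf_mk x (Subgroup.mem_zpowers x)
  have hdvd : orderOf ζu ∣ orderOf gx := by
    rw [hord]
    exact orderOf_dvd_of_pow_eq_one hζun
  set μ0 : P →* ℂˣ := monoidHomOfForallMemZpowers hgen hdvd with hμ0
  set μ : P →* ℂ := (Units.coeHom ℂ).comp μ0 with hμ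
  have hμgen : μ gx = ζ := by
    show ((μ0 gx : ℂˣ) : ℂ) = ζ
    rw [hμ0, monoidHomOfForallMemZpowers_apply_gen]
    rfl
  haveI : Fintype P := Fintype.ofFinite P
  have hirr : IsIrrCharacter P (μ : P → ℂ) := Cfsg.Agent.Helper81.isIrrCharacter_hom μ
  have hres : IsCharacter P (fun w : P => χ w) := Cfsg.Agent.Helper81.isCharacter_restrict P hχ
  obtain ⟨m, hm⟩ := Cfsg.Agent.Helper81.exists_nat_classInner hres hirr
  refine ⟨m, ?_⟩
  have hcardP : Nat.card P = n := by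
    rw [hP, Nat.card_zpowers, hx]
  unfold classInner at hm
  rw [hcardP] at hm
  have hn0 : (n : ℂ) ≠ 0 := Nat.cast_ne_zero.mpr hn.ne'
  have hsum : ∑ w : P, χ w * conj (μ w) = ∑ k ∈ Finset.range n, χ (x ^ k) * ζ ^ (n - k) := by
    have hfin : IsOfFinOrder x := isOfFinOrder_of_finite x
    rw [← (finEquivZPowers hfin).sum_comp]
    rw [← hx, ← Fin.sum_univ_eq_sum_range (fun k => χ (x ^ k) * ζ ^ (orderOf x - k)) (orderOf x)]
    apply Finset.sum_congr rfl
    intro k _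
    have h1 : (finEquivZPowers hfin k : P) = gx ^ (k : ℕ) := by
      apply Subtype.ext
      rw [finEquivZPowers_apply]
      rfl
    have h2 : μ (finEquivZPowers hfin k) = ζ ^ (k : ℕ) := by
      rw [h1, map_pow, hμgen]
    have h3 : ((finEquivZPowers hfin k : P) : G) = x ^ (k : ℕ) := by
      rw [finEquivZPowers_apply]
    rw [h3, h2]
    congr 1
    have h4 := Cfsg.Agent.Helper81.hom_mul_conj μ (finEquivZPowers hfin k)
    rw [h2] at h4
    have hk : (k : ℕ) ≤ orderOf x := k.2.le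
    have h5 : ζ ^ (k : ℕ) * ζ ^ (orderOf x - (k : ℕ)) = 1 := by
      rw [← pow_add, Nat.add_sub_cancel' hk, hx, hζ]
    have h6 : ζ ^ (k : ℕ) ≠ 0 := pow_ne_zero _ hζ0
    exact mul_left_cancel₀ h6 (h4.trans h5.symm)
  rw [← hsum, ← hm]
  field_simp

end Cfsg.Agent.Helper79.M11CT
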