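import Mathlib

set_option autoImplicit false

namespace Cfsg.Agent.Helper79

/-- `|N : A ∩ N| = |AN : A|` for `N` normal (finite group). -/
theorem relIndex_sup_eq_of_normal {G : Type*} [Group G] [Finite G] (A N : Subgroup G) [N.Normal] :
    A.relIndex (A ⊔ N) = A.relIndex N := by
  have h1 : Nat.card (A ⊓ N : Subgroup G) * A.relIndex N = Nat.card N := by
    have := Subgroup.relIndex_inf_mul_relIndex (⊥ : Subgroup G) A N
    rwa [bot_inf_eq, Subgroup.relIndex_bot_left, Subgroup.relIndex_bot_left] at this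
  have h2 : Nat.card (A ⊓ N : Subgroup G) * N.relIndex A = Nat.card A := by
    have := Subgroup.relIndex_inf_mul_relIndex (⊥ : Subgroup G) N A
    rwa [bot_inf_eq, Subgroup.relIndex_bot_left, Subgroup.relIndex_bot_left, inf_comm] at this
  have h3 : N.relIndex (A ⊔ N) = N.relIndex A := Subgroup.relIndex_sup_right A N
  have h4 : Nat.card N * N.relIndex (A ⊔ N) = Nat.card (A ⊔ N : Subgroup G) := by
    have := Subgroup.relIndex_inf_mul_relIndex (⊥ : Subgroup G) N (A ⊔ N)
    rwa [bot_inf_eq, Subgroup.relIndex_bot_left, Subgroup.relIndex_bot_left,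
      inf_eq_left.2 (le_sup_right : N ≤ A ⊔ N)] at this
  have h5 : Nat.card A * A.relIndex (A ⊔ N) = Nat.card (A ⊔ N : Subgroup G) := by
    have := Subgroup.relIndex_inf_mul_relIndex (⊥ : Subgroup G) A (A ⊔ N)
    rwa [bot_inf_eq, Subgroup.relIndex_bot_left, Subgroup.relIndex_bot_left,
      inf_eq_left.2 (le_sup_left : A ≤ A ⊔ N)] at this
  have hpos : 0 < Nat.card A := Nat.card_pos
  apply Nat.eq_of_mul_eq_mul_left hpos
  rw [h5, ← h4, h3, ← h1, ← h2]
  ring

/-- for `N` normal, `|N : A ∩ N|` divides `|G : A|` -/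
theorem relIndex_dvd_index_of_normal_right {G : Type*} [Group G] [Finite G] (A N : Subgroup G)
    [N.Normal] : A.relIndex N ∣ A.index := by
  rw [← relIndex_sup_eq_of_normal A N]
  exact Subgroup.relIndex_dvd_index_of_le le_sup_left

open Pointwise in
/-- permuting subgroups: the join is the product set -/
theorem coe_sup_of_mul_comm {G : Type*} [Group G] (A B : Subgroup G)
    (h : (A : Set G) * (B : Set G) = (B : Set G) * (A : Set G)) :
    ((A ⊔ B : Subgroup G) : Set G) = (A : Set G) * (B : Set G) := by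
  let C : Subgroup G :=
    { carrier := (A : Set G) * (B : Set G)
      one_mem' := ⟨1, A.one_mem, 1, B.one_mem, by simp⟩
      mul_mem' := by
        rintro x y ⟨a, ha, b, hb, rfl⟩ ⟨a', ha', b', hb', rfl⟩
        have h1 : b * a' ∈ (A : Set G) * (B : Set G) := by
          rw [h]; exact ⟨b, hb, a', ha', rfl⟩
        obtain ⟨a'', ha'', b'', hb'', h2⟩ := h1
        replace h2 : a'' * b'' = b * a' := h2
        refine ⟨a * a'', A.mul_mem ha ha'', b'' * b', B.mul_mem hb'' hb', ?_⟩
        simp only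
        calc a * a'' * (b'' * b') = a * (a'' * b'') * b' := by group
          _ = a * (b * a') * b' := by rw [h2]
          _ = a * b * (a' * b') := by group
      inv_mem' := by
        rintro x ⟨a, ha, b, hb, rfl⟩
        have h1 : b⁻¹ * a⁻¹ ∈ (A : Set G) * (B : Set G) := by
          rw [h]; exact ⟨b⁻¹, B.inv_mem hb, a⁻¹, A.inv_mem ha, rfl⟩
        simpa [mul_inv_rev] using h1 }
  have hC : A ⊔ B = C := by
    apply le_antisymm
    · apply sup_le
      · intro a ha
        exact ⟨a, ha, 1, B.one_mem, by simp⟩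
      · intro b hb
        exact ⟨1, A.one_mem, b, hb, by simp⟩
    · rintro x ⟨a, ha, b, hb, rfl⟩
      exact (A ⊔ B).mul_mem (Subgroup.mem_sup_left ha) (Subgroup.mem_sup_right hb)
  rw [hC]
  rfl

open Pointwise in
/-- permuting subgroups with trivial intersection: the order of the join is the product -/
theorem card_sup_of_mul_comm_of_disjoint {G : Type*} [Group G] (A B : Subgroup G)
    (h : (A : Set G) * (B : Set G) = (B : Set G) * (A : Set G)) (hd : A ⊓ B = ⊥) :
    Nat.card (A ⊔ B : Subgroup G) = Nat.card A * Nat.card B := by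
  rw [← Nat.card_prod]
  symm
  have hmem : ∀ x : A × B, (x.1 : G) * (x.2 : G) ∈ A ⊔ B := fun x =>
    (A ⊔ B).mul_mem (Subgroup.mem_sup_left x.1.2) (Subgroup.mem_sup_right x.2.2)
  apply Nat.card_congr
  refine Equiv.ofBijective (fun x => ⟨(x.1 : G) * (x.2 : G), hmem x⟩) ⟨?_, ?_⟩
  · rintro ⟨a, b⟩ ⟨a', b'⟩ hx
    have hx' : (a : G) * (b : G) = (a' : G) * (b' : G) := congrArg Subtype.val hx
    have h1 : (a' : G)⁻¹ * (a : G) = (b' : G) * (b : G)⁻¹ := by
      calc (a' : G)⁻¹ * (a : G) = (a' : G)⁻¹ * ((a : G) * (b : G)) * (b : G)⁻¹ := by group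
        _ = (a' : G)⁻¹ * ((a' : G) * (b' : G)) * (b : G)⁻¹ := by rw [hx']
        _ = (b' : G) * (b : G)⁻¹ := by group
    have h2 : (a' : G)⁻¹ * (a : G) ∈ A ⊓ B := by
      refine ⟨A.mul_mem (A.inv_mem a'.2) a.2, ?_⟩
      rw [h1]; exact B.mul_mem b'.2 (B.inv_mem b.2)
    rw [hd, Subgroup.mem_bot] at h2
    have h3 : (a : G) = (a' : G) := by
      have := congrArg (fun y => (a' : G) * y) h2
      simpa using this
    have h4 : (b : G) = (b' : G) := by
      rw [h3] at hx'
      exact mul_left_cancel hx'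
    exact Prod.ext (Subtype.ext h3) (Subtype.ext h4)
  · rintro ⟨x, hx⟩
    have hx' : x ∈ ((A ⊔ B : Subgroup G) : Set G) := hx
    rw [coe_sup_of_mul_comm A B h] at hx'
    obtain ⟨a, ha, b, hb, rfl⟩ := hx'
    exact ⟨(⟨a, ha⟩, ⟨b, hb⟩), rfl⟩

end Cfsg.Agent.Helper79
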