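import Cfsg.Agent.Lib.Helper79.CharBasic

set_option autoImplicit false
set_option linter.unusedSectionVars false
set_option linter.style.haveILetI false
set_option linter.deprecated false

namespace Cfsg.Agent.Helper79

open Module
open scoped ComplexConjugate

universe u v

section Schur

variable {G : Type v} [Group G] {V : Type u} [AddCommGroup V] [Module ℂ V]
  [FiniteDimensional ℂ V]


/-- Schur: an endomorphism commuting with an irreducible representation is the scalar
`trace / dim`. -/
theorem schur_scalar (ρ : Representation ℂ G V) [ρ.IsIrreducible] (T : Module.End ℂ V)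
    (hT : ∀ g : G, T ∘ₗ ρ g = ρ g ∘ₗ T) :
    ∃ c : ℂ, T = c • (1 : Module.End ℂ V) ∧ c * (finrank ℂ V : ℂ) = LinearMap.trace ℂ V T := by
  let f : Representation.IntertwiningMap ρ ρ := ⟨T, hT⟩
  obtain ⟨c, hc⟩ :=
    (Representation.IsIrreducible.algebraMap_intertwiningMap_bijective_of_isAlgClosed (ρ := ρ)).2 f
  rw [Representation.IntertwiningMap.algebraMap_apply] at hc
  have h1 : T = c • (1 : Module.End ℂ V) := by
    have := congrArg Representation.IntertwiningMap.toLinearMap hc
    rw [Representation.IntertwiningMap.toLinearMap_smul] at this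
    exact this.symm
  refine ⟨c, h1, ?_⟩
  rw [h1, map_smul, LinearMap.trace_one, smul_eq_mul]

end Schur

section WSum

variable {G : Type v} [Group G] [Fintype G]


/-- the weighted sum operator -/
noncomputable def wsum (a : G → ℂ) {V : Type u} [AddCommGroup V] [Module ℂ V]
    (ρ : Representation ℂ G V) : Module.End ℂ V := ∑ g : G, a g • ρ g

theorem wsum_apply (a : G → ℂ) {V : Type u} [AddCommGroup V] [Module ℂ V]
    (ρ : Representation ℂ G V) (v : V) : wsum a ρ v = ∑ g : G, a g • ρ g v := by
  simp [wsum, LinearMap.sum_apply]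

theorem wsum_comm (a : G → ℂ) (ha : ∀ g h : G, a (h * g * h⁻¹) = a g)
    {V : Type u} [AddCommGroup V] [Module ℂ V]
    (ρ : Representation ℂ G V) (h : G) : wsum a ρ ∘ₗ ρ h = ρ h ∘ₗ wsum a ρ := by
  ext v
  simp only [LinearMap.comp_apply, wsum_apply, map_sum, map_smul]
  -- LHS: ∑ a g • ρ g (ρ h v); RHS: ∑ a g • ρ h (ρ g v)
  rw [← Equiv.sum_comp (Equiv.mulRight h⁻¹ |>.trans (Equiv.mulLeft h))]
  apply Finset.sum_congr rfl
  intro g _
  simp only [Equiv.trans_apply, Equiv.coe_mulRight, Equiv.coe_mulLeft]
  rw [show h * (g * h⁻¹) = h * g * h⁻¹ by group, ha]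
  congr 1
  rw [← Module.End.mul_apply, ← map_mul, ← Module.End.mul_apply, ← map_mul]
  congr 2
  group

theorem trace_wsum (a : G → ℂ) {V : Type u} [AddCommGroup V] [Module ℂ V] [FiniteDimensional ℂ V]
    (ρ : Representation ℂ G V) :
    LinearMap.trace ℂ V (wsum a ρ) = ∑ g : G, a g * ρ.character g := by
  simp [wsum, map_sum, Representation.character]

theorem wsum_sub (a : G → ℂ) {V : Type u} [AddCommGroup V] [Module ℂ V]
    (ρ : Representation ℂ G V) (W : Subrepresentation ρ) (w : W.toSubmodule) :
    wsum a ρ (w : V) = ((wsum a W.toRepresentation w : W.toSubmodule) : V) := by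
  rw [wsum_apply, wsum_apply, Submodule.coe_sum]
  apply Finset.sum_congr rfl
  intro g _
  rw [Submodule.coe_smul]
  rfl

theorem exists_proper_sub {V : Type u} [AddCommGroup V] [Module ℂ V] [Nontrivial V]
    (ρ : Representation ℂ G V) (h : ¬ ρ.IsIrreducible) :
    ∃ W : Subrepresentation ρ, W ≠ ⊥ ∧ W ≠ ⊤ := by
  by_contra hcon
  push Not at hcon
  apply h
  have hnt : Nontrivial (Subrepresentation ρ) := by
    refine ⟨⊥, ⊤, ?_⟩
    intro h1
    obtain ⟨v, hv⟩ := exists_ne (0 : V)
    have h2 : v ∈ (⊤ : Subrepresentation ρ) := trivial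
    rw [← h1] at h2
    exact hv h2
  exact { toNontrivial := hnt, eq_bot_or_eq_top := fun W => by
            by_cases hW : W = ⊥
            · exact Or.inl hW
            · exact Or.inr (hcon W hW) }

theorem wsum_eq_zero_aux (a : G → ℂ) (ha : ∀ g h : G, a (h * g * h⁻¹) = a g)
    (hirr : ∀ χ : IrrCharacter G, ∑ g : G, a g * (χ : G → ℂ) g = 0) (n : ℕ) :
    ∀ {V : Type u} [AddCommGroup V] [Module ℂ V] [FiniteDimensional ℂ V]
      (ρ : Representation ℂ G V), finrank ℂ V = n → wsum a ρ = 0 := by
  induction n using Nat.strong_induction_on with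
  | _ n ih =>
    intro V _ _ _ ρ hn
    rcases subsingleton_or_nontrivial V with hV | hV
    · ext v; exact Subsingleton.elim _ _
    · by_cases hρ : ρ.IsIrreducible
      · obtain ⟨c, hc1, hc2⟩ := schur_scalar ρ (wsum a ρ) (wsum_comm a ha ρ)
        rw [trace_wsum] at hc2
        have h0 := hirr ⟨ρ.character, isIrrCharacter_of_irreducible ρ⟩
        simp only at h0
        rw [h0] at hc2
        have hpos : (finrank ℂ V : ℂ) ≠ 0 := by
          have : 0 < finrank ℂ V := Module.finrank_pos
          exact_mod_cast this.ne'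
        have hc0 : c = 0 := by
          rcases mul_eq_zero.1 hc2 with h | h
          · exact h
          · exact absurd h hpos
        rw [hc1, hc0, zero_smul]
      · obtain ⟨W, hW1, hW2⟩ := exists_proper_sub ρ hρ
        obtain ⟨W', hW'⟩ := exists_isCompl W
        have hW2' : W.toSubmodule ≠ ⊤ := by
          intro h; apply hW2; exact Subrepresentation.toSubmodule_injective h
        have hW'2 : W'.toSubmodule ≠ ⊤ := by
          intro h
          apply hW1
          have h1 : W' = ⊤ := Subrepresentation.toSubmodule_injective h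
          have h2 := hW'.inf_eq_bot
          rw [h1, inf_top_eq] at h2
          exact h2
        have e1 : wsum a W.toRepresentation = 0 :=
          ih _ (by rw [← hn]; exact Submodule.finrank_lt hW2') W.toRepresentation rfl
        have e2 : wsum a W'.toRepresentation = 0 :=
          ih _ (by rw [← hn]; exact Submodule.finrank_lt hW'2) W'.toRepresentation rfl
        ext v
        have hv : v ∈ (W ⊔ W').toSubmodule := by
          rw [hW'.sup_eq_top]; trivial
        rw [Subrepresentation.toSubmodule_sup, Submodule.mem_sup] at hv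
        obtain ⟨w, hw, w', hw', rfl⟩ := hv
        rw [map_add]
        have h1 := wsum_sub a ρ W ⟨w, hw⟩
        have h2 := wsum_sub a ρ W' ⟨w', hw'⟩
        rw [e1] at h1
        rw [e2] at h2
        simp only [LinearMap.zero_apply, Submodule.coe_zero] at h1 h2
        rw [h1, h2]
        simp

/-- the left regular representation on functions -/
def regRep (G : Type v) [Group G] : Representation ℂ G (G → ℂ) where
  toFun g :=
    { toFun := fun f x => f (g⁻¹ * x)
      map_add' := by intro f f'; ext x; simp
      map_smul' := by intro c f; ext x; simp }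
  map_one' := by ext f x; simp
  map_mul' := by
    intro g h; ext f x
    simp [mul_assoc]

theorem regRep_apply (g : G) (f : G → ℂ) (x : G) : regRep G g f x = f (g⁻¹ * x) := rfl

theorem classfun_eq_zero (a : G → ℂ) (ha : ∀ g h : G, a (h * g * h⁻¹) = a g)
    (hirr : ∀ χ : IrrCharacter G, ∑ g : G, a g * (χ : G → ℂ) g = 0) : a = 0 := by
  have h := wsum_eq_zero_aux a ha hirr _ (regRep G) rfl
  ext x
  classical
  have h1 := congrFun (congrArg (fun T => T (Pi.single (1 : G) (1 : ℂ))) h) x
  simp only [LinearMap.zero_apply, Pi.zero_apply] at h1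
  rw [wsum_apply, Finset.sum_apply] at h1
  simp only [Pi.smul_apply, regRep_apply, smul_eq_mul] at h1
  rw [Finset.sum_eq_single x] at h1
  · simpa using h1
  · intro g _ hg
    have : g⁻¹ * x ≠ 1 := by
      intro h2
      apply hg
      have := inv_mul_eq_one.1 h2
      exact this
    simp [Pi.single_apply, this]
  · intro hx; exact absurd (Finset.mem_univ x) hx

theorem eq_zero_of_pair_eq_zero (d : G → ℂ) (hd : ∀ g h : G, d (h * g * h⁻¹) = d g)
    (h : ∀ χ : IrrCharacter G, pair d (χ : G → ℂ) = 0) : d = 0 := by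
  have h1 : (fun g => d g⁻¹) = 0 := by
    apply classfun_eq_zero
    · intro g k
      simp only [mul_inv_rev, inv_inv]
      rw [← mul_assoc]
      exact hd g⁻¹ k
    · intro χ
      have h2 := h χ
      unfold pair at h2
      rcases mul_eq_zero.1 h2 with h3 | h3
      · exact absurd (inv_eq_zero.1 h3) card_ne_zero_complex
      · rw [← h3, ← Equiv.sum_comp (Equiv.inv G)]
        simp
  ext g
  have := congrFun h1 g⁻¹
  simpa using this

theorem classfun_expansion (ψ : G → ℂ) (hψ : ∀ g h : G, ψ (h * g * h⁻¹) = ψ g) :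
    ψ = ∑ χ : IrrCharacter G, pair ψ (χ : G → ℂ) • (χ : G → ℂ) := by
  rw [← sub_eq_zero]
  apply eq_zero_of_pair_eq_zero
  · intro g h
    simp only [Pi.sub_apply, Finset.sum_apply, Pi.smul_apply, hψ, irr_class]
  · intro χ
    rw [pair_sub_left, pair_sum_left]
    simp_rw [pair_smul_left, irr_orthonormal]
    simp

/-- column orthogonality, raw form -/
theorem col_orth (g h : G) :
    ∑ χ : IrrCharacter G, (χ : G → ℂ) g * (χ : G → ℂ) h⁻¹ =
      (Nat.card {x : G // x * h * x⁻¹ = g} : ℂ) := by
  classical
  have hcard : (Nat.card {x : G // x * h * x⁻¹ = g} : ℂ) =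
      ∑ x : G, if x * h * x⁻¹ = g then (1 : ℂ) else 0 := by
    rw [Nat.card_eq_fintype_card, Fintype.card_subtype, Finset.card_filter]
    push_cast
    rfl
  rw [hcard]
  -- class function: number of x with x h x⁻¹ = g
  let ψ : G → ℂ := fun g' => ∑ x : G, if x * h * x⁻¹ = g' then (1 : ℂ) else 0
  have hψ : ∀ g' k : G, ψ (k * g' * k⁻¹) = ψ g' := by
    intro g' k
    simp only [ψ]
    rw [← Equiv.sum_comp (Equiv.mulLeft k)]
    apply Finset.sum_congr rfl
    intro x _
    simp only [Equiv.coe_mulLeft]
    have : k * x * h * (k * x)⁻¹ = k * g' * k⁻¹ ↔ x * h * x⁻¹ = g' := by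
      constructor
      · intro h1
        have : k * (x * h * x⁻¹) * k⁻¹ = k * g' * k⁻¹ := by rw [← h1]; group
        simpa using this
      · intro h1; rw [← h1]; group
    simp only [this]
  have hexp := classfun_expansion ψ hψ
  have hpair : ∀ χ : IrrCharacter G, pair ψ (χ : G → ℂ) = (χ : G → ℂ) h⁻¹ := by
    intro χ
    unfold pair
    simp only [ψ]
    simp_rw [Finset.sum_mul]
    rw [Finset.sum_comm]
    have : ∀ x : G, ∑ g' : G, (if x * h * x⁻¹ = g' then (1 : ℂ) else 0) * (χ : G → ℂ) g'⁻¹
        = (χ : G → ℂ) h⁻¹ := by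
      intro x
      rw [Finset.sum_eq_single (x * h * x⁻¹)]
      · simp only [if_true, one_mul]
        rw [show (x * h * x⁻¹)⁻¹ = x * h⁻¹ * x⁻¹ by group, irr_class]
      · intro b _ hb
        rw [if_neg (Ne.symm hb), zero_mul]
      · intro hx; exact absurd (Finset.mem_univ _) hx
    simp_rw [this]
    rw [Finset.sum_const, Finset.card_univ, nsmul_eq_mul, ← Nat.card_eq_fintype_card,
      ← mul_assoc, inv_mul_cancel₀ card_ne_zero_complex, one_mul]
  have := congrFun hexp g
  simp only [Finset.sum_apply, Pi.smul_apply, smul_eq_mul, hpair] at this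
  simp only [ψ] at this
  rw [this]
  exact Finset.sum_congr rfl (fun χ _ => mul_comm _ _)

end WSum

end Cfsg.Agent.Helper79
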