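import Mathlib
import Cfsg.Agent.Lib.Helper32.C3Defs
import Cfsg.Agent.Lib.Helper54.Solv

/-!
# C3 (B1): `b` lies in the preimage of `O_3(S / O_{3'}(S))`
-/

set_option autoImplicit false
set_option linter.style.haveILetI false

namespace Cfsg.Agent.Helper79.C3

open Cfsg.Agent.Helper32.C3

universe u v

/-- **B1.** -/
theorem exists_normal_three_mod {S : Type u} [Group S] [Finite S] {E : Type v} [AddCommGroup E]
    [Module (ZMod 3) E] [Finite E] (ρ : Representation (ZMod 3) S E) (B : Subgroup S) (b : S)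
    (E₀ E₁ : Submodule (ZMod 3) E) (Q : Subgroup S) (P : Sylow 3 S)
    (h : Hyp ρ B b E₀ E₁ Q P) :
    ∃ N : Subgroup S, N.Normal ∧ b ∈ N ∧ ∀ x ∈ N, ∃ j : ℕ, x ^ (3 ^ j) ∈ Cfsg.pPrimeCore 3 S := by
  haveI : Fact (Nat.Prime 3) := ⟨Nat.prime_three⟩
  haveI : Group.IsSolvable S := h.solv
  set K : Subgroup S := Cfsg.pPrimeCore 3 S with hK
  set π : S →* S ⧸ K := QuotientGroup.mk' K with hπ
  have hsurj : Function.Surjective π := QuotientGroup.mk'_surjective K
  have hbot : Cfsg.pPrimeCore 3 (S ⧸ K) = ⊥ := Cfsg.Agent.Helper54.pPrimeCore_quotient_eq_bot 3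
  have hcen := Cfsg.Agent.Helper54.centralizer_pCore_le (G := S ⧸ K) 3 hbot
  set O : Subgroup (S ⧸ K) := Cfsg.pCore 3 (S ⧸ K) with hO
  have hOP : O ≤ (P : Subgroup S).map π := by
    have := Cfsg.Agent.Helper54.pCore_le_sylow (P.mapSurjective hsurj)
    rwa [Sylow.coe_mapSurjective] at this
  -- `b` is central in `P`
  have hbB : b ∈ B := by
    rw [← h.hb]
    exact Subgroup.mem_zpowers b
  have hbZ : b ∈ (Subgroup.center ↥(P : Subgroup S)).map (P : Subgroup S).subtype := by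
    rw [h.hBZ]
    exact hbB
  obtain ⟨z, hz, hzb⟩ := Subgroup.mem_map.mp hbZ
  have hbcomm : ∀ x ∈ (P : Subgroup S), x * b = b * x := by
    intro x hx
    have h1 := (Subgroup.mem_center_iff.mp hz) ⟨x, hx⟩
    have h2 := congrArg (fun t : ↥(P : Subgroup S) => (t : S)) h1
    simp only [Subgroup.coe_mul] at h2
    rw [← hzb]
    exact h2
  have hπb : π b ∈ O := by
    apply hcen
    rw [Subgroup.mem_centralizer_iff]
    intro o ho
    obtain ⟨x, hx, rfl⟩ := Subgroup.mem_map.mp (hOP ho)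
    rw [← map_mul, ← map_mul, hbcomm x hx]
  refine ⟨O.comap π, inferInstance, hπb, ?_⟩
  intro x hx
  have hxO : π x ∈ O := hx
  obtain ⟨j, hj⟩ := (Cfsg.Agent.Helper54.isPGroup_pCore (G := S ⧸ K) (p := 3)) ⟨π x, hxO⟩
  refine ⟨j, ?_⟩
  have h1 : (π x) ^ (3 ^ j) = 1 := by
    have := congrArg (fun t : ↥O => (t : S ⧸ K)) hj
    simpa using this
  rw [← map_pow] at h1
  exact (QuotientGroup.eq_one_iff _).mp h1

end Cfsg.Agent.Helper79.C3
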