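import Mathlib
import Cfsg.Agent.Lib.Helper32.C3Defs

/-!
# C3 (B2): the four-group `Q` lies in `O_{3'}(S)` and in `[O_{3'}(S), <b>]`
-/

set_option autoImplicit false

namespace Cfsg.Agent.Helper79.C3

open Cfsg.Agent.Helper32.C3
open scoped commutatorElement

universe u v

/-- an element of order 3 acting nontrivially on a four-group: every element is a commutator -/
theorem h79_four_comm {S : Type u} [Group S] (Q : Subgroup S) (b : S)
    (hcard : Nat.card ↥Q = 4) (hsq : ∀ q ∈ Q, q * q = 1)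
    (hcomm : ∀ x ∈ Q, ∀ y ∈ Q, x * y = y * x)
    (hnorm : ∀ q ∈ Q, b * q * b⁻¹ ∈ Q) (hb3 : b ^ 3 = 1)
    (hne : ∃ q ∈ Q, b * q * b⁻¹ ≠ q) :
    ∀ q ∈ Q, ∃ q' ∈ Q, q = q' * (b * q'⁻¹ * b⁻¹) := by
  classical
  obtain ⟨a, haQ, hsa⟩ := hne
  have hinv : ∀ q ∈ Q, q⁻¹ = q := fun q hq => inv_eq_of_mul_eq_one_left (hsq q hq)
  -- conjugation by `b`
  have hsinj : ∀ x y : S, b * x * b⁻¹ = b * y * b⁻¹ → x = y := by
    intro x y hxy
    have := congrArg (fun t => b⁻¹ * t * b) hxy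
    simpa [mul_assoc] using this
  have hs3 : ∀ x : S, b * (b * (b * x * b⁻¹) * b⁻¹) * b⁻¹ = x := by
    intro x
    have h1 : b * (b * (b * x * b⁻¹) * b⁻¹) * b⁻¹ = b ^ 3 * x * (b ^ 3)⁻¹ := by
      simp only [pow_succ, pow_zero, one_mul, mul_inv_rev, mul_assoc]
    rw [h1, hb3, inv_one, one_mul, mul_one]
  have hsmul : ∀ x y : S, b * (x * y) * b⁻¹ = (b * x * b⁻¹) * (b * y * b⁻¹) := by
    intro x y
    simp [mul_assoc]
  obtain ⟨c, hc⟩ : ∃ c : S, c = b * a * b⁻¹ := ⟨_, rfl⟩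
  rw [← hc] at hsa
  have hcQ : c ∈ Q := hc ▸ hnorm a haQ
  obtain ⟨d, hd⟩ : ∃ d : S, d = a * c := ⟨_, rfl⟩
  have hdQ : d ∈ Q := hd ▸ Q.mul_mem haQ hcQ
  have ha1 : a ≠ 1 := by
    intro h
    apply hsa
    rw [hc, h]
    simp
  have hc1 : c ≠ 1 := by
    intro h
    apply ha1
    apply hsinj
    rw [← hc, h]
    simp
  have hd1 : d ≠ 1 := by
    intro h
    apply hsa
    rw [hd] at h
    have h2 : c = a⁻¹ := (inv_eq_of_mul_eq_one_right h).symm
    rw [h2, hinv a haQ]
  have hda : d ≠ a := by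
    intro h
    apply hc1
    rw [hd] at h
    exact mul_eq_left.mp h
  have hdc : d ≠ c := by
    intro h
    apply ha1
    rw [hd] at h
    exact mul_eq_right.mp h
  -- enumeration of `Q`
  have hall : ∀ q ∈ Q, q = 1 ∨ q = a ∨ q = c ∨ q = d := by
    set F : Finset S := {1, a, c, d} with hF
    have hFcard : F.card = 4 := by
      rw [hF, Finset.card_insert_of_notMem, Finset.card_insert_of_notMem,
        Finset.card_insert_of_notMem, Finset.card_singleton]
      · simp only [Finset.mem_singleton]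
        exact fun h => hdc h.symm
      · simp only [Finset.mem_insert, Finset.mem_singleton, not_or]
        exact ⟨fun h => hsa h.symm, fun h => hda h.symm⟩
      · simp only [Finset.mem_insert, Finset.mem_singleton, not_or]
        exact ⟨fun h => ha1 h.symm, fun h => hc1 h.symm, fun h => hd1 h.symm⟩
    have hFQ : (F : Set S) ⊆ (Q : Set S) := by
      intro x hx
      rw [hF] at hx
      simp only [Finset.coe_insert, Finset.coe_singleton, Set.mem_insert_iff,
        Set.mem_singleton_iff] at hx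
      rcases hx with rfl | rfl | rfl | rfl
      · exact Q.one_mem
      · exact haQ
      · exact hcQ
      · exact hdQ
    have hQfin : (Q : Set S).Finite := by
      apply Set.finite_of_ncard_pos
      rw [← Nat.card_coe_set_eq]
      show 0 < Nat.card ↥Q
      omega
    have hEq : (F : Set S) = (Q : Set S) := by
      apply Set.eq_of_subset_of_ncard_le hFQ _ hQfin
      rw [Set.ncard_coe_finset, hFcard, ← Nat.card_coe_set_eq]
      show Nat.card ↥Q ≤ 4
      omega
    intro q hq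
    have hqF : q ∈ (F : Set S) := by
      rw [hEq]
      exact hq
    rw [hF] at hqF
    simpa using hqF
  -- the image of `c`
  have hscd : b * c * b⁻¹ = d := by
    rcases hall _ (hnorm c hcQ) with h | h | h | h
    · exfalso
      apply hc1
      apply hsinj
      rw [h]
      simp
    · exfalso
      apply hsa
      have h3 := hs3 a
      rw [← hc, h] at h3
      rw [hc]
      exact h3
    · exfalso
      apply hsa
      apply hsinj
      rw [← hc]
      exact h
    · exact h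
  have hsdd : b * d * b⁻¹ = c * d := by
    have h1 : b * d * b⁻¹ = b * (a * c) * b⁻¹ := by rw [hd]
    rw [h1, hsmul, ← hc, hscd]
  intro q hq
  rcases hall q hq with h | h | h | h
  · exact ⟨1, Q.one_mem, by simp [h]⟩
  · refine ⟨c, hcQ, ?_⟩
    have h1 : b * c⁻¹ * b⁻¹ = d := by
      rw [hinv c hcQ, hscd]
    rw [h1, hd, hcomm a haQ c hcQ, ← mul_assoc, hsq c hcQ, one_mul, h]
  · refine ⟨d, hdQ, ?_⟩
    have h1 : b * d⁻¹ * b⁻¹ = c * d := by
      rw [hinv d hdQ, hsdd]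
    rw [h1, hcomm c hcQ d hdQ, ← mul_assoc, hsq d hdQ, one_mul, h]
  · refine ⟨a, haQ, ?_⟩
    rw [hinv a haQ, ← hc, h, hd]

/-- **B2.** -/
theorem Q_le_core {S : Type u} [Group S] [Finite S] {E : Type v} [AddCommGroup E]
    [Module (ZMod 3) E] [Finite E] (ρ : Representation (ZMod 3) S E) (B : Subgroup S) (b : S)
    (E₀ E₁ : Submodule (ZMod 3) E) (Q : Subgroup S) (P : Sylow 3 S)
    (h : Hyp ρ B b E₀ E₁ Q P)
    (hN : ∃ N : Subgroup S, N.Normal ∧ b ∈ N ∧ ∀ x ∈ N, ∃ j : ℕ, x ^ (3 ^ j) ∈ Cfsg.pPrimeCore 3 S) :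
    Q ≤ Cfsg.pPrimeCore 3 S ∧ Four Q b ∧ Q ≤ ⁅Cfsg.pPrimeCore 3 S, Subgroup.zpowers b⁆ := by
  obtain ⟨N, hNn, hbN, hNK⟩ := hN
  have hbB : b ∈ B := by
    rw [← h.hb]
    exact Subgroup.mem_zpowers b
  have hb3 : b ^ 3 = 1 := by
    have h1 : orderOf b = 3 := by
      rw [← Nat.card_zpowers, h.hb]
      exact h.cardB
    rw [← h1]
    exact pow_orderOf_eq_one b
  have hsq : ∀ q ∈ Q, q * q = 1 := by
    intro q hq
    rw [← pow_two]
    exact h.hQ.2 q hq
  have hcomm : ∀ x ∈ Q, ∀ y ∈ Q, x * y = y * x := by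
    intro x hx y hy
    have := h.hQ.1.is_comm.comm (⟨x, hx⟩ : ↥Q) ⟨y, hy⟩
    exact congrArg Subtype.val this
  have hnorm : ∀ q ∈ Q, b * q * b⁻¹ ∈ Q := by
    intro q hq
    exact (Subgroup.mem_normalizer_iff.mp (h.hBQ hbB) q).mp hq
  have hne : ∃ q ∈ Q, b * q * b⁻¹ ≠ q := by
    by_contra hcon
    push Not at hcon
    apply h.hBQ'
    rw [← h.hb, Subgroup.zpowers_le]
    rw [Subgroup.mem_centralizer_iff]
    intro q hq
    have := hcon q hq
    calc q * b = (b * q * b⁻¹) * b := by rw [this]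
      _ = b * q := by group
  have hfour : Four Q b := ⟨h.hQ4, hsq, hnorm, hne⟩
  have hcommut := h79_four_comm Q b h.hQ4 hsq hcomm hnorm hb3 hne
  have hQN : Q ≤ N := by
    intro q hq
    obtain ⟨q', hq', rfl⟩ := hcommut q hq
    have h1 : q' * (b * q'⁻¹ * b⁻¹) = (q' * b * q'⁻¹) * b⁻¹ := by group
    rw [h1]
    exact N.mul_mem (hNn.conj_mem b hbN q') (N.inv_mem hbN)
  have hQK : Q ≤ Cfsg.pPrimeCore 3 S := by
    intro q hq
    obtain ⟨j, hj⟩ := hNK q (hQN hq)
    have hodd : Odd (3 ^ j) := Odd.pow (by decide)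
    obtain ⟨k, hk⟩ := hodd
    have h2 : q ^ (3 ^ j) = q := by
      rw [hk, pow_succ, pow_mul, pow_two, hsq q hq, one_pow, one_mul]
    rwa [h2] at hj
  refine ⟨hQK, hfour, ?_⟩
  intro q hq
  obtain ⟨q', hq', rfl⟩ := hcommut q hq
  have h1 : q' * (b * q'⁻¹ * b⁻¹) = ⁅q', b⁆ := by
    rw [commutatorElement_def]
    group
  rw [h1]
  exact Subgroup.commutator_mem_commutator (hQK hq') (Subgroup.mem_zpowers b)

end Cfsg.Agent.Helper79.C3
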