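import Mathlib
import Cfsg.Agent.Lib.Helper32.C3Defs
import Cfsg.Agent.Lib.Helper52.Coprime

/-!
# C3 (C1): commutator facts for a normal `3'`-subgroup `K` and an element `b` of order dividing 3
-/

set_option autoImplicit false

namespace Cfsg.Agent.Helper79.C3

open Cfsg.Agent.Helper32.C3

universe u v

/-- **C1.** -/
theorem commutator_facts {S : Type u} [Group S] [Finite S] (K : Subgroup S) [K.Normal]
    (hK : (Nat.card K).Coprime 3) (b : S) (hb3 : b ^ 3 = 1) :
    ⁅K, Subgroup.zpowers b⁆ ≤ K ∧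
      b ∈ Subgroup.normalizer ((⁅K, Subgroup.zpowers b⁆ : Subgroup S) : Set S) ∧
      K ≤ Subgroup.normalizer ((⁅K, Subgroup.zpowers b⁆ : Subgroup S) : Set S) ∧
      ⁅⁅K, Subgroup.zpowers b⁆, Subgroup.zpowers b⁆ = ⁅K, Subgroup.zpowers b⁆ := by
  refine ⟨Subgroup.commutator_le_left _ _, ?_, ?_, ?_⟩
  · exact Subgroup.normalizer_commutator_ge_right K (Subgroup.zpowers b)
      (Subgroup.mem_zpowers b)
  · exact Subgroup.normalizer_commutator_ge_left K (Subgroup.zpowers b)
  · apply Cfsg.Agent.Helper52.commutator_commutator_eq K (Subgroup.zpowers b)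
    · rw [Subgroup.normalizer_eq_top]
      exact le_top
    · have h1 : Nat.card (Subgroup.zpowers b) ∣ 3 := by
        rw [Nat.card_zpowers]
        exact orderOf_dvd_of_pow_eq_one hb3
      exact Nat.Coprime.coprime_dvd_left h1 hK.symm
    · left
      infer_instance
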