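import Mathlib
import Cfsg.Agent.Lib.Helper32.C3Defs

/-!
# C3 (O2): an element of odd order inverted by a reflection moves at most a plane
-/

set_option autoImplicit false
set_option linter.unusedVariables false

namespace Cfsg.Agent.Helper79.C3

open Cfsg.Agent.Helper32.C3

universe u v

theorem h79_rho_mul {G : Type u} [Group G] {V : Type v} [AddCommGroup V]
    [Module (ZMod 3) V] (ρ : Representation (ZMod 3) G V) (a c : G) (v : V) :
    ρ (a * c) v = ρ a (ρ c v) := by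
  rw [map_mul]
  rfl

/-- **O2.** -/
theorem two_reflections {G : Type u} [Group G] [Finite G] {V : Type v} [AddCommGroup V]
    [Module (ZMod 3) V] [Finite V] (ρ : Representation (ZMod 3) G V) (q y : G) (hq : q * q = 1)
    (hinv : q * y * q⁻¹ = y⁻¹) (hy : Odd (orderOf y)) (C : Submodule (ZMod 3) V)
    (hCq : ∀ v ∈ C, ρ q v ∈ C) (hCy : ∀ v ∈ C, ρ y v ∈ C)
    (hrefl : Module.finrank (ZMod 3) ↥(C.map (dl ρ q)) ≤ 1) :
    Module.finrank (ZMod 3) ↥(C.map (dl ρ y)) ≤ 2 := by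
  obtain ⟨k, hk⟩ := hy
  obtain ⟨y₂, hy₂⟩ : ∃ y₂ : G, y₂ = y ^ (k + 1) := ⟨_, rfl⟩
  have hy22 : y₂ * y₂ = y := by
    rw [hy₂, ← pow_add]
    have h1 : k + 1 + (k + 1) = orderOf y + 1 := by omega
    rw [h1, pow_succ, pow_orderOf_eq_one, one_mul]
  have hconj : q * y₂ * q⁻¹ = y₂⁻¹ := by
    rw [hy₂, ← conj_pow, hinv, inv_pow]
  have hpowC : ∀ (n : ℕ), ∀ v ∈ C, ρ (y ^ n) v ∈ C := by
    intro n
    induction n with
    | zero =>
      intro v hv
      rw [pow_zero, map_one]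
      exact hv
    | succ n ih =>
      intro v hv
      rw [pow_succ, h79_rho_mul]
      exact ih _ (hCy v hv)
  have hy2C : ∀ v ∈ C, ρ y₂ v ∈ C := by
    intro v hv
    rw [hy₂]
    exact hpowC _ v hv
  -- `t = q y = y₂⁻¹ q y₂`
  have ht : q * y = y₂⁻¹ * q * y₂ := by
    have h1 : y₂⁻¹ * q * y₂ = (q * y₂ * q⁻¹) * q * y₂ := by rw [hconj]
    rw [h1, ← hy22]
    group
  have hqt : q * (q * y) = y := by
    rw [← mul_assoc, hq, one_mul]
  have ht1 : ∀ v ∈ C, dl ρ (q * y) v ∈ (C.map (dl ρ q)).map (ρ y₂⁻¹) := by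
    intro v hv
    refine ⟨dl ρ q (ρ y₂ v), ⟨ρ y₂ v, hy2C v hv, rfl⟩, ?_⟩
    rw [dl_apply, dl_apply, ht, map_sub, h79_rho_mul, h79_rho_mul, ← h79_rho_mul ρ y₂⁻¹ y₂,
      inv_mul_cancel, map_one]
    rfl
  have hle1 : C.map (dl ρ (q * y)) ≤ (C.map (dl ρ q)).map (ρ y₂⁻¹) := by
    rintro w ⟨v, hv, rfl⟩
    exact ht1 v hv
  have hle2 : C.map (dl ρ y) ≤ (C.map (dl ρ (q * y))).map (ρ q) ⊔ C.map (dl ρ q) := by
    rintro w ⟨v, hv, rfl⟩
    have h1 : dl ρ y v = ρ q (dl ρ (q * y) v) + dl ρ q v := by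
      rw [dl_apply, dl_apply, dl_apply, map_sub, ← h79_rho_mul, hqt]
      abel
    rw [h1]
    apply Submodule.add_mem_sup
    · exact ⟨dl ρ (q * y) v, ⟨v, hv, rfl⟩, rfl⟩
    · exact ⟨v, hv, rfl⟩
  have hf1 : Module.finrank (ZMod 3) ↥(C.map (dl ρ (q * y))) ≤ 1 := by
    calc Module.finrank (ZMod 3) ↥(C.map (dl ρ (q * y)))
        ≤ Module.finrank (ZMod 3) ↥((C.map (dl ρ q)).map (ρ y₂⁻¹)) := Submodule.finrank_mono hle1
      _ ≤ Module.finrank (ZMod 3) ↥(C.map (dl ρ q)) := Submodule.finrank_map_le _ _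
      _ ≤ 1 := hrefl
  calc Module.finrank (ZMod 3) ↥(C.map (dl ρ y))
      ≤ Module.finrank (ZMod 3) ↥((C.map (dl ρ (q * y))).map (ρ q) ⊔ C.map (dl ρ q)) :=
        Submodule.finrank_mono hle2
    _ ≤ Module.finrank (ZMod 3) ↥((C.map (dl ρ (q * y))).map (ρ q)) +
        Module.finrank (ZMod 3) ↥(C.map (dl ρ q)) :=
        Submodule.finrank_add_le_finrank_add_finrank _ _
    _ ≤ Module.finrank (ZMod 3) ↥(C.map (dl ρ (q * y))) + 1 :=
        Nat.add_le_add (Submodule.finrank_map_le _ _) hrefl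
    _ ≤ 2 := by omega
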