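import Mathlib

/-!
# JPC server (helper35, S4150), piece (E0): `closure_alt_equiv`
-/

set_option autoImplicit false

namespace Cfsg.Agent.Helper79.JPC

open Equiv Equiv.Perm MulAction Subgroup

universe u

/-- (E0) the subgroup generated by two elements of `alternatingGroup α` is isomorphic to the
subgroup of `Perm α` generated by their underlying permutations. -/
theorem closure_alt_equiv {α : Type u} [Fintype α] [DecidableEq α] (x y : alternatingGroup α) :
    Nonempty (closure ({x, y} : Set (alternatingGroup α)) ≃*
      closure ({(x : Perm α), (y : Perm α)} : Set (Perm α))) := by
  have h : (closure ({x, y} : Set (alternatingGroup α))).map (alternatingGroup α).subtype =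
      closure ({(x : Perm α), (y : Perm α)} : Set (Perm α)) := by
    rw [MonoidHom.map_closure]
    congr 1
    simp [Set.image_pair]
  exact ⟨((closure ({x, y} : Set (alternatingGroup α))).equivMapOfInjective _
    (Subgroup.subtype_injective _)).trans (MulEquiv.subgroupCongr h)⟩

end Cfsg.Agent.Helper79.JPC
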