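import Mathlib
import Cfsg.Agent.Lib.Helper13.JPCW
import Cfsg.Agent.Lib.Helper47.JPCJ2
import Cfsg.Agent.Lib.Helper58.JPCJ3
import Cfsg.Agent.Lib.Helper58.JPCJ1

/-!
# JPC server (helper35, S4150), piece (J): Jordan's prime-cycle theorem
-/

set_option autoImplicit false

namespace Cfsg.Agent.Helper79.JPC

open Equiv Equiv.Perm MulAction Subgroup

universe u

theorem j_swap_mem_iff {Ω : Type u} [DecidableEq Ω] (Δ : Finset Ω) {a b : Ω} (ha : a ∈ Δ)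
    (hb : b ∈ Δ) (t : Ω) : swap a b t ∈ Δ ↔ t ∈ Δ := by
  by_cases h1 : t = a
  · subst h1
    rw [swap_apply_left]
    exact ⟨fun _ => ha, fun _ => hb⟩
  · by_cases h2 : t = b
    · subst h2
      rw [swap_apply_right]
      exact ⟨fun _ => hb, fun _ => ha⟩
    · rw [swap_apply_of_ne_of_ne h1 h2]

/-- (J) Jordan: a primitive group containing a cycle of prime length `ℓ ≤ card Ω - 3` contains
the alternating group. -/
theorem jordan_prime_cycle {Ω : Type u} [Fintype Ω] [DecidableEq Ω] (G : Subgroup (Perm Ω))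
    (hG : IsPreprimitive G Ω) {ℓ : ℕ} (hℓ : ℓ.Prime) (hℓ' : ℓ + 3 ≤ Fintype.card Ω)
    {g : Perm Ω} (hgc : g.IsCycle) (hgℓ : g.support.card = ℓ) (hg : g ∈ G) :
    alternatingGroup Ω ≤ G := by
  by_cases hℓ3 : ℓ = 3
  · have h3 : g.IsThreeCycle := card_support_eq_three_iff.1 (by rw [hgℓ, hℓ3])
    exact alternatingGroup_le_of_isPreprimitive_of_isThreeCycle_mem hG h3 hg
  -- the complement of the support
  set Δ : Finset Ω := g.supportᶜ with hΔ
  have hΔmem : ∀ t, t ∈ Δ ↔ t ∉ g.support := fun t => Finset.mem_compl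
  have hΔcard : Δ.card = Fintype.card Ω - ℓ := by
    rw [hΔ, Finset.card_compl, hgℓ]
  have hΔ3 : 2 < Δ.card := by
    rw [hΔcard]; omega
  have hℓ2 : 2 ≤ ℓ := hℓ.two_le
  -- multiple transitivity
  have hk : IsMultiplyPretransitive G Ω Δ.card := by
    have h1 : IsMultiplyPretransitive G Ω (Fintype.card Ω - ℓ + 1) :=
      Cfsg.Agent.Helper47.JPC.isMultiplyPretransitive_of_prime_cycle G hG hℓ (by omega) hgc hgℓ hg
    rw [hΔcard]
    exact isMultiplyPretransitive_of_le (n := Fintype.card Ω - ℓ + 1) (Nat.le_succ _)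
      (by rw [Nat.card_eq_fintype_card]; omega)
  -- the Sylow subgroup `⟨g⟩` of the pointwise fixer of `Δ`
  have hRG : zpowers g ≤ G := (zpowers_le).2 hg
  have hRΔ : ∀ r ∈ zpowers g, ∀ t ∈ Δ, r t = t := by
    intro r hr t ht
    obtain ⟨i, rfl⟩ := mem_zpowers_iff.1 hr
    have : g t = t := by
      have := (hΔmem t).1 ht
      rwa [mem_support, not_not] at this
    exact zpow_apply_eq_self_of_apply_eq_self this i
  have hRp : IsPGroup ℓ (zpowers g) := by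
    have : Fact ℓ.Prime := ⟨hℓ⟩
    apply IsPGroup.of_card (n := 1)
    rw [Nat.card_zpowers, hgc.orderOf, hgℓ, pow_one]
  have hmax : ∀ R' : Subgroup (Perm Ω), R' ≤ G → (∀ r ∈ R', ∀ t ∈ Δ, r t = t) →
      IsPGroup ℓ R' → zpowers g ≤ R' → R' ≤ zpowers g := by
    intro R' _ hfix hp hle
    exact Cfsg.Agent.Helper58.JPC.zpowers_cycle_max hℓ hgc hgℓ R'
      (fun r hr t ht => hfix r hr t ((hΔmem t).2 ht)) hp hle
  -- three points of `Δ`
  obtain ⟨a, ha, b, hb, d, hd, hab, had, hbd⟩ := Finset.two_lt_card.1 hΔ3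
  obtain ⟨a₁, ha₁G, ha₁N, ha₁Δ⟩ := Cfsg.Agent.Helper13.JPC.witt G Δ hk ℓ hℓ (zpowers g) hRG hRΔ
    hRp hmax (swap a b) (j_swap_mem_iff Δ ha hb)
  obtain ⟨a₂, ha₂G, ha₂N, ha₂Δ⟩ := Cfsg.Agent.Helper13.JPC.witt G Δ hk ℓ hℓ (zpowers g) hRG hRΔ
    hRp hmax (swap b d) (j_swap_mem_iff Δ hb hd)
  -- the inverses act on `Δ` as the same transpositions
  have hinv₁ : ∀ t ∈ Δ, a₁⁻¹ t = swap a b t := by
    intro t ht
    have hs : swap a b t ∈ Δ := (j_swap_mem_iff Δ ha hb t).2 ht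
    have := ha₁Δ _ hs
    rw [swap_apply_self] at this
    rw [Perm.inv_eq_iff_eq]
    exact this.symm
  have hinv₂ : ∀ t ∈ Δ, a₂⁻¹ t = swap b d t := by
    intro t ht
    have hs : swap b d t ∈ Δ := (j_swap_mem_iff Δ hb hd t).2 ht
    have := ha₂Δ _ hs
    rw [swap_apply_self] at this
    rw [Perm.inv_eq_iff_eq]
    exact this.symm
  -- the commutator
  set c : Perm Ω := (a₂ * a₁)⁻¹ * (a₁ * a₂) with hc
  have hcG : c ∈ G := G.mul_mem (G.inv_mem (G.mul_mem ha₂G ha₁G)) (G.mul_mem ha₁G ha₂G)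
  obtain ⟨n₁, hn₁⟩ := mem_zpowers_iff.1 ((ha₁N g).2 (mem_zpowers g))
  obtain ⟨n₂, hn₂⟩ := mem_zpowers_iff.1 ((ha₂N g).2 (mem_zpowers g))
  have hX : (a₁ * a₂) * g * (a₁ * a₂)⁻¹ = g ^ (n₁ * n₂) := by
    have : (a₁ * a₂) * g * (a₁ * a₂)⁻¹ = a₁ * (a₂ * g * a₂⁻¹) * a₁⁻¹ := by group
    rw [this, ← hn₂, ← conj_zpow, ← hn₁, ← zpow_mul]
  have hY : (a₂ * a₁) * g * (a₂ * a₁)⁻¹ = g ^ (n₁ * n₂) := by
    have : (a₂ * a₁) * g * (a₂ * a₁)⁻¹ = a₂ * (a₁ * g * a₁⁻¹) * a₂⁻¹ := by group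
    rw [this, ← hn₁, ← conj_zpow, ← hn₂, ← zpow_mul, mul_comm]
  have hcomm : Commute c g := by
    show c * g = g * c
    have h1 : (a₁ * a₂) * g = g ^ (n₁ * n₂) * (a₁ * a₂) := by
      rw [← hX]; group
    have h2 : (a₂ * a₁) * g = g ^ (n₁ * n₂) * (a₂ * a₁) := by
      rw [← hY]; group
    have h3 : (a₂ * a₁)⁻¹ * g ^ (n₁ * n₂) = g * (a₂ * a₁)⁻¹ := by
      rw [eq_mul_inv_iff_mul_eq, mul_assoc, ← h2]; group
    rw [hc, mul_assoc, h1, ← mul_assoc, h3, mul_assoc]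
  -- the action of `c` on `Δ`
  have hcΔ : ∀ t ∈ Δ, c t = swap a b (swap b d (swap a b (swap b d t))) := by
    intro t ht
    have h1 : swap b d t ∈ Δ := (j_swap_mem_iff Δ hb hd t).2 ht
    have h2 : swap a b (swap b d t) ∈ Δ := (j_swap_mem_iff Δ ha hb _).2 h1
    have h3 : swap b d (swap a b (swap b d t)) ∈ Δ := (j_swap_mem_iff Δ hb hd _).2 h2
    have : c t = a₁⁻¹ (a₂⁻¹ (a₁ (a₂ t))) := by
      rw [hc, mul_inv_rev]; rfl
    rw [this, ha₂Δ t ht, ha₁Δ _ h1, hinv₂ _ h2, hinv₁ _ h3]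
  have hca : c a = d := by
    rw [hcΔ a ha, swap_apply_of_ne_of_ne hab had, swap_apply_left, swap_apply_left,
      swap_apply_of_ne_of_ne had.symm hbd.symm]
  have hcd : c d = b := by
    rw [hcΔ d hd, swap_apply_right, swap_apply_right, swap_apply_of_ne_of_ne hab had,
      swap_apply_left]
  have hcb : c b = a := by
    rw [hcΔ b hb, swap_apply_left, swap_apply_of_ne_of_ne had.symm hbd.symm, swap_apply_right,
      swap_apply_right]
  have hcfix : ∀ t, t ∉ g.support → t ≠ a → t ≠ d → t ≠ b → c t = t := by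
    intro t ht hta htd htb
    rw [hcΔ t ((hΔmem t).2 ht), swap_apply_of_ne_of_ne htb htd, swap_apply_of_ne_of_ne hta htb,
      swap_apply_of_ne_of_ne htb htd, swap_apply_of_ne_of_ne hta htb]
  have h3c : (c ^ ℓ).IsThreeCycle :=
    Cfsg.Agent.Helper58.JPC.isThreeCycle_pow_of_commute hℓ hℓ3 hgc hgℓ hcomm
      ((hΔmem a).1 ha) ((hΔmem d).1 hd) ((hΔmem b).1 hb) had hbd.symm hab hca hcd hcb hcfix
  exact alternatingGroup_le_of_isPreprimitive_of_isThreeCycle_mem hG h3c (G.pow_mem hcG ℓ)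

end Cfsg.Agent.Helper79.JPC
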