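import Mathlib
import Cfsg.Agent.Lib.Helper41.JPCTR
import Cfsg.Agent.Lib.Helper41.JPCTR2
import Cfsg.Agent.Lib.Helper8.JPCPR
import Cfsg.Agent.Lib.Helper79.JPCJ

/-!
# JPC server (helper35, S4150), pieces (GEN1), (GEN2): generic generation theorems
-/

set_option autoImplicit false

namespace Cfsg.Agent.Helper79.JPC

open Equiv Equiv.Perm MulAction Subgroup

universe u

/-- (GEN1) two prime cycles with overlapping supports covering `Ω` generate at least `A_Ω`. -/
theorem alt_le_closure_of_cycles {Ω : Type u} [Fintype Ω] [DecidableEq Ω] {p q : ℕ}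
    (hp : p.Prime) (hq : q.Prime) {x y : Perm Ω} (hx : x.IsCycle) (hxp : x.support.card = p)
    (hy : y.IsCycle) (hyq : y.support.card = q) (hun : x.support ∪ y.support = Finset.univ)
    (hmeet : ¬ Disjoint x.support y.support) (hcard : Fintype.card Ω < 2 * q)
    (hp3 : p = 3 ∨ p + 3 ≤ Fintype.card Ω) :
    alternatingGroup Ω ≤ closure ({x, y} : Set (Perm Ω)) := by
  have hxG : x ∈ closure ({x, y} : Set (Perm Ω)) := subset_closure (by simp)
  have hyG : y ∈ closure ({x, y} : Set (Perm Ω)) := subset_closure (by simp)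
  have htr : IsPretransitive (closure ({x, y} : Set (Perm Ω))) Ω :=
    Cfsg.Agent.Helper41.JPC.isPretransitive_closure_pair hx hy hun hmeet
  have hpr : IsPreprimitive (closure ({x, y} : Set (Perm Ω))) Ω :=
    Cfsg.Agent.Helper8.JPC.isPreprimitive_of_prime_cycle _ htr hq hy hyq hyG hcard
  rcases hp3 with h | h
  · subst h
    have h3 : x.IsThreeCycle := card_support_eq_three_iff.1 hxp
    exact alternatingGroup_le_of_isPreprimitive_of_isThreeCycle_mem hpr h3 hxG
  · exact jordan_prime_cycle _ hpr hp h hx hxp hxG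

/-- (GEN2) a product of two `p`-cycles on `2p` points and a `q`-cycle, `p < q ≤ 2p - 3`, generate
at least `A_Ω`. -/
theorem alt_le_closure_of_double {Ω : Type u} [Fintype Ω] [DecidableEq Ω] {p q : ℕ}
    (hp : p.Prime) (hq : q.Prime) {x y : Perm Ω} (hxt : x.cycleType = {p, p})
    (hcard : Fintype.card Ω = 2 * p) (hy : y.IsCycle) (hyq : y.support.card = q)
    (hpq : p < q) (hq3 : q + 3 ≤ 2 * p) :
    alternatingGroup Ω ≤ closure ({x, y} : Set (Perm Ω)) := by
  have hyG : y ∈ closure ({x, y} : Set (Perm Ω)) := subset_closure (by simp)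
  have htr : IsPretransitive (closure ({x, y} : Set (Perm Ω))) Ω :=
    Cfsg.Agent.Helper41.JPC.isPretransitive_closure_pair' hxt hcard hy (by rw [hyq]; exact hpq)
  have hpr : IsPreprimitive (closure ({x, y} : Set (Perm Ω))) Ω :=
    Cfsg.Agent.Helper8.JPC.isPreprimitive_of_prime_cycle _ htr hq hy hyq hyG (by rw [hcard]; omega)
  exact jordan_prime_cycle _ hpr hq (by rw [hcard]; exact hq3) hy hyq hyG

end Cfsg.Agent.Helper79.JPC
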