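import Mathlib
import Cfsg.Agent.Lib.Helper70.JPCM6a
import Cfsg.Agent.Lib.Helper33.JPCM6b

/-!
# JPC server (helper35, S4150), piece (M6): `closure_six`
-/

set_option autoImplicit false

namespace Cfsg.Agent.Helper79.JPC

open Equiv Equiv.Perm MulAction Subgroup

universe u

/-- (M6) on six points, a product of two 3-cycles and a 5-cycle generate `A₅` or `A₆`. -/
theorem closure_six {Ω : Type u} [Fintype Ω] [DecidableEq Ω]
    (hcard : Fintype.card Ω = 6) {x y : Perm Ω} (hxt : x.cycleType = {3, 3}) (hy : y.IsCycle)
    (hy5 : y.support.card = 5) :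
    Nonempty (closure ({x, y} : Set (Perm Ω)) ≃* alternatingGroup (Fin 5)) ∨
      Nonempty (closure ({x, y} : Set (Perm Ω)) ≃* alternatingGroup (Fin 6)) := by
  have hxA : x ∈ alternatingGroup Ω := by
    rw [mem_alternatingGroup, sign_of_cycleType, hxt]
    decide
  have hyA : y ∈ alternatingGroup Ω := by
    rw [mem_alternatingGroup, hy.sign, hy5]
    decide
  have hle : closure ({x, y} : Set (Perm Ω)) ≤ alternatingGroup Ω := by
    rw [closure_le]
    rintro _ (rfl | rfl)
    · exact hxA
    · exact hyA
  rcases Cfsg.Agent.Helper70.JPC.card_closure_six hcard hxt hy hy5 with h | h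
  · left
    exact Cfsg.Agent.Helper33.JPC.equiv_alt_five_of_card_sixty hcard _ hle h
  · right
    have hnt : Nontrivial Ω := Fintype.one_lt_card_iff_nontrivial.1 (by omega)
    have hA : Nat.card (alternatingGroup Ω) = 360 := by
      rw [nat_card_alternatingGroup, Nat.card_eq_fintype_card, hcard]
      decide
    have heq : closure ({x, y} : Set (Perm Ω)) = alternatingGroup Ω := by
      apply Subgroup.eq_of_le_of_card_ge hle
      rw [h, hA]
    have e : Ω ≃ Fin 6 := Fintype.equivFinOfCardEq hcard
    exact ⟨(MulEquiv.subgroupCongr heq).trans (Equiv.altCongrHom e)⟩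

end Cfsg.Agent.Helper79.JPC
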