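import Mathlib
import Cfsg.Agent.Lib.Helper47.JPCJ2
import Cfsg.Agent.Lib.Helper19.JPCT13a
import Cfsg.Agent.Lib.Helper17.JPCT13b
import Cfsg.Agent.Lib.Helper94.JPCT13cOf
import Cfsg.Agent.Lib.Helper13.JPCW
import Cfsg.Agent.Lib.Helper10.JPCT13c2

/-!
# JPC server (helper35, S4150), piece (T13): `alt_le_closure_thirteen`
-/

set_option autoImplicit false

namespace Cfsg.Agent.Helper79.JPC

open Equiv Equiv.Perm MulAction Subgroup

universe u

/-- (T13) an 11-cycle and a 13-cycle on 13 points generate at least `A₁₃`. -/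
theorem alt_le_closure_thirteen {Ω : Type u} [Fintype Ω] [DecidableEq Ω]
    (hcard : Fintype.card Ω = 13) {x y : Perm Ω} (hx : x.IsCycle) (hx11 : x.support.card = 11)
    (hy : y.IsCycle) (hy13 : y.support.card = 13) :
    alternatingGroup Ω ≤ closure ({x, y} : Set (Perm Ω)) := by
  have hxG : x ∈ closure ({x, y} : Set (Perm Ω)) := subset_closure (by simp)
  have hyG : y ∈ closure ({x, y} : Set (Perm Ω)) := subset_closure (by simp)
  have hxA : x ∈ alternatingGroup Ω := by
    rw [mem_alternatingGroup, hx.sign, hx11]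
    decide
  have hyA : y ∈ alternatingGroup Ω := by
    rw [mem_alternatingGroup, hy.sign, hy13]
    decide
  have hle : closure ({x, y} : Set (Perm Ω)) ≤ alternatingGroup Ω := by
    rw [closure_le]
    rintro _ (rfl | rfl)
    · exact hxA
    · exact hyA
  have hsupp : y.support = Finset.univ :=
    Finset.eq_univ_of_card _ (by rw [hy13, hcard])
  have htr : IsPretransitive (closure ({x, y} : Set (Perm Ω))) Ω := by
    refine ⟨fun a b => ?_⟩
    have ha : y a ≠ a := by
      rw [← mem_support, hsupp]; exact Finset.mem_univ _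
    have hb : y b ≠ b := by
      rw [← mem_support, hsupp]; exact Finset.mem_univ _
    obtain ⟨i, hi⟩ := hy.sameCycle ha hb
    exact ⟨⟨y ^ i, Subgroup.zpow_mem _ hyG i⟩, hi⟩
  have hpr : IsPreprimitive (closure ({x, y} : Set (Perm Ω))) Ω := by
    have := htr
    apply IsPreprimitive.of_prime_card
    rw [Nat.card_eq_fintype_card, hcard]
    norm_num
  have h3 : IsMultiplyPretransitive (closure ({x, y} : Set (Perm Ω))) Ω 3 := by
    have := Cfsg.Agent.Helper47.JPC.isMultiplyPretransitive_of_prime_cycle _ hpr (by norm_num : Nat.Prime 11)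
      (by rw [hcard]; norm_num) hx hx11 hxG
    rwa [hcard] at this
  obtain ⟨n, hnG, hnfix, hnorm, hnot⟩ := Cfsg.Agent.Helper19.JPC.exists_normalizer_elt hcard _ hle h3 hx hx11 hxG
  obtain ⟨hn5, hn10⟩ := Cfsg.Agent.Helper17.JPC.normalizer_elt_structure hcard hx hx11 (hle hnG) hnfix hnorm hnot
  obtain ⟨w, hwG, hw3⟩ := Cfsg.Agent.Helper94.JPC.exists_isThreeCycle_of_five_of
    (fun G Δ hk ℓ hℓ R hRG hRΔ hRp hmax σ hσ =>
      Cfsg.Agent.Helper13.JPC.witt G Δ hk ℓ hℓ R hRG hRΔ hRp hmax σ hσ)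
    (fun hc R hR => Cfsg.Agent.Helper10.JPC.isThreeCycle_pow_forty hc R hR)
    hcard _ h3 hnG hn5 hn10
  exact alternatingGroup_le_of_isPreprimitive_of_isThreeCycle_mem hpr hw3 hwG

end Cfsg.Agent.Helper79.JPC
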