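import Mathlib
import Cfsg.Agent.Lib.Helper40.OPF.Defs
import Cfsg.Agent.Lib.Helper5.OrthLag8
import Cfsg.Agent.Lib.Helper79.OMFF3o

/-!
# OPF (ODD): odd characteristic, `σ` of odd order: `Inndiag = Inn · C_Inndiag(φ_σ)` for `PΩ⁺`
(helper40 server OPF / helper5 server PFA, row S2715); port of `OMFF3o` through its generic `core`.
-/

set_option autoImplicit false
set_option linter.unusedSectionVars false
set_option linter.unusedVariables false

namespace Cfsg.Agent.Helper79.OPF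

open Matrix QuadraticMap Cfsg.Agent.Helper43 Cfsg.Agent.Helper5.OrthAut Cfsg.Agent.Helper40.AutPOm

section Plus

variable {F : Type*} [Field F] [Fintype F]

theorem h79_deltaPlus_map_of_fixed (m : ℕ) (ν : Fˣ) (σ : F ≃+* F) (hν : σ (ν : F) = ν) :
    mapGL σ (deltaPlus m ν : GL (Fin m ⊕ Fin m) F) = deltaPlus m ν := by
  apply Units.ext
  rw [mapGL_coe, deltaPlus, diagGL_coe, Matrix.diagonal_map (map_zero σ)]
  congr 1
  funext x
  rcases x with x | x
  · simp [hν]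
  · simp

theorem h79_sig_hyp_vec_plus (m : ℕ) (i0 : Fin m) (c : F) (σ : F ≃+* F) (hc : σ c = c) :
    (fun i => σ (((Pi.single (Sum.inl i0) 1 : Fin m ⊕ Fin m → F) +
      c • (Pi.single (Sum.inr i0) 1 : Fin m ⊕ Fin m → F)) i)) =
      (Pi.single (Sum.inl i0) 1 : Fin m ⊕ Fin m → F) +
        c • (Pi.single (Sum.inr i0) 1 : Fin m ⊕ Fin m → F) := by
  funext j
  simp only [Pi.add_apply, Pi.smul_apply, Pi.single_apply, smul_eq_mul, map_add, map_mul, hc]
  split_ifs <;> simp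

theorem h79_Q_hyp_vec_plus (m : ℕ) (i0 : Fin m) (c : F) :
    stdPlus F m ((Pi.single (Sum.inl i0) 1 : Fin m ⊕ Fin m → F) +
      c • (Pi.single (Sum.inr i0) 1 : Fin m ⊕ Fin m → F)) = c := by
  have h := stdPlus_isHypFamily F m
  rw [QuadraticMap.map_add (stdPlus F m), QuadraticMap.map_smul, h.qe i0, h.qf i0,
    polar_smul_right, h.ef i0 i0, if_pos rfl]
  simp

end Plus

variable {F₀ : Type*} [Field F₀] [Fintype F₀] {F : Type*} [Field F] [Fintype F]

/-- piece ODD -/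
theorem inndiag_eq_inn_mul_cent_odd_plus (hodd : Odd (Fintype.card F)) {m : ℕ} (hm : 3 ≤ m)
    (emb : F₀ →+* F) (σ : F ≃+* F) {r : ℕ} (hr : Odd r) (hσ : orderOf σ = r)
    (hι1 : ∀ x, σ (emb x) = emb x) (hι2 : ∀ y, σ y = y → ∃ x, emb x = y)
    (hQA : ∀ σ : F ≃+* F, σ ∈ QAut (⇑(stdPlus F m)))
    (δ : MulAut (Cfsg.POmega F ⇑(stdPlus F m))) (hδ : δ ∈ Cfsg.inndiagPOmegaPlus m F) :
    ∃ t c : MulAut (Cfsg.POmega F ⇑(stdPlus F m)),
      t ∈ Cfsg.Inn (Cfsg.POmega F ⇑(stdPlus F m)) ∧ c ∈ Cfsg.inndiagPOmegaPlus m F ∧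
      c * fieldAutStd (⇑(stdPlus F m)) hQA σ = fieldAutStd (⇑(stdPlus F m)) hQA σ * c ∧
      δ = t * c := by
  classical
  have h2 := Cfsg.Agent.Helper5.OrthAut.two_ne_zero_of_odd_card hodd
  have hfam := stdPlus_isHypFamily F m
  have hnd := stdPlus_nondegenerate F m
  have hcard : Fintype.card (Fin m ⊕ Fin m) = 2 * m := by simp; ring
  have hQ0 := hQ0_of_hyp (stdPlus F m) hfam (by omega)
  have hperf := hperf_of_hyp (stdPlus F m) hnd _ _ hfam (by omega) (by rw [hcard]; omega)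
  have hcent := hcent_of_hyp (stdPlus F m) hfam (by omega)
    (Cfsg.Agent.Lead.POmegaCard.hspan_plus m)
  have haux := inndiag_eq_inD_plus (F := F) m h2 hQ0
  have claim : ∀ (δ' : MulAut (Cfsg.POmega F ⇑(stdPlus F m))),
      δ' ∈ inD (stdPlus F m) hQ0 m →
      ∃ t c : MulAut (Cfsg.POmega F ⇑(stdPlus F m)),
        t ∈ Cfsg.Inn (Cfsg.POmega F ⇑(stdPlus F m)) ∧
        c ∈ inD (stdPlus F m) hQ0 m ∧
        c * fieldAutPOm ⇑(stdPlus F m) ⟨σ, hQA σ⟩ =
          fieldAutPOm ⇑(stdPlus F m) ⟨σ, hQA σ⟩ * c ∧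
        δ' = t * c := by
    intro δ' hδ'
    obtain ⟨x, hx, rfl⟩ := hδ'
    have hg : (x : GL (Fin m ⊕ Fin m) F) ∈ GO1 (stdPlus F m) hQ0 m := hx
    have hσr : σ ^ r = 1 := by
      rw [← hσ]
      exact pow_orderOf_eq_one σ
    have h2₀ : (2 : F₀) ≠ 0 := two_ne_zero_of_emb emb h2
    obtain ⟨ν₀, hν₀⟩ := exists_nonsquare_unit h2₀
    have hinj : Function.Injective emb := emb.injective
    have hν : ¬ IsSquare (emb (ν₀ : F₀)) := by
      apply not_isSquare_of_odd_order h2 σ hr hσr _ (hι1 _)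
      intro c hc hcc
      obtain ⟨c₀, rfl⟩ := hι2 c hc
      apply hν₀
      refine ⟨c₀, ?_⟩
      apply hinj
      rw [map_mul]
      exact hcc.symm
    have hν0 : emb (ν₀ : F₀) ≠ 0 := by
      rw [Ne, map_eq_zero_iff emb hinj]
      exact ν₀.ne_zero
    set μ : Fˣ := mult (stdPlus F m)
      ⟨(x : GL (Fin m ⊕ Fin m) F), GO1_le_GO _ hQ0 m hg⟩ with hμ
    have hsq : ∃ (μ₀ : F₀ˣ) (c : Fˣ), μ = c * c * Units.map (emb : F₀ →* F) μ₀ := by
      by_cases h : IsSquare (μ : F)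
      · obtain ⟨d, hd⟩ := h
        have hd0 : d ≠ 0 := by
          rintro rfl
          rw [mul_zero] at hd
          exact μ.ne_zero hd
        refine ⟨1, Units.mk0 d hd0, ?_⟩
        apply Units.ext
        rw [map_one, mul_one, Units.val_mul, Units.val_mk0]
        exact hd
      · obtain ⟨d, hd⟩ := isSquare_mul_of_not_isSquare h hν
        have hd0 : d ≠ 0 := by
          rintro rfl
          rw [mul_zero] at hd
          exact (mul_ne_zero μ.ne_zero hν0) hd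
        refine ⟨ν₀, Units.mk0 (d / emb (ν₀ : F₀)) (div_ne_zero hd0 hν0), ?_⟩
        apply Units.ext
        rw [Units.val_mul, Units.val_mul, Units.val_mk0]
        show (μ : F) = d / emb (ν₀ : F₀) * (d / emb (ν₀ : F₀)) * emb (ν₀ : F₀)
        field_simp
        rw [hd]
        ring
    obtain ⟨μ₀, c, hμc⟩ := hsq
    set ν' : Fˣ := Units.map (emb : F₀ →* F) μ₀ with hν'
    have hν'c : (ν' : F) = emb (μ₀ : F₀) := rfl
    set E : GL (Fin m ⊕ Fin m) F := deltaPlus m ν' with hE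
    have hEGO : E ∈ GO (stdPlus F m) := deltaPlus_mem m ν'
    have hmuE : mult (stdPlus F m) ⟨E, hEGO⟩ = ν' :=
      mult_unique _ hQ0 _ _ (deltaPlus_sim m ν')
    have hE1 : E ∈ GO1 (stdPlus F m) hQ0 m := by
      rw [mem_GO1]
      refine ⟨hEGO, ?_⟩
      apply Units.ext
      rw [dHom_coe, hmuE, Units.val_one]
      show ((deltaPlus m ν' : GL (Fin m ⊕ Fin m) F) :
        Matrix (Fin m ⊕ Fin m) (Fin m ⊕ Fin m) F).det * _ = 1
      rw [deltaPlus_det]
      exact mul_inv_cancel₀ (pow_ne_zero _ (Units.ne_zero _))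
    have hEσ : mapGL σ E = E :=
      h79_deltaPlus_map_of_fixed m ν' σ (by rw [hν'c]; exact hι1 _)
    have i0 : Fin m := ⟨0, by omega⟩
    have key := Cfsg.Agent.Helper79.OMF.core (stdPlus F m) hperf hcent hQ0 m hnd h2 hcard
      (Or.inr (by rw [hcard]; omega)) ⟨σ, hQA σ⟩ (x : GL (Fin m ⊕ Fin m) F) hg E hE1 hEσ c
      (by rw [hmuE]; exact hμc)
      ((Pi.single (Sum.inl i0) 1 : Fin m ⊕ Fin m → F) +
        (1 : F) • (Pi.single (Sum.inr i0) 1 : Fin m ⊕ Fin m → F))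
      ((Pi.single (Sum.inl i0) 1 : Fin m ⊕ Fin m → F) +
        emb (ν₀ : F₀) • (Pi.single (Sum.inr i0) 1 : Fin m ⊕ Fin m → F))
      (h79_sig_hyp_vec_plus m i0 1 σ (map_one σ)) (h79_sig_hyp_vec_plus m i0 _ σ (hι1 _))
      (by rw [h79_Q_hyp_vec_plus, h79_Q_hyp_vec_plus, one_mul]; exact hν)
    exact key
  rw [← haux] at claim
  exact claim δ hδ

end Cfsg.Agent.Helper79.OPF
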