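import Mathlib
import Cfsg.Agent.Lib.Helper43.Tri.Rel

/-!
# TRI server (helper43, S0817), piece (NUC): `nucleus`
-/

set_option autoImplicit false

namespace Cfsg.Agent.Helper79.Tri

open Matrix QuadraticMap Cfsg.Agent.Helper13 Cfsg.Agent.Helper43 Cfsg.Agent.Helper5.OAut Module
open Cfsg.Agent.Helper43.Tri Cfsg.Agent.Helper43.OGam

variable {F : Type*} [Field F]

/-- (NUC) the middle nucleus of the split octonions is `F·1`. -/
theorem nucleus (c : OV F) (h : ∀ x y : OV F, omul (omul x c) y = omul x (omul c y)) :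
    ∃ l : F, c = l • oone := by
  have e1 := congrFun (h (Pi.single (Sum.inl 0) 1) (Pi.single (Sum.inl 1) 1)) (Sum.inr 3)
  have e2 := congrFun (h (Pi.single (Sum.inl 0) 1) (Pi.single (Sum.inl 1) 1)) (Sum.inr 2)
  have e3 := congrFun (h (Pi.single (Sum.inl 0) 1) (Pi.single (Sum.inl 2) 1)) (Sum.inr 3)
  have e4 := congrFun (h (Pi.single (Sum.inl 0) 1) (Pi.single (Sum.inr 1) 1)) (Sum.inl 2)
  have e5 := congrFun (h (Pi.single (Sum.inl 0) 1) (Pi.single (Sum.inr 1) 1)) (Sum.inl 3)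
  have e6 := congrFun (h (Pi.single (Sum.inl 0) 1) (Pi.single (Sum.inr 2) 1)) (Sum.inl 3)
  have e7 := congrFun (h (Pi.single (Sum.inl 1) 1) (Pi.single (Sum.inl 2) 1)) (Sum.inr 3)
  simp [omul_inl0, omul_inl1, omul_inl2, omul_inl3, omul_inr0, omul_inr1, omul_inr2, omul_inr3] at e1 e2 e3 e4 e5 e6 e7
  refine ⟨c (Sum.inl 0), ?_⟩
  apply ov_ext <;>
    simp only [Pi.smul_apply, smul_eq_mul, oone_inl0, oone_inl1, oone_inl2, oone_inl3, oone_inr0,
      oone_inr1, oone_inr2, oone_inr3, mul_one, mul_zero]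
  all_goals first | assumption | exact e5.symm

end Cfsg.Agent.Helper79.Tri
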