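import Mathlib
import Cfsg.Agent.Lib.Helper43.Tri.Rel

/-!
# TRI server (helper43, S0817), piece (PERF): `exists_rel_omega`
-/

set_option autoImplicit false

namespace Cfsg.Agent.Helper79.Tri

open Matrix QuadraticMap Cfsg.Agent.Helper13 Cfsg.Agent.Helper43 Cfsg.Agent.Helper5.OAut Module
open Cfsg.Agent.Helper43.Tri Cfsg.Agent.Helper43.OGam

variable {F : Type*} [Field F]

/-- the first components of related triples whose second component lies in `Ω` -/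
def perfDom : Subgroup (O8 F) where
  carrier := {g₀ | ∃ g₁ ∈ Cfsg.Omega F ⇑(stdPlus F 4), ∃ g₂ : O8 F, Rel g₀ g₁ g₂}
  one_mem' := ⟨1, Subgroup.one_mem _, 1, Rel.one⟩
  mul_mem' := by
    rintro a b ⟨a1, ha1, a2, ha⟩ ⟨b1, hb1, b2, hb⟩
    exact ⟨a1 * b1, Subgroup.mul_mem _ ha1 hb1, a2 * b2, ha.mul hb⟩
  inv_mem' := by
    rintro a ⟨a1, ha1, a2, ha⟩
    exact ⟨a1⁻¹, Subgroup.inv_mem _ ha1, a2⁻¹, ha.inv⟩

/-- (PERF) perfectness trick -/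
theorem exists_rel_omega (hperf : commutator ↥(Cfsg.Omega F ⇑(stdPlus F 4)) = ⊤)
    (hgen : ∀ g₀ ∈ Cfsg.Omega F ⇑(stdPlus F 4), ∃ g₁ g₂ : O8 F, Rel g₀ g₁ g₂) :
    ∀ g₀ ∈ Cfsg.Omega F ⇑(stdPlus F 4), ∃ g₁ ∈ Cfsg.Omega F ⇑(stdPlus F 4),
      ∃ g₂ : O8 F, Rel g₀ g₁ g₂ := by
  have h1 : ⁅Cfsg.Omega F ⇑(stdPlus F 4), Cfsg.Omega F ⇑(stdPlus F 4)⁆ =
      Cfsg.Omega F ⇑(stdPlus F 4) := by
    rw [← Subgroup.map_subtype_commutator, hperf, ← MonoidHom.range_eq_map,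
      Subgroup.range_subtype]
  have h2 : ⁅Cfsg.Omega F ⇑(stdPlus F 4), Cfsg.Omega F ⇑(stdPlus F 4)⁆ ≤ (perfDom : Subgroup (O8 F)) := by
    rw [Subgroup.commutator_le]
    intro a ha b hb
    obtain ⟨a1, a2, hra⟩ := hgen a ha
    obtain ⟨b1, b2, hrb⟩ := hgen b hb
    refine ⟨a1 * b1 * a1⁻¹ * b1⁻¹, ?_, a2 * b2 * a2⁻¹ * b2⁻¹, ?_⟩
    · have := Subgroup.commutator_mem_commutator
        (Subgroup.mem_top (a1 : ↥(Cfsg.isometryGroup F ⇑(stdPlus F 4))))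
        (Subgroup.mem_top (b1 : ↥(Cfsg.isometryGroup F ⇑(stdPlus F 4))))
      rwa [commutatorElement_def] at this
    · rw [commutatorElement_def]
      exact ((hra.mul hrb).mul hra.inv).mul hrb.inv
  intro g₀ hg₀
  rw [← h1] at hg₀
  exact h2 hg₀

end Cfsg.Agent.Helper79.Tri
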