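import Mathlib
import Cfsg.Agent.Lib.Helper43.Tri.Rel

/-!
# TRI server (helper43, S0817), piece (TAU): `exists_tau`, the triality homomorphism
-/

set_option autoImplicit false

namespace Cfsg.Agent.Helper79.Tri

open Matrix QuadraticMap Cfsg.Agent.Helper13 Cfsg.Agent.Helper43 Cfsg.Agent.Helper5.OAut Module
open Cfsg.Agent.Helper43.Tri Cfsg.Agent.Helper43.OGam

variable {F : Type*} [Field F]

/-- an element of `Ω` acting as a scalar is central -/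
theorem tau_central_of_scalar (z : ↥(Cfsg.Omega F ⇑(stdPlus F 4))) (c : F)
    (hz : ∀ y : OV F, (z : O8 F) • y = c • y) :
    z ∈ Subgroup.center ↥(Cfsg.Omega F ⇑(stdPlus F 4)) := by
  rw [Subgroup.mem_center_iff]
  intro k
  apply Subtype.ext
  apply O_ext (stdPlus F 4)
  intro x
  show ((k : O8 F) * (z : O8 F)) • x = ((z : O8 F) * (k : O8 F)) • x
  rw [mul_smul, mul_smul, hz, hz]
  exact O_smul_smul_comm (stdPlus F 4) (k : O8 F) c x

/-- (TAU) the triality homomorphism -/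
theorem exists_tau (C : Ctx (stdPlus F 4))
    (hex : ∀ g₀ ∈ Cfsg.Omega F ⇑(stdPlus F 4), ∃ g₁ ∈ Cfsg.Omega F ⇑(stdPlus F 4),
      ∃ g₂ : O8 F, Rel g₀ g₁ g₂)
    (huniq : ∀ {g₀ g₁ g₂ g₁' g₂' : O8 F}, Rel g₀ g₁ g₂ → Rel g₀ g₁' g₂' →
      ∃ c : F, ∀ x : OV F, g₁' • x = c • (g₁ • x)) :
    ∃ τ : Cfsg.POmega F ⇑(stdPlus F 4) →* Cfsg.POmega F ⇑(stdPlus F 4),
      ∀ (g₀ g₁ : ↥(Cfsg.Omega F ⇑(stdPlus F 4))) (g₂ : O8 F),
        Rel (g₀ : O8 F) (g₁ : O8 F) g₂ → τ (prj (stdPlus F 4) g₀) = prj (stdPlus F 4) g₁ := by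
  classical
  have hex' : ∀ g₀ : ↥(Cfsg.Omega F ⇑(stdPlus F 4)), ∃ g₁ : ↥(Cfsg.Omega F ⇑(stdPlus F 4)),
      ∃ g₂ : O8 F, Rel (g₀ : O8 F) (g₁ : O8 F) g₂ := by
    intro g₀
    obtain ⟨g₁, hg₁, g₂, hr⟩ := hex g₀ g₀.2
    exact ⟨⟨g₁, hg₁⟩, g₂, hr⟩
  choose s hs using hex'
  -- independence of the choice
  have key : ∀ (g₀ g₁ : ↥(Cfsg.Omega F ⇑(stdPlus F 4))) (g₂ : O8 F),
      Rel (g₀ : O8 F) (g₁ : O8 F) g₂ → prj (stdPlus F 4) (s g₀) = prj (stdPlus F 4) g₁ := by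
    intro g₀ g₁ g₂ hr
    obtain ⟨g₂', hr'⟩ := hs g₀
    obtain ⟨c, hc⟩ := huniq hr' hr
    rw [prj_eq_iff]
    apply tau_central_of_scalar _ c
    intro y
    show ((s g₀ : O8 F)⁻¹ * (g₁ : O8 F)) • y = c • y
    rw [mul_smul, hc y]
    have := O_smul_smul_comm (stdPlus F 4) ((s g₀ : O8 F)⁻¹) c ((s g₀ : O8 F) • y)
    exact this.trans (congrArg (fun v => c • v) (inv_smul_smul (s g₀ : O8 F) y))
  -- the homomorphism on `Ω`
  let τ₀ : ↥(Cfsg.Omega F ⇑(stdPlus F 4)) →* Cfsg.POmega F ⇑(stdPlus F 4) :=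
    { toFun := fun g => prj (stdPlus F 4) (s g)
      map_one' := by
        have := key 1 1 1 Rel.one
        rw [this, map_one]
      map_mul' := by
        intro g h
        obtain ⟨a2, ha⟩ := hs g
        obtain ⟨b2, hb⟩ := hs h
        have := key (g * h) (s g * s h) (a2 * b2) (ha.mul hb)
        rw [this, map_mul] }
  have hτ₀ : ∀ g, τ₀ g = prj (stdPlus F 4) (s g) := fun g => rfl
  have hker : Subgroup.center ↥(Cfsg.Omega F ⇑(stdPlus F 4)) ≤ τ₀.ker := by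
    intro z hz
    rw [MonoidHom.mem_ker, hτ₀]
    obtain ⟨c₀, hc₀⟩ := C.hcen z hz
    have hrel : Rel (z : O8 F) ((1 : ↥(Cfsg.Omega F ⇑(stdPlus F 4))) : O8 F) (z : O8 F) := by
      intro x y
      have h1 : (z : O8 F) • omul x y = c₀ • omul x y := hc₀ (omul x y)
      have h2 : (z : O8 F) • y = c₀ • y := hc₀ y
      rw [h1, h2, omul_smul_right]
      show c₀ • omul x y = c₀ • omul ((1 : O8 F) • x) y
      rw [one_smul]
    rw [key z 1 (z : O8 F) hrel, map_one]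
  refine ⟨QuotientGroup.lift _ τ₀ hker, ?_⟩
  intro g₀ g₁ g₂ hr
  show QuotientGroup.lift _ τ₀ hker (QuotientGroup.mk g₀) = _
  rw [QuotientGroup.lift_mk, hτ₀]
  exact key g₀ g₁ g₂ hr

end Cfsg.Agent.Helper79.Tri
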