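import Mathlib
import Cfsg.Agent.Lib.Helper43.Tri.Rel

/-!
# TRI server (helper43, S0817), piece (UNIQ): `rel_unique`
-/

set_option autoImplicit false

namespace Cfsg.Agent.Helper79.Tri

open Matrix QuadraticMap Cfsg.Agent.Helper13 Cfsg.Agent.Helper43 Cfsg.Agent.Helper5.OAut Module
open Cfsg.Agent.Helper43.Tri Cfsg.Agent.Helper43.OGam

variable {F : Type*} [Field F]

/-- (UNIQ) the second component of a related triple is determined by the first up to a
scalar. -/
theorem rel_unique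
    (hnuc : ∀ c : OV F, (∀ x y : OV F, omul (omul x c) y = omul x (omul c y)) → ∃ l : F, c = l • oone)
    {g₀ g₁ g₂ g₁' g₂' : O8 F} (h : Rel g₀ g₁ g₂) (h' : Rel g₀ g₁' g₂') :
    ∃ c : F, ∀ x : OV F, g₁' • x = c • (g₁ • x) := by
  obtain ⟨h₁, hh₁⟩ : ∃ h₁ : O8 F, h₁ = g₁⁻¹ * g₁' := ⟨_, rfl⟩
  obtain ⟨h₂, hh₂⟩ : ∃ h₂ : O8 F, h₂ = g₂⁻¹ * g₂' := ⟨_, rfl⟩
  have hrel : Rel (1 : O8 F) h₁ h₂ := by
    have := h.inv.mul h'
    rwa [inv_mul_cancel, ← hh₁, ← hh₂] at this
  have hxy : ∀ x y : OV F, omul x y = omul (h₁ • x) (h₂ • y) := by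
    intro x y
    have := hrel x y
    rwa [one_smul] at this
  obtain ⟨c₁, hc₁⟩ : ∃ c₁ : OV F, c₁ = h₁ • oone := ⟨_, rfl⟩
  obtain ⟨c₂, hc₂⟩ : ∃ c₂ : OV F, c₂ = h₂ • oone := ⟨_, rfl⟩
  have N1 : stdPlus F 4 c₁ = 1 := by
    rw [hc₁]
    exact (O_Q_smul (stdPlus F 4) h₁ oone).trans N_oone
  have N2 : stdPlus F 4 c₂ = 1 := by
    rw [hc₂]
    exact (O_Q_smul (stdPlus F 4) h₂ oone).trans N_oone
  have e1 : ∀ y, y = omul c₁ (h₂ • y) := by
    intro y
    have := hxy oone y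
    rwa [oone_omul, ← hc₁] at this
  have e2 : ∀ x, x = omul (h₁ • x) c₂ := by
    intro x
    have := hxy x oone
    rwa [omul_oone, ← hc₂] at this
  have f2 : ∀ y, h₂ • y = omul (oconj c₁) y := by
    intro y
    have := congrArg (omul (oconj c₁)) (e1 y)
    rw [oconj_omul_omul, N1, one_smul] at this
    exact this.symm
  have f1 : ∀ x, h₁ • x = omul x (oconj c₂) := by
    intro x
    have := congrArg (fun z => omul z (oconj c₂)) (e2 x)
    rw [omul_omul_oconj, N2, one_smul] at this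
    exact this.symm
  have e3 : omul c₁ c₂ = oone := by
    have := hxy oone oone
    rw [oone_omul, ← hc₁, ← hc₂] at this
    exact this.symm
  have e4 : c₂ = oconj c₁ := by
    have := congrArg (omul (oconj c₁)) e3
    rw [oconj_omul_omul, N1, one_smul, omul_oone] at this
    exact this
  have e5 : oconj c₂ = c₁ := by rw [e4, oconj_oconj]
  have hn : ∀ x y : OV F, omul (omul x (oconj c₁)) y = omul x (omul (oconj c₁) y) := by
    intro x y
    have := hxy (omul x (oconj c₁)) y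
    rw [f1, f2, e5, omul_oconj_omul_right, N1, one_smul] at this
    exact this
  obtain ⟨l, hl⟩ := hnuc (oconj c₁) hn
  have hc₁' : c₁ = l • oone := by
    have := congrArg oconj hl
    rwa [oconj_oconj, oconj_smul, oconj_oone] at this
  refine ⟨l, fun x => ?_⟩
  have hx : h₁ • x = l • x := by
    rw [f1, e5, hc₁', omul_smul_right, omul_oone]
  have hg : g₁' • x = g₁ • (h₁ • x) := by
    rw [hh₁, mul_smul, smul_inv_smul]
  rw [hg, hx]
  exact O_smul_smul_comm (stdPlus F 4) g₁ l x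

end Cfsg.Agent.Helper79.Tri
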