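import Mathlib
import Cfsg.Prelude.Def_Blocks
import Cfsg.Agent.Lib.Helper78.CharSchur
import Cfsg.Agent.Lib.Helper78.CharCount

set_option autoImplicit false

namespace Cfsg.Agent.Helper79.M11CT

open Cfsg
open scoped ComplexConjugate

universe u

open scoped Classical in
/-- column orthogonality in the form `∑ χ g * χ h⁻¹`, for an arbitrary `Fintype` instance -/
theorem h79_col {G : Type u} [Group G] [Fintype G] [inst : Fintype (IrrCharacter G)] (g h : G) :
    ∑ χ : IrrCharacter G, (χ : G → ℂ) g * (χ : G → ℂ) h⁻¹ =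
      if IsConj g h then (Nat.card (Subgroup.centralizer ({g} : Set G)) : ℂ) else 0 := by
  have hi : inst = Cfsg.Agent.Helper78.irr_fintype := Subsingleton.elim _ _
  subst hi
  rw [← Cfsg.Agent.Helper78.sum_irr_mul_conj g h]
  apply Finset.sum_congr rfl
  intro χ _
  rw [Cfsg.Agent.Helper78.IsIrrCharacter.inv χ.2]

/-- (COL) Column orthogonality at `x`. -/
theorem column_sums {G : Type u} [Group G] [Fintype G] [Fintype (IrrCharacter G)] (x : G) (hx1 : x ≠ 1) :
    (∑ χ : IrrCharacter G, (χ : G → ℂ) x * (χ : G → ℂ) x⁻¹ =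
        (Nat.card (Subgroup.centralizer ({x} : Set G)) : ℂ)) ∧
    (∑ χ : IrrCharacter G, (χ : G → ℂ) 1 * (χ : G → ℂ) x = 0) ∧
    (∑ χ : IrrCharacter G, (χ : G → ℂ) 1 * (χ : G → ℂ) x⁻¹ = 0) ∧
    (¬ IsConj x x⁻¹ → (∑ χ : IrrCharacter G, (χ : G → ℂ) x * (χ : G → ℂ) x = 0) ∧
        (∑ χ : IrrCharacter G, (χ : G → ℂ) x⁻¹ * (χ : G → ℂ) x⁻¹ = 0)) := by
  refine ⟨?_, ?_, ?_, ?_⟩
  · rw [h79_col x x, if_pos (IsConj.refl x)]
  · have h := h79_col (G := G) 1 x⁻¹
    rw [inv_inv] at h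
    rw [h, if_neg]
    intro hc
    have : x⁻¹ = 1 := isConj_one_right.mp hc
    exact hx1 (inv_eq_one.mp this)
  · have h := h79_col (G := G) 1 x
    rw [h, if_neg]
    intro hc
    exact hx1 (isConj_one_right.mp hc)
  · intro hn
    constructor
    · have h := h79_col (G := G) x x⁻¹
      rw [inv_inv] at h
      rw [h, if_neg hn]
    · have h := h79_col (G := G) x⁻¹ x
      rw [h, if_neg]
      intro hc
      exact hn hc.symm

end Cfsg.Agent.Helper79.M11CT
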