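import Mathlib
import Cfsg.Prelude.Def_Blocks
import Cfsg.Agent.Lib.Helper78.CharSchur
import Cfsg.Agent.Lib.Helper78.CharCount
import Cfsg.Agent.Lib.Helper79.M11CTMN
import Cfsg.Agent.Lib.Helper79.M11CTCOL

set_option autoImplicit false

namespace Cfsg.Agent.Helper79.M11CT

open Cfsg
open scoped ComplexConjugate

universe u

/-- a rational algebraic integer in `ℂ` is an integer -/
theorem h79_int_of_rat_integral (c : ℂ) (q : ℚ) (hc : c = (q : ℂ)) (hint : IsIntegral ℤ c) :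
    ∃ z : ℤ, c = (z : ℂ) := by
  rw [hc] at hint
  have h2 : IsIntegral ℤ q := (isIntegral_algebraMap_iff (algebraMap ℚ ℂ).injective).1 hint
  obtain ⟨z, hz⟩ := IsIntegrallyClosed.isIntegral_iff.1 h2
  refine ⟨z, ?_⟩
  rw [hc, ← hz]
  simp

/-- the value of a character on the powers of an element conjugate to all of its non-trivial powers -/
theorem h79_value_eq {G : Type u} [Group G] [Finite G] {χ : G → ℂ} (hχ : IsCharacter G χ)
    (x y : G) (h : IsConj x y) : χ y = χ x := by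
  obtain ⟨g, hg⟩ := isConj_iff.mp h
  rw [← hg]
  exact Cfsg.Agent.Helper78.IsCharacter.isClassFunction hχ x g

/-- (CT5) -/
theorem prime_class_int {G : Type u} [Group G] [Fintype G] [Fintype (IrrCharacter G)] (p : ℕ) (hp : p.Prime)
    (x : G) (hx : orderOf x = p) (hC : Nat.card (Subgroup.centralizer ({x} : Set G)) = p)
    (hconj : ∀ k : ℕ, 0 < k → k < p → IsConj x (x ^ k)) :
    ∃ c : IrrCharacter G → ℤ,
      (∀ χ : IrrCharacter G, (p : ℤ) ∣ (charDegree (χ : G → ℂ) : ℤ) - c χ) ∧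
      ∑ χ : IrrCharacter G, c χ ^ 2 = (p : ℤ) ∧ ∑ χ : IrrCharacter G, (charDegree (χ : G → ℂ) : ℤ) * c χ = 0 := by
  classical
  have hx1 : x ≠ 1 := by
    rintro rfl
    rw [orderOf_one] at hx
    exact hp.one_lt.ne hx
  obtain ⟨p', rfl⟩ : ∃ p', p = p' + 1 := ⟨p - 1, (Nat.succ_pred_eq_of_pos hp.pos).symm⟩
  have hp'0 : p' ≠ 0 := by
    rintro rfl
    exact hp.one_lt.ne rfl
  -- the key relation for each `χ`
  have hkey : ∀ χ : IrrCharacter G, ∃ m : ℕ, ((p' + 1 : ℕ) : ℂ) * (m : ℂ) =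
      (p' : ℂ) * (χ : G → ℂ) x + (charDegree (χ : G → ℂ) : ℂ) := by
    intro χ
    have hχc := Cfsg.Agent.Helper78.IsIrrCharacter.isCharacter χ.2
    obtain ⟨m, hm⟩ := mult_nat hχc x (p' + 1) (Nat.succ_pos _) hx 1 (one_pow _)
    refine ⟨m, ?_⟩
    rw [hm, Finset.sum_range_succ']
    simp only [one_pow, mul_one, pow_zero]
    rw [(Cfsg.Agent.Helper78.irr_charDegree χ.2).1]
    congr 1
    have : ∀ k ∈ Finset.range p', (χ : G → ℂ) (x ^ (k + 1)) = (χ : G → ℂ) x := by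
      intro k hk
      have hk' := Finset.mem_range.mp hk
      exact h79_value_eq hχc x _ (hconj (k + 1) (Nat.succ_pos _) (by omega))
    rw [Finset.sum_congr rfl this, Finset.sum_const, Finset.card_range, nsmul_eq_mul]
  have hint : ∀ χ : IrrCharacter G, ∃ z : ℤ, (χ : G → ℂ) x = (z : ℂ) := by
    intro χ
    obtain ⟨m, hm⟩ := hkey χ
    have hp'c : (p' : ℂ) ≠ 0 := Nat.cast_ne_zero.mpr hp'0
    apply h79_int_of_rat_integral _
      ((((p' + 1 : ℕ) : ℚ) * (m : ℚ) - (charDegree (χ : G → ℂ) : ℚ)) / (p' : ℚ))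
    · push_cast
      rw [eq_div_iff hp'c]
      push_cast at hm
      linear_combination -hm
    · exact Cfsg.Agent.Helper78.IsIrrCharacter.isIntegral χ.2 x
  choose c hc using hint
  have hcols := column_sums (G := G) x hx1
  refine ⟨c, ?_, ?_, ?_⟩
  · intro χ
    obtain ⟨m, hm⟩ := hkey χ
    rw [hc χ] at hm
    have hm' : ((p' + 1 : ℕ) : ℤ) * (m : ℤ) = (p' : ℤ) * c χ + (charDegree (χ : G → ℂ) : ℤ) := by
      exact_mod_cast hm
    refine ⟨(m : ℤ) - c χ, ?_⟩
    push_cast at hm' ⊢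
    linear_combination -hm'
  · have h1 := hcols.1
    rw [hC] at h1
    have h2 : ∀ χ : IrrCharacter G, (χ : G → ℂ) x * (χ : G → ℂ) x⁻¹ = ((c χ ^ 2 : ℤ) : ℂ) := by
      intro χ
      rw [Cfsg.Agent.Helper78.IsIrrCharacter.inv χ.2, hc χ, map_intCast]
      push_cast
      ring
    rw [Finset.sum_congr rfl (fun χ _ => h2 χ), ← Int.cast_sum] at h1
    exact_mod_cast h1
  · have h1 := hcols.2.1
    have h2 : ∀ χ : IrrCharacter G, (χ : G → ℂ) 1 * (χ : G → ℂ) x =
        (((charDegree (χ : G → ℂ) : ℤ) * c χ : ℤ) : ℂ) := by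
      intro χ
      rw [(Cfsg.Agent.Helper78.irr_charDegree χ.2).1, hc χ]
      push_cast
      ring
    rw [Finset.sum_congr rfl (fun χ _ => h2 χ), ← Int.cast_sum] at h1
    exact_mod_cast h1

end Cfsg.Agent.Helper79.M11CT
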