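import Mathlib
import Cfsg.Prelude.Def_Blocks
import Cfsg.Agent.Lib.Helper78.CharCount

/-!
# O4320 (B2c1): multiplicities of the trivial character on nested subgroups
-/

set_option autoImplicit false
set_option linter.style.haveILetI false

namespace Cfsg.Agent.Helper79.O4320

open Cfsg MulAction
open scoped ComplexConjugate

universe u

/-- (B2c1) -/
theorem sum_subgroup_mono {G : Type u} [Group G] {χ : G → ℂ} (hχ : IsCharacter G χ) (P D : Subgroup G)
    [Fintype P] [Fintype D] (hPD : P ≤ D) :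
    ∃ m₀ m₁ : ℕ, m₁ ≤ m₀ ∧ ∑ w : P, χ (w : G) = (Nat.card P : ℂ) * (m₀ : ℂ) ∧
      ∑ w : D, χ (w : G) = (Nat.card D : ℂ) * (m₁ : ℂ) := by
  obtain ⟨n, ρ, rfl⟩ := hχ
  let ρP : Representation ℂ P (Fin n → ℂ) := ρ.comp P.subtype
  let ρD : Representation ℂ D (Fin n → ℂ) := ρ.comp D.subtype
  have hneP : (Nat.card P : ℂ) ≠ 0 := Nat.cast_ne_zero.mpr Nat.card_pos.ne'
  have hneD : (Nat.card D : ℂ) ≠ 0 := Nat.cast_ne_zero.mpr Nat.card_pos.ne'
  haveI : Invertible (Nat.card P : ℂ) := invertibleOfNonzero hneP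
  haveI : Invertible (Nat.card D : ℂ) := invertibleOfNonzero hneD
  have h1 := Representation.card_inv_mul_sum_char_eq_finrank ρP
  have h2 := Representation.card_inv_mul_sum_char_eq_finrank ρD
  refine ⟨Module.finrank ℂ (Representation.invariants ρP),
    Module.finrank ℂ (Representation.invariants ρD), ?_, ?_, ?_⟩
  · apply Submodule.finrank_mono
    intro v hv
    rw [Representation.mem_invariants] at hv ⊢
    intro g
    exact hv ⟨(g : G), hPD g.2⟩
  · rw [← h1, ← mul_assoc, mul_inv_cancel₀ hneP, one_mul]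
    rfl
  · rw [← h2, ← mul_assoc, mul_inv_cancel₀ hneD, one_mul]
    rfl

end Cfsg.Agent.Helper79.O4320
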