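import Mathlib
import Cfsg.Prelude.Def_Blocks
import Cfsg.Agent.Lib.Helper78.CharSchur
import Cfsg.Agent.Lib.Helper78.CharCount
import Cfsg.Agent.Lib.Helper79.O4320B2b
import Cfsg.Agent.Lib.Helper10.O4320B2d

/-!
# O4320 (B2e), core: the identities, with the dihedral multiplicities (B2c3) as a hypothesis
-/

set_option autoImplicit false
set_option linter.style.haveILetI false

namespace Cfsg.Agent.Helper79.O4320

open Cfsg MulAction
open scoped ComplexConjugate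

universe u

/-- (B2e) core: assembly of B2b, B2d and the Schur relations; B2c3 enters as `hS` -/
theorem b2_identities_core {G : Type u} [Group G] [Fintype G] (hG : Nat.card G = 4320) (y t : G)
    (hy : orderOf y = 5) (hCy : Nat.card (Subgroup.centralizer ({y} : Set G)) = 5)
    (hconj : ∀ k : ℕ, 0 < k → k < 5 → IsConj y (y ^ k)) (ht : orderOf t = 2) (hty : t * y * t⁻¹ = y⁻¹)
    (hS : ∀ (χ : IrrCharacter G) (c : ℤ), ((c : ℤ) : ℂ) = (χ : G → ℂ) y →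
      ∃ (s : ℤ) (m₁ m₂ : ℕ), ((s : ℤ) : ℂ) = (χ : G → ℂ) t ∧
        10 * (m₁ : ℤ) = (charDegree (χ : G → ℂ) : ℤ) + 4 * c + 5 * s ∧
        10 * (m₂ : ℤ) = (charDegree (χ : G → ℂ) : ℤ) + 4 * c - 5 * s) :
    ∃ (c s : IrrCharacter G → ℤ) (T : ℕ), 0 < T ∧
      (∀ χ : IrrCharacter G, (χ : G → ℂ) = (fun _ => 1) → c χ = 1 ∧ s χ = 1) ∧
      (∀ χ : IrrCharacter G, (5 : ℤ) ∣ (charDegree (χ : G → ℂ) : ℤ) - c χ) ∧
      ∑ χ : IrrCharacter G, c χ ^ 2 = 5 ∧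
      ∑ χ : IrrCharacter G, (charDegree (χ : G → ℂ) : ℤ) * c χ = 0 ∧
      (∀ χ : IrrCharacter G, ∃ m₁ m₂ : ℕ,
        10 * (m₁ : ℤ) = (charDegree (χ : G → ℂ) : ℤ) + 4 * c χ + 5 * s χ ∧
        10 * (m₂ : ℤ) = (charDegree (χ : G → ℂ) : ℤ) + 4 * c χ - 5 * s χ) ∧
      ∑ χ : IrrCharacter G, s χ ^ 2 = (T : ℤ) ∧
      5 * (T : ℚ) ^ 2 = 4320 * ∑ χ : IrrCharacter G,
        (s χ : ℚ) ^ 2 * (c χ : ℚ) / (charDegree (χ : G → ℂ) : ℚ) := by
  obtain ⟨c, hcv, h5, hsq, hdc⟩ := class_int_exposed 5 (by norm_num) y hy hCy hconj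
  have hS' : ∀ χ : IrrCharacter G, ∃ (s : ℤ) (m₁ m₂ : ℕ), ((s : ℤ) : ℂ) = (χ : G → ℂ) t ∧
        10 * (m₁ : ℤ) = (charDegree (χ : G → ℂ) : ℤ) + 4 * c χ + 5 * s ∧
        10 * (m₂ : ℤ) = (charDegree (χ : G → ℂ) : ℤ) + 4 * c χ - 5 * s := fun χ => hS χ (c χ) (hcv χ)
  choose s m₁ m₂ hs hm1 hm2 using hS'
  refine ⟨c, s, Nat.card (Subgroup.centralizer ({t} : Set G)), Nat.card_pos, ?_, ?_, ?_, hdc,
    fun χ => ⟨m₁ χ, m₂ χ, hm1 χ, hm2 χ⟩, ?_, ?_⟩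
  · intro χ hχ
    constructor
    · have h1 : ((c χ : ℤ) : ℂ) = 1 := by
        rw [hcv χ, hχ]
      exact_mod_cast h1
    · have h1 : ((s χ : ℤ) : ℂ) = 1 := by
        rw [hs χ, hχ]
      exact_mod_cast h1
  · intro χ
    exact_mod_cast h5 χ
  · exact_mod_cast hsq
  · have h1 := Cfsg.Agent.Helper78.sum_irr_mul_conj t t
    rw [if_pos (IsConj.refl t)] at h1
    have h2 : ∀ χ : IrrCharacter G, (χ : G → ℂ) t * conj ((χ : G → ℂ) t) = ((s χ ^ 2 : ℤ) : ℂ) := by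
      intro χ
      rw [← hs χ, map_intCast]
      push_cast
      ring
    rw [Finset.sum_congr rfl (fun χ _ => h2 χ), ← Int.cast_sum] at h1
    exact_mod_cast h1
  · have h1 := Cfsg.Agent.Helper78.sum_irr_mul_mul_div t t y⁻¹
    rw [Cfsg.Agent.Helper10.O4320.pairs_count y t hy hCy ht hty, hG] at h1
    have h2 : ∀ χ : IrrCharacter G, (χ : G → ℂ) t * (χ : G → ℂ) t * (χ : G → ℂ) y⁻¹ / (χ : G → ℂ) 1 =
        (((s χ : ℚ) ^ 2 * (c χ : ℚ) / (charDegree (χ : G → ℂ) : ℚ) : ℚ) : ℂ) := by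
      intro χ
      rw [Cfsg.Agent.Helper78.IsIrrCharacter.inv χ.2, ← hs χ, ← hcv χ, map_intCast,
        (Cfsg.Agent.Helper78.irr_charDegree χ.2).1]
      push_cast
      ring
    rw [Finset.sum_congr rfl (fun χ _ => h2 χ), ← Rat.cast_sum] at h1
    have h3 : ((4320 * ∑ χ : IrrCharacter G,
        (s χ : ℚ) ^ 2 * (c χ : ℚ) / (charDegree (χ : G → ℂ) : ℚ) : ℚ) : ℂ) =
        ((5 * (Nat.card (Subgroup.centralizer ({t} : Set G)) : ℚ) ^ 2 : ℚ) : ℂ) := by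
      push_cast
      push_cast at h1
      exact h1
    exact (Rat.cast_injective h3).symm

end Cfsg.Agent.Helper79.O4320
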