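import Mathlib
import Cfsg.Prelude.Def_Blocks
import Cfsg.Agent.Lib.Helper78.CharSchur
import Cfsg.Agent.Lib.Helper78.CharCount
import Cfsg.Agent.Lib.Helper79.O4320B2eCore
import Cfsg.Agent.Lib.Helper79.O4320B2c1
import Cfsg.Agent.Lib.Helper21.O4320B2c2
import Cfsg.Agent.Lib.Helper21.O4320B2c3

/-!
# O4320 (B2e): the character identities for the case `n_5 = 216`, `|C(R)| = 5`
-/

set_option autoImplicit false

namespace Cfsg.Agent.Helper79.O4320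

open Cfsg MulAction
open scoped ComplexConjugate

universe u

/-- (B2e) -/
theorem b2_identities {G : Type u} [Group G] [Fintype G] (hG : Nat.card G = 4320) (y t : G)
    (hy : orderOf y = 5) (hCy : Nat.card (Subgroup.centralizer ({y} : Set G)) = 5)
    (hconj : ∀ k : ℕ, 0 < k → k < 5 → IsConj y (y ^ k)) (ht : orderOf t = 2) (hty : t * y * t⁻¹ = y⁻¹) :
    ∃ (c s : IrrCharacter G → ℤ) (T : ℕ), 0 < T ∧
      (∀ χ : IrrCharacter G, (χ : G → ℂ) = (fun _ => 1) → c χ = 1 ∧ s χ = 1) ∧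
      (∀ χ : IrrCharacter G, (5 : ℤ) ∣ (charDegree (χ : G → ℂ) : ℤ) - c χ) ∧
      ∑ χ : IrrCharacter G, c χ ^ 2 = 5 ∧
      ∑ χ : IrrCharacter G, (charDegree (χ : G → ℂ) : ℤ) * c χ = 0 ∧
      (∀ χ : IrrCharacter G, ∃ m₁ m₂ : ℕ,
        10 * (m₁ : ℤ) = (charDegree (χ : G → ℂ) : ℤ) + 4 * c χ + 5 * s χ ∧
        10 * (m₂ : ℤ) = (charDegree (χ : G → ℂ) : ℤ) + 4 * c χ - 5 * s χ) ∧
      ∑ χ : IrrCharacter G, s χ ^ 2 = (T : ℤ) ∧
      5 * (T : ℚ) ^ 2 = 4320 * ∑ χ : IrrCharacter G,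
        (s χ : ℚ) ^ 2 * (c χ : ℚ) / (charDegree (χ : G → ℂ) : ℚ) := by
  apply b2_identities_core hG y t hy hCy hconj ht hty
  intro χ c hc
  have hχc := Cfsg.Agent.Helper78.IsIrrCharacter.isCharacter χ.2
  exact Cfsg.Agent.Helper21.O4320.dihedral_mult hχc y t hy ht hty hconj
    (charDegree (χ : G → ℂ)) (Cfsg.Agent.Helper78.irr_charDegree χ.2).1 c hc
    (fun P D _ _ hPD => sum_subgroup_mono hχc P D hPD)
    (fun f => Cfsg.Agent.Helper21.O4320.dihedral_sum y t hy ht hty f)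

end Cfsg.Agent.Helper79.O4320
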