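import Mathlib
import Cfsg.Agent.Lib.Helper73.W44Defs

/-!
# W44 (C2): a group of prime order `q` acting without fixed points on a finite invariant set
-/

set_option autoImplicit false
set_option linter.style.haveILetI false

namespace Cfsg.Agent.Helper79.W44

open Cfsg.Agent.Helper73.W44

section comb
variable {G : Type*} [Group G] {X : Type*} [MulAction G X]

/-- **(C2)** a group of prime order `q` acting without fixed points on a finite invariant set:
`q` divides the size -/
theorem prime_dvd_card_of_semiregular (Q : Subgroup G) (q : ℕ) (hq : q.Prime)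
    (hQ : Nat.card Q = q) (A : Set X) (hA : A.Finite) (hinv : ∀ y ∈ Q, ∀ x ∈ A, y • x ∈ A)
    (hsemi : ∀ x ∈ A, ∃ y ∈ Q, y • x ≠ x) : q ∣ Nat.card A := by
  classical
  haveI : Fact q.Prime := ⟨hq⟩
  have hQp : IsPGroup q Q := IsPGroup.of_card (n := 1) (by rw [hQ, pow_one])
  let S : SubMulAction ↥Q X :=
    { carrier := A
      smul_mem' := fun y x hx => hinv (y : G) y.2 x hx }
  haveI : Finite ↥S := hA.to_subtype
  have h1 := hQp.card_modEq_card_fixedPoints ↥S
  have h2 : IsEmpty ↥(MulAction.fixedPoints ↥Q ↥S) := by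
    constructor
    rintro ⟨⟨x, hx⟩, hfix⟩
    obtain ⟨y, hy, hne⟩ := hsemi x hx
    apply hne
    have := hfix ⟨y, hy⟩
    exact congrArg Subtype.val this
  have h3 : Nat.card ↥(MulAction.fixedPoints ↥Q ↥S) = 0 := Nat.card_of_isEmpty
  rw [h3] at h1
  have h4 : Nat.card ↥S = Nat.card ↥A := rfl
  rw [← h4]
  exact (Nat.modEq_zero_iff_dvd).mp h1

end comb

end Cfsg.Agent.Helper79.W44
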