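import Cfsg.Agent.Lib.Helper79.Linear

set_option autoImplicit false
set_option linter.unusedSectionVars false
set_option linter.style.haveILetI false

namespace Cfsg.Agent.Helper79

open Module
open scoped ComplexConjugate

universe u v w

section Convolution

variable {G : Type v} [Group G] [Fintype G]

open Classical in
/-- generalized orthogonality relation -/
theorem irr_convolution (χ ψ : IrrCharacter G) (g : G) :
    ∑ z : G, (χ : G → ℂ) z * (ψ : G → ℂ) (z⁻¹ * g) =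
      if χ = ψ then (Nat.card G : ℂ) * (χ : G → ℂ) g / (χ : G → ℂ) 1 else 0 := by
  obtain ⟨n, ρ, hρ, hψ⟩ := ψ.2
  let a : G → ℂ := fun z => (χ : G → ℂ) z⁻¹
  have ha : ∀ z h : G, a (h * z * h⁻¹) = a z := by
    intro z h
    simp only [a]
    rw [show (h * z * h⁻¹)⁻¹ = h * z⁻¹ * h⁻¹ by group, irr_class]
  obtain ⟨c, hc1, hc2⟩ := schur_scalar ρ (wsum a ρ) (wsum_comm a ha ρ)
  rw [trace_wsum] at hc2
  have hn : (finrank ℂ (Fin n → ℂ) : ℂ) = (ψ : G → ℂ) 1 := by
    rw [← hψ, Representation.char_one]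
  have hsum : ∑ z : G, a z * ρ.character z = (Nat.card G : ℂ) * (if χ = ψ then 1 else 0) := by
    rw [hψ]
    have h1 : ∑ z : G, a z * (ψ : G → ℂ) z = ∑ z : G, (ψ : G → ℂ) z * (χ : G → ℂ) z⁻¹ := by
      apply Finset.sum_congr rfl
      intro z _; simp only [a]; ring
    rw [h1, pair_eq_sum, irr_orthonormal]
    by_cases h : χ = ψ
    · rw [if_pos h, if_pos h.symm]
    · rw [if_neg h, if_neg (Ne.symm h)]
  rw [hsum, hn] at hc2
  -- now compute the trace of T ∘ ρ g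
  have htr : LinearMap.trace ℂ _ (wsum a ρ * ρ g) = c * (ψ : G → ℂ) g := by
    rw [hc1, smul_mul_assoc, one_mul, map_smul, smul_eq_mul, ← hψ]
    rfl
  have htr2 : LinearMap.trace ℂ _ (wsum a ρ * ρ g) =
      ∑ z : G, (χ : G → ℂ) z⁻¹ * (ψ : G → ℂ) (z * g) := by
    unfold wsum
    rw [Finset.sum_mul, map_sum]
    apply Finset.sum_congr rfl
    intro z _
    rw [smul_mul_assoc, map_smul, smul_eq_mul, ← map_mul, ← hψ]
    rfl
  have hre : ∑ z : G, (χ : G → ℂ) z * (ψ : G → ℂ) (z⁻¹ * g) =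
      ∑ z : G, (χ : G → ℂ) z⁻¹ * (ψ : G → ℂ) (z * g) := by
    rw [← Equiv.sum_comp (Equiv.inv G)]
    simp
  rw [hre, ← htr2, htr]
  have hψ1 : (ψ : G → ℂ) 1 ≠ 0 := irr_one_ne_zero ψ
  by_cases h : χ = ψ
  · rw [if_pos h] at hc2 ⊢
    subst h
    rw [mul_one] at hc2
    rw [← hc2]
    field_simp
  · rw [if_neg h] at hc2 ⊢
    rw [mul_zero] at hc2
    rcases mul_eq_zero.1 hc2 with h0 | h0
    · rw [h0, zero_mul]
    · exact absurd h0 hψ1

end Convolution

end Cfsg.Agent.Helper79
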