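import Cfsg.Agent.Lib.Helper79.BG11b1
import Cfsg.Agent.Lib.Helper58.BG11W3

/-!
# B–G Section 11, 11.1–11.6: the bundle `Helper24.BG11.Facts G`, unconditionally

`facts hG : Facts G` for a minimal simple group of odd order: `facts_of` (this seat) fed with
helper58's (W3) `sigmaCore_ne_bot`.
-/

set_option autoImplicit false

namespace Cfsg.Agent.Helper79.BG11b1

/-- The full Section 11 bundle (11.1–11.6) for a minimal simple group of odd order. -/
theorem facts {G : Type*} [Group G] [Finite G] (hG : Cfsg.IsMinSimpleOddOrder G) :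
    Cfsg.Agent.Helper24.BG11.Facts G :=
  facts_of hG (fun M hM => Cfsg.Agent.Helper58.BG11.sigmaCore_ne_bot hG M hM)

end Cfsg.Agent.Helper79.BG11b1
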