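import Cfsg.Agent.Lib.Helper33.BG125b
import Cfsg.Agent.Lib.Helper29.CoprimeHyp
import Cfsg.Agent.Lib.Helper79.BG11b1x
import Cfsg.Agent.Lib.Helper24.BG11.Facts
import Cfsg.Agent.S1412

/-!
# B-G Section 11 (b1) under Hypothesis 11.1 only (spare copy)

`A ≤ Z(T)` for every Sylow `p`-subgroup `T` of `M` containing `A`, `Ω₁(T) = A`, `N_G(T) ≰ M`
(helper69's proof: transvection + Lemma I + generation + the S1392 trick in `N_G(Z)`).
-/

set_option autoImplicit false
open Pointwise

namespace Cfsg.Agent.Helper79.BG11b1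

open Subgroup Cfsg
open Cfsg.Agent.Helper33
open Cfsg.Agent.Helper33.BG125
open Cfsg.Agent.Helper33.BG11I
open Cfsg.Agent.Helper24.BG11 (Exc)
open Cfsg.Agent.Helper34.BG (not_normalizer_le_of_not_mem_sigma ne_top_of_le_coatom)
open Cfsg.Agent.Helper55.BGB (sigmaCore_le isPi_sigmaCore le_normalizer_sigmaCore)

variable {G : Type*} [Group G] [Finite G]

/-- a subgroup covered by an elementary abelian group of order `p ^ 2` has order `p` -/
theorem card_of_covBy {p : ℕ} [Fact p.Prime] {B L : Subgroup G}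
    (hBe : Cfsg.IsElementaryAbelian p B) (hB2 : Nat.card B = p ^ 2) (hL : L ⋖ B) :
    Nat.card L = p := by
  have hpp : p.Prime := Fact.out
  refine Cfsg.Agent.S1453.card_eq_prime_of_between hpp hL.le hB2 ?_ hL.lt.ne
  rintro rfl
  have hBne : B ≠ ⊥ := by
    intro h
    rw [h, Subgroup.card_bot] at hB2
    have := Nat.one_lt_pow (n := 2) (by norm_num) hpp.one_lt
    omega
  obtain ⟨b, hb1⟩ := Subgroup.ne_bot_iff_exists_ne_one.mp hBne
  have hb1' : (b : G) ≠ 1 := fun h => hb1 (Subtype.ext h)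
  have hle : zpowers (b : G) ≤ B := by rw [zpowers_le]; exact b.2
  rcases hL.eq_or_eq bot_le hle with h | h
  · rw [zpowers_eq_bot] at h; exact hb1' h
  · have hc : Nat.card (zpowers (b : G)) = p := by
      rw [Nat.card_zpowers]; exact orderOf_eq_prime (hBe.2 b b.2) hb1'
    rw [h, hB2] at hc
    have := Nat.pow_lt_pow_right hpp.one_lt (show 1 < 2 by norm_num)
    rw [pow_one] at this
    omega


/-- **(b1), central part**: under Hypothesis 11.1, `A` is central in every Sylow `p`-subgroup `T`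
of `M` containing it.  (`hK1 : M_σ ≠ 1` is helper58's W3.) -/
theorem exc_central (hG : Cfsg.IsMinSimpleOddOrder G) {M A A0 : Subgroup G} {p : ℕ}
    (hE : Exc M p A A0) (hK1 : Cfsg.sigmaCore M ≠ ⊥) {T : Subgroup G} (hT : IsSylIn p T M)
    (hAT : A ≤ T) : ∀ a ∈ A, ∀ x ∈ T, a * x = x * a := by
  have hpp := hE.fact
  have hp2 := exc_tau2 hG hE
  have hAmax := (Cfsg.Agent.S1408.result hG M hE.coatom p hE.not_sigma hp2.2.2.1 hp2.2.2.2).2
    A hE.le hE.elem hE.card
  by_contra hnc
  obtain ⟨Z, hZA, hZp, hZc, hΩ, x, hxT, hxA, htrans⟩ :=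
    Cfsg.Agent.Helper79.BG11b1x.exists_transvection p T hT.isPGroup A hAT hE.elem hE.card
      (fun B _ hB hAB => hAmax B hB hAB) hnc
  have hdvd : p ∣ Nat.card M := by
    have h1 : p ∣ Nat.card A := by rw [hE.card]; exact dvd_pow_self p (by norm_num)
    exact h1.trans (Subgroup.card_dvd_of_le hE.le)
  have hNT : ¬ normalizer (T : Set G) ≤ M :=
    not_normalizer_le_of_not_mem_sigma hT hdvd hE.not_sigma
  obtain ⟨g, hgN, hgM⟩ := SetLike.not_le_iff_exists.mp hNT
  have hconjT : ∀ h : G, h ∈ normalizer (T : Set G) → ∀ t ∈ T, h * t * h⁻¹ ∈ T := by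
    intro h hh t ht
    exact (Subgroup.mem_normalizer_iff.mp hh t).mp ht
  have hconjZ : ∀ h : G, h ∈ normalizer (T : Set G) → ∀ z ∈ Z, h * z * h⁻¹ ∈ Z := by
    intro h hh z hz
    have hzT : z ∈ T := hAT (hZA hz)
    apply hΩ _ (hconjT h hh z hzT)
    · rw [conj_pow, hE.elem.2 z (hZA hz), mul_one, mul_inv_cancel]
    · intro t ht
      have ht' : h⁻¹ * t * h ∈ T := by
        have := hconjT h⁻¹ (inv_mem hh) t ht
        simpa using this
      have := hZc z hz _ ht'
      calc h * z * h⁻¹ * t = h * (z * (h⁻¹ * t * h)) * h⁻¹ := by group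
        _ = h * ((h⁻¹ * t * h) * z) * h⁻¹ := by rw [this]
        _ = t * (h * z * h⁻¹) := by group
  have hgZ : g ∈ normalizer (Z : Set G) := by
    rw [Subgroup.mem_normalizer_iff]
    intro z
    constructor
    · exact hconjZ g hgN z
    · intro h
      have := hconjZ g⁻¹ (inv_mem hgN) _ h
      have e : g⁻¹ * (g * z * g⁻¹) * g⁻¹⁻¹ = z := by group
      rwa [e] at this
  have hA0Z : A0 ≠ Z := by
    intro h
    apply hgM
    apply hE.norm0
    rw [h]; exact hgZ
  -- the lines of `gAg⁻¹` other than `Z` act without fixed points on `M_σ`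
  have hline : ∀ L : Subgroup G, L ≤ MulAut.conj g • A → Nat.card L = p → L ≠ Z →
      Cfsg.sigmaCore M ⊓ centralizer (L : Set G) = ⊥ := by
    intro L hLB hLp hLZ
    have hL'A : MulAut.conj g⁻¹ • L ≤ A := by
      have := conj_smul_le_conj_smul (g := g⁻¹) hLB
      rwa [conj_inv_smul_smul] at this
    have hL'p : Nat.card (MulAut.conj g⁻¹ • L : Subgroup G) = p := by
      rw [card_conj_smul]; exact hLp
    have hLeq : L = MulAut.conj g • MulAut.conj g⁻¹ • L := by rw [conj_smul_inv_smul]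
    have hL'Z : MulAut.conj g⁻¹ • L ≠ Z := by
      intro h
      apply hLZ
      rw [hLeq, h]
      exact smul_eq_of_mem_normalizer hgZ
    obtain ⟨i, hi⟩ := htrans A0 (MulAut.conj g⁻¹ • L) hE.le0 hL'A hE.card0 hL'p hA0Z hL'Z
    have hi' : MulAut.conj (x ^ i) • A0 = MulAut.conj g⁻¹ • L := hi
    have hL : L = MulAut.conj (g * x ^ i) • A0 := by
      rw [conj_mul_smul, hi', conj_smul_inv_smul]
    have hxM : x ^ i ∈ M := M.pow_mem (hT.le hxT) i
    have hg'M : g * x ^ i ∉ M := by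
      intro h
      apply hgM
      have := M.mul_mem h (M.inv_mem hxM)
      simpa using this
    have hg'N : g * x ^ i ∈ normalizer (T : Set G) :=
      mul_mem hgN (le_normalizer (T.pow_mem hxT i))
    have hAg' : A ≤ MulAut.conj (g * x ^ i) • M := by
      calc A ≤ T := hAT
        _ = MulAut.conj (g * x ^ i) • T := (smul_eq_of_mem_normalizer hg'N).symm
        _ ≤ MulAut.conj (g * x ^ i) • M := conj_smul_le_conj_smul hT.le
    rw [hL]
    exact exc_cent_conj hG hE _ hg'M hAg'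
  -- generation: `M_σ ≤ C_G(Z)`
  have hBe : Cfsg.IsElementaryAbelian p (MulAut.conj g • A) :=
    Cfsg.Agent.Helper34.BG.isElementaryAbelian_conj hE.elem g
  have hB2 : Nat.card (MulAut.conj g • A : Subgroup G) = p ^ 2 := by
    rw [card_conj_smul]; exact hE.card
  have hBT : MulAut.conj g • A ≤ T := by
    calc MulAut.conj g • A ≤ MulAut.conj g • T := conj_smul_le_conj_smul hAT
      _ = T := smul_eq_of_mem_normalizer hgN
  have hBne : MulAut.conj g • A ≠ ⊥ := by
    intro h
    rw [h, Subgroup.card_bot] at hB2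
    have := Nat.one_lt_pow (n := 2) (by norm_num) hpp.out.one_lt
    omega
  have hcop : (Nat.card (Cfsg.sigmaCore M)).Coprime p := by
    rw [Nat.coprime_comm, Nat.Prime.coprime_iff_not_dvd hpp.out]
    intro h
    exact hE.not_sigma (isPi_sigmaCore M p hpp.out h)
  have hKZ : Cfsg.sigmaCore M ≤ centralizer (Z : Set G) := by
    refine le_trans (Cfsg.Agent.Helper29.le_iSup_covBy (MulAut.conj g • A) (Cfsg.sigmaCore M)
      (fun a ha b hb => Cfsg.Agent.Helper34.BG.commute_of_isElementaryAbelian hBe ha hb)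
      hBe.2 hBne ((hBT.trans hT.le).trans (le_normalizer_sigmaCore M)) hcop) ?_
    apply iSup_le
    rintro ⟨L, hL⟩
    have hLp : Nat.card L = p := card_of_covBy hBe hB2 hL
    show Cfsg.sigmaCore M ⊓ centralizer (L : Set G) ≤ centralizer (Z : Set G)
    by_cases hLZ : L = Z
    · rw [hLZ]; exact inf_le_right
    · rw [hline L hL.le hLp hLZ]; exact bot_le
  -- the S1392 trick in `N_G(Z)`
  have hZne : Z ≠ ⊥ := by
    intro h
    rw [h, Subgroup.card_bot] at hZp
    exact hpp.out.one_lt.ne hZp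
  have hZtop : Z ≠ ⊤ := ne_top_of_le_coatom hE.coatom (hZA.trans hE.le)
  have hH : normalizer (Z : Set G) ≠ ⊤ := Cfsg.Agent.Helper34.BG.normalizer_ne_top hG hZne hZtop
  have hAH : A ≤ normalizer (Z : Set G) := by
    refine le_trans ?_ (Subgroup.centralizer_le_normalizer _)
    intro a ha
    rw [Subgroup.mem_centralizer_iff]
    intro z hz
    exact Cfsg.Agent.Helper34.BG.commute_of_isElementaryAbelian hE.elem (hZA hz) ha
  have hKH : Cfsg.sigmaCore M ≤ normalizer (Z : Set G) :=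
    hKZ.trans (Subgroup.centralizer_le_normalizer _)
  have hcard : Nat.card (Cfsg.sigmaCore M) ≠ 1 := fun h => hK1 (Subgroup.card_eq_one.mp h)
  obtain ⟨q, hq, hqK⟩ := Nat.exists_prime_and_dvd hcard
  have h1 : q ∣ Nat.card (Cfsg.sigmaCore M ⊓ normalizer (Z : Set G) : Subgroup G) := by
    rw [inf_eq_left.mpr hKH]; exact hqK
  have hgK : MulAut.conj g • Cfsg.sigmaCore M ≤ normalizer (Z : Set G) := by
    calc MulAut.conj g • Cfsg.sigmaCore M ≤ MulAut.conj g • normalizer (Z : Set G) :=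
          conj_smul_le_conj_smul hKH
      _ = normalizer (Z : Set G) := Cfsg.Agent.Helper33.conj_smul_eq_self_of_mem hgZ
  have h2 : q ∣ Nat.card ((MulAut.conj g • Cfsg.sigmaCore M) ⊓ normalizer (Z : Set G) :
      Subgroup G) := by
    rw [inf_eq_left.mpr hgK, card_conj_smul]; exact hqK
  have hAg : A ≤ MulAut.conj g • M := by
    calc A ≤ T := hAT
      _ = MulAut.conj g • T := (smul_eq_of_mem_normalizer hgN).symm
      _ ≤ MulAut.conj g • M := conj_smul_le_conj_smul hT.le
  exact hgM (lemmaI_gen hG M hE.coatom p hp2 A hE.hA hE.cent_le g hAg _ hH hAH q hq h1 h2)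


/-- `A` is maximal among the elementary abelian `p`-subgroups of `G` (S1408). -/
theorem exc_max (hG : Cfsg.IsMinSimpleOddOrder G) {M A A0 : Subgroup G} {p : ℕ}
    (hE : Exc M p A A0) :
    ∀ B : Subgroup G, Cfsg.IsElementaryAbelian p B → A ≤ B → B = A := by
  have hpp := hE.fact
  have hp2 := exc_tau2 hG hE
  exact (Cfsg.Agent.S1408.result hG M hE.coatom p hE.not_sigma hp2.2.2.1 hp2.2.2.2).2
    A hE.le hE.elem hE.card

/-- **(b1), `Ω₁` part**: `{x ∈ T : x ^ p = 1} = A`. -/
theorem exc_omega (hG : Cfsg.IsMinSimpleOddOrder G) {M A A0 : Subgroup G} {p : ℕ}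
    (hE : Exc M p A A0) (hK1 : Cfsg.sigmaCore M ≠ ⊥) {T : Subgroup G} (hT : IsSylIn p T M)
    (hAT : A ≤ T) : ∀ x ∈ T, x ^ p = 1 ↔ x ∈ A := by
  intro x hx
  constructor
  · intro hxp
    exact Cfsg.Agent.Helper79.BG11b2.mem_of_centralizes (S := ⊤) le_top hE.elem
      (fun B _ hB hAB => exc_max hG hE B hB hAB) (Subgroup.mem_top x)
      (fun a ha => exc_central hG hE hK1 hT hAT a ha x hx) hxp
  · intro hxA
    exact hE.elem.2 x hxA

/-- **(b1), normalizer part**: `N_G(A) ≰ M`. -/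
theorem exc_norm (hG : Cfsg.IsMinSimpleOddOrder G) {M A A0 : Subgroup G} {p : ℕ}
    (hE : Exc M p A A0) (hK1 : Cfsg.sigmaCore M ≠ ⊥) :
    ¬ normalizer (A : Set G) ≤ M := by
  have hpp := hE.fact
  have hdvd : p ∣ Nat.card M := by
    have h1 : p ∣ Nat.card A := by rw [hE.card]; exact dvd_pow_self p (by norm_num)
    exact h1.trans (Subgroup.card_dvd_of_le hE.le)
  obtain ⟨T, hT, hAT⟩ :=
    exists_isSylIn_ge (p := p) (Cfsg.Agent.Helper34.BG.isElementaryAbelian_isPGroup hE.elem) hE.le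
  have hNT : ¬ normalizer (T : Set G) ≤ M :=
    not_normalizer_le_of_not_mem_sigma hT hdvd hE.not_sigma
  exact not_normalizer_le_of_omega hAT (exc_omega hG hE hK1 hT hAT) hNT

/-- **(b)** in the shape of `Facts.syl`. -/
theorem exc_syl (hG : Cfsg.IsMinSimpleOddOrder G) {M A A0 : Subgroup G} {p : ℕ}
    (hE : Exc M p A A0) (hK1 : Cfsg.sigmaCore M ≠ ⊥) (P : Sylow p M) :
    IsMulCommutative (P : Subgroup M) ∧
      (A ≤ (P : Subgroup M).map M.subtype →
        ∀ x ∈ (P : Subgroup M).map M.subtype, x ^ p = 1 → x ∈ A) := by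
  have hpp := hE.fact
  obtain ⟨T, hT, hAT⟩ :=
    exists_isSylIn_ge (p := p) (Cfsg.Agent.Helper34.BG.isElementaryAbelian_isPGroup hE.elem) hE.le
  have hmap : ((hT.toSylow : Sylow p M) : Subgroup M).map M.subtype = T := by
    rw [hT.coe_toSylow]
    exact Subgroup.map_subgroupOf_eq_of_le hT.le
  have hcomm : ∀ P : Sylow p M, IsMulCommutative (P : Subgroup M) :=
    Cfsg.Agent.Helper79.BG11b2.sylow_comm_of_odd hG.1 p
      (fun S hr => Cfsg.Agent.S1412.result hG p S hr) M A hE.elem hE.card (exc_max hG hE)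
      hT.toSylow (by rw [hmap]; exact hAT)
      (by
        intro a ha x hx
        rw [hmap] at hx
        exact exc_central hG hE hK1 hT hAT a ha x hx)
  exact ⟨hcomm P, Cfsg.Agent.Helper79.BG11b2.omega_le_of_comm M A hE.elem (exc_max hG hE) P
    (hcomm P)⟩

/-- All of B-G 11.3, 11.5, 11.6 under Hypothesis 11.1, given `M_σ ≠ 1` for all maximal `M`. -/
theorem facts_of (hG : Cfsg.IsMinSimpleOddOrder G)
    (hne : ∀ M : Subgroup G, IsCoatom M → Cfsg.sigmaCore M ≠ ⊥) :
    Cfsg.Agent.Helper24.BG11.Facts G where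
  ne_bot := hne
  nil := fun hE => exc_nilpotent hG hE
  syl := fun hE P => exc_syl hG hE (hne _ hE.coatom) P
  norm := fun hE => exc_norm hG hE (hne _ hE.coatom)
  cent := fun hE => exc_d hG hE (exc_norm hG hE (hne _ hE.coatom))
  fpf2 := fun hE => exc_f2 hG hE (exc_norm hG hE (hne _ hE.coatom))

end Cfsg.Agent.Helper79.BG11b1
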