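import Mathlib
import Cfsg.Agent.Lib.Helper32.C3Defs

/-!
# C3 (P2): central elements of the configuration act as `±1`
-/

set_option autoImplicit false

namespace Cfsg.Agent.Helper79.C3

open Cfsg.Agent.Helper32.C3

universe u v

theorem h79_zmod3_cases : ∀ ε : ZMod 3, ε = 0 ∨ ε = 1 ∨ ε = -1 := by decide

/-- **P2.** -/
theorem central_scalar {G : Type u} [Group G] [Finite G] {V : Type v} [AddCommGroup V]
    [Module (ZMod 3) V] [Finite V] (ρ : Representation (ZMod 3) G V) (R Q : Subgroup G) (b : G)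
    (h : Cfg ρ R Q b) : ∀ z ∈ Subgroup.center G, z = 1 ∨ ρ z = -1 := by
  intro z hz
  have hzc : ∀ g : G, g * z = z * g := fun g => Subgroup.mem_center_iff.mp hz g
  have hcomm : ∀ (g : G) (v : V), ρ z (ρ g v) = ρ g (ρ z v) := by
    intro g v
    have h1 : ρ z (ρ g v) = ρ (z * g) v := by rw [map_mul]; rfl
    have h2 : ρ g (ρ z v) = ρ (g * z) v := by rw [map_mul]; rfl
    rw [h1, h2, hzc g]
  have hd : ∀ v : V, ρ z (dl ρ b v) = dl ρ b (ρ z v) := by
    intro v
    rw [dl_apply, dl_apply, map_sub, hcomm]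
  -- the line `L = range ((b-1)^2)`
  have hL1 := h.cubic.2
  obtain ⟨⟨l, hlL⟩, hl0, hspan⟩ := finrank_eq_one_iff'.mp hL1
  have hl0' : l ≠ 0 := by
    intro h0
    apply hl0
    exact Subtype.ext h0
  have hzl : ρ z l ∈ LinearMap.range (dl ρ b * dl ρ b) := by
    obtain ⟨w, hw⟩ := hlL
    refine ⟨ρ z w, ?_⟩
    rw [← hw]
    show dl ρ b (dl ρ b (ρ z w)) = ρ z (dl ρ b (dl ρ b w))
    rw [hd, hd]
  obtain ⟨ε, hε⟩ := hspan ⟨ρ z l, hzl⟩
  have hε' : ρ z l = ε • l := by
    have := congrArg (fun t : ↥(LinearMap.range (dl ρ b * dl ρ b)) => (t : V)) hε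
    simpa using this.symm
  -- the eigenspace
  let N : Submodule (ZMod 3) V := LinearMap.ker (ρ z - ε • (1 : Module.End (ZMod 3) V))
  have hmemN : ∀ v : V, v ∈ N ↔ ρ z v = ε • v := by
    intro v
    show (ρ z - ε • (1 : Module.End (ZMod 3) V)) v = 0 ↔ _
    simp [sub_eq_zero]
  have hNinv : Inv ρ ⊤ N := by
    intro g _ v hv
    rw [hmemN] at hv ⊢
    rw [hcomm, hv, map_smul]
  have hlN : l ∈ N := (hmemN l).2 hε'
  have hNtop : N = ⊤ := by
    rcases h.irred N hNinv with h0 | h1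
    · exfalso
      apply hl0'
      have : l ∈ (⊥ : Submodule (ZMod 3) V) := h0 ▸ hlN
      simpa using this
    · exact h1
  have hall : ∀ v : V, ρ z v = ε • v := by
    intro v
    apply (hmemN v).1
    rw [hNtop]
    trivial
  rcases h79_zmod3_cases ε with h0 | h1 | h2
  · exfalso
    apply hl0'
    have h3 : ρ z l = 0 := by rw [hall, h0, zero_smul]
    have h4 : ρ z⁻¹ (ρ z l) = l := by
      have : ρ z⁻¹ (ρ z l) = ρ (z⁻¹ * z) l := by rw [map_mul]; rfl
      rw [this, inv_mul_cancel, map_one]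
      rfl
    rw [h3, map_zero] at h4
    exact h4.symm
  · left
    apply h.faith
    rw [map_one]
    ext v
    rw [hall, h1, one_smul]
    rfl
  · right
    ext v
    rw [hall, h2]
    simp
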