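import Cfsg.Agent.Lib.Helper79.Integrality

set_option autoImplicit false
set_option linter.unusedSectionVars false
set_option linter.style.haveILetI false

namespace Cfsg.Agent.Helper79

open Module
open scoped ComplexConjugate

universe u v

section Coset

variable {G : Type v} [Group G]

/-- `G` is in bijection with `(G ⧸ Z) × Z` via `(q, z) ↦ out q * z`. -/
noncomputable def cosetEquiv (Z : Subgroup G) : (G ⧸ Z) × Z ≃ G where
  toFun x := Quotient.out x.1 * (x.2 : G)
  invFun g := ((QuotientGroup.mk g : G ⧸ Z),
    ⟨(Quotient.out (QuotientGroup.mk g : G ⧸ Z))⁻¹ * g, by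
      rw [← QuotientGroup.eq]; exact QuotientGroup.out_eq' _⟩)
  left_inv := by
    rintro ⟨q, z⟩
    have h1 : (QuotientGroup.mk (Quotient.out q * (z : G)) : G ⧸ Z) = q := by
      rw [QuotientGroup.mk_mul_of_mem _ z.2]; exact QuotientGroup.out_eq' q
    apply Prod.ext
    · exact h1
    · apply Subtype.ext
      simp only
      rw [h1]
      group
  right_inv := by
    intro g
    simp

theorem cosetEquiv_apply (Z : Subgroup G) (q : G ⧸ Z) (z : Z) :
    cosetEquiv Z (q, z) = Quotient.out q * (z : G) := rfl

/-- sum of a right-`Z`-invariant function -/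
theorem sum_eq_card_smul_sum_out [Fintype G] {M : Type*} [AddCommMonoid M] (Z : Subgroup G)
    [Fintype (G ⧸ Z)] (F : G → M) (hF : ∀ g, ∀ z ∈ Z, F (g * z) = F g) :
    ∑ g, F g = Nat.card Z • ∑ q : G ⧸ Z, F (Quotient.out q) := by
  classical
  haveI : Fintype Z := Fintype.ofFinite Z
  rw [← Equiv.sum_comp (cosetEquiv Z) F, Fintype.sum_prod_type, Finset.smul_sum]
  apply Finset.sum_congr rfl
  intro q _
  have : ∀ z : Z, F (cosetEquiv Z (q, z)) = F (Quotient.out q) := by
    intro z
    rw [cosetEquiv_apply]; exact hF _ z z.2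
  rw [Finset.sum_congr rfl (fun z _ => this z), Finset.sum_const, Finset.card_univ,
    Nat.card_eq_fintype_card]

/-- sum over a transversal written as a sum over the group -/
theorem sum_ite_out [Fintype G] {M : Type*} [AddCommMonoid M] (Z : Subgroup G)
    [Fintype (G ⧸ Z)] [DecidableEq G] (F : G → M) :
    ∑ g, (if Quotient.out (QuotientGroup.mk g : G ⧸ Z) = g then F g else 0)
      = ∑ q : G ⧸ Z, F (Quotient.out q) := by
  classical
  haveI : Fintype Z := Fintype.ofFinite Z
  rw [← Equiv.sum_comp (cosetEquiv Z), Fintype.sum_prod_type]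
  apply Finset.sum_congr rfl
  intro q _
  have h1 : ∀ z : Z, (QuotientGroup.mk (cosetEquiv Z (q, z)) : G ⧸ Z) = q := by
    intro z
    rw [cosetEquiv_apply, QuotientGroup.mk_mul_of_mem _ z.2]; exact QuotientGroup.out_eq' q
  rw [Finset.sum_eq_single (1 : Z)]
  · rw [h1, cosetEquiv_apply, Subgroup.coe_one, mul_one, if_pos rfl]
  · intro z _ hz
    rw [h1, cosetEquiv_apply, if_neg]
    intro h
    apply hz
    apply Subtype.ext
    have := mul_left_cancel (a := Quotient.out q) (b := (1 : G)) (c := (z : G)) (by rw [mul_one]; exact h)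
    exact this.symm
  · intro h; exact absurd (Finset.mem_univ _) h

end Coset

section Center

variable {G : Type v} [Group G] [Fintype G] {V : Type u} [AddCommGroup V] [Module ℂ V]
  [FiniteDimensional ℂ V]

/-- central elements act as scalars of absolute value one in an irreducible representation -/
theorem center_scalar (ρ : Representation ℂ G V) [ρ.IsIrreducible] (z : G)
    (hz : z ∈ Subgroup.center G) : ∃ l : ℂ, ρ z = l • (1 : Module.End ℂ V) ∧ conj l * l = 1 := by
  have hnt := nontrivial_of_irreducible ρ
  obtain ⟨l, hl, -⟩ := schur_scalar ρ (ρ z) (by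
    intro g
    rw [← Module.End.mul_eq_comp, ← Module.End.mul_eq_comp, ← map_mul, ← map_mul,
      (Subgroup.mem_center_iff.1 hz g)])
  refine ⟨l, hl, ?_⟩
  have hpow : (ρ z) ^ orderOf z = 1 := by rw [← map_pow, pow_orderOf_eq_one, map_one]
  rw [hl, smul_pow, one_pow] at hpow
  have hl1 : l ^ orderOf z = 1 := by
    have h1 : (l ^ orderOf z) • (1 : Module.End ℂ V) = (1 : ℂ) • (1 : Module.End ℂ V) := by
      rw [hpow, one_smul]
    have hinj : Function.Injective (fun c : ℂ => c • (1 : Module.End ℂ V)) := by
      intro c d hcd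
      obtain ⟨v, hv⟩ := exists_ne (0 : V)
      have := congrArg (fun f : Module.End ℂ V => f v) hcd
      simp only [LinearMap.smul_apply, Module.End.one_apply] at this
      exact smul_left_injective ℂ hv this
    exact hinj h1
  have hnorm : ‖l‖ = 1 := Complex.norm_eq_one_of_pow_eq_one hl1 (orderOf_pos z).ne'
  rw [mul_comm, Complex.mul_conj, Complex.normSq_eq_norm_sq, hnorm]
  norm_num

/-- the degree of an irreducible representation divides the index of the centre -/
theorem finrank_dvd_index_center (ρ : Representation ℂ G V) [ρ.IsIrreducible] :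
    finrank ℂ V ∣ (Subgroup.center G).index := by
  classical
  haveI : Finite G := Finite.of_fintype G
  haveI : Fintype (G ⧸ Subgroup.center G) := Fintype.ofFinite _
  have hnt := nontrivial_of_irreducible ρ
  let a : G → ℂ := fun g => ρ.character g⁻¹
  have ha : ∀ g h : G, a (h * g * h⁻¹) = a g := by
    intro g h
    simp only [a]
    rw [show (h * g * h⁻¹)⁻¹ = h * g⁻¹ * h⁻¹ by group, Representation.char_conj]
  obtain ⟨c, hc1, hc2⟩ := schur_scalar ρ (wsum a ρ) (wsum_comm a ha ρ)
  rw [trace_wsum] at hc2
  have : Invertible (Nat.card G : ℂ) := invertibleOfNonzero card_ne_zero_complex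
  have horth := Representation.char_orthonormal ρ ρ
  rw [if_pos ⟨Representation.Equiv.refl ρ⟩] at horth
  have hsum : ∑ g : G, a g * ρ.character g = (Nat.card G : ℂ) := by
    have h1 : ∑ g : G, a g * ρ.character g = ∑ g : G, ρ.character g * ρ.character g⁻¹ := by
      apply Finset.sum_congr rfl
      intro g _
      simp only [a]; ring
    rw [h1]
    have := congrArg (fun z => (Nat.card G : ℂ) * z) horth
    simp only [mul_one] at this
    rw [← this, ← mul_assoc, mul_inv_cancel₀ card_ne_zero_complex, one_mul]
  rw [hsum] at hc2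
  -- invariance under the centre
  have hF : ∀ g, ∀ z ∈ Subgroup.center G, a (g * z) • ρ (g * z) = a g • ρ g := by
    intro g z hz
    obtain ⟨l, hl, hl1⟩ := center_scalar ρ z hz
    have h1 : ρ (g * z) = l • ρ g := by
      rw [map_mul, hl, mul_smul_comm, mul_one]
    have h2 : a (g * z) = conj l * a g := by
      simp only [a]
      rw [char_inv, char_inv, ← map_mul]
      congr 1
      unfold Representation.character
      rw [h1, map_smul, smul_eq_mul]
    rw [h1, h2, smul_smul, mul_right_comm, hl1, one_mul]
  let b : G → ℂ := fun g =>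
    if Quotient.out (QuotientGroup.mk g : G ⧸ Subgroup.center G) = g then a g else 0
  have hb : ∀ g, IsIntegral ℤ (b g) := by
    intro g
    simp only [b]
    split_ifs
    · exact isIntegral_char ρ g⁻¹
    · exact isIntegral_zero
  have hwb : wsum a ρ = Nat.card (Subgroup.center G) • wsum b ρ := by
    unfold wsum
    rw [sum_eq_card_smul_sum_out (Subgroup.center G) (fun g => a g • ρ g) hF]
    congr 1
    rw [← sum_ite_out (Subgroup.center G) (fun g => a g • ρ g)]
    apply Finset.sum_congr rfl
    intro g _
    simp only [b]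
    split_ifs <;> simp
  have hZ0 : (Nat.card (Subgroup.center G) : ℂ) ≠ 0 := by
    exact_mod_cast (Nat.card_pos (α := Subgroup.center G)).ne'
  have hwb' : wsum b ρ = (c / (Nat.card (Subgroup.center G) : ℂ)) • (1 : Module.End ℂ V) := by
    have h1 : (Nat.card (Subgroup.center G) : ℂ) • wsum b ρ = c • (1 : Module.End ℂ V) := by
      rw [← hc1, hwb, Nat.cast_smul_eq_nsmul]
    rw [div_eq_inv_mul, mul_smul, ← h1, smul_smul, inv_mul_cancel₀ hZ0, one_smul]
  have hint : IsIntegral ℤ (c / (Nat.card (Subgroup.center G) : ℂ)) := by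
    apply isIntegral_of_smul_one (V := V)
    rw [← hwb']
    exact isIntegral_wsum ρ b hb
  have hmul : c / (Nat.card (Subgroup.center G) : ℂ) *
      ((Nat.card (Subgroup.center G) * finrank ℂ V : ℕ) : ℂ) = (Nat.card G : ℂ) := by
    push_cast
    rw [← hc2]
    field_simp
  have hpos : Nat.card (Subgroup.center G) * finrank ℂ V ≠ 0 :=
    Nat.mul_ne_zero (Nat.card_pos).ne' (Module.finrank_pos).ne'
  have hdvd := dvd_of_isIntegral_of_mul_eq _ _ _ hpos hmul hint
  rw [← Subgroup.card_mul_index (Subgroup.center G)] at hdvd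
  exact Nat.dvd_of_mul_dvd_mul_left Nat.card_pos hdvd

end Center

end Cfsg.Agent.Helper79
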