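import Cfsg.Agent.Lib.Helper79.ScalarIndex
import Cfsg.Agent.Lib.Helper81.CharSylowExt
import Cfsg.Agent.Lib.Helper81.CharProd
import Cfsg.Agent.Lib.Helper81.CharCorr
import Cfsg.Agent.Lib.Helper3.Spectral

set_option autoImplicit false
set_option linter.unusedSectionVars false
set_option linter.style.haveILetI false

namespace Cfsg.Agent.Helper79

open Module Cfsg
open scoped ComplexConjugate

universe u

section CentralExt

variable {G : Type u} [Group G] (N : Subgroup G) [hN : N.Normal] {d : ℕ}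
  (ρ : Representation ℂ N (Fin d → ℂ))

/-- the general linear group of coordinate space -/
abbrev GLd (d : ℕ) := ((Fin d → ℂ) →ₗ[ℂ] (Fin d → ℂ))ˣ

/-- determinant as a homomorphism of unit groups -/
noncomputable def detU (d : ℕ) : GLd d →* ℂˣ := Units.map (LinearMap.det : _ →* ℂ)

theorem detU_coe (b : GLd d) : ((detU d b : ℂˣ) : ℂ) = LinearMap.det (b : (Fin d → ℂ) →ₗ[ℂ] (Fin d → ℂ)) :=
  rfl

/-- the central extension of `G` attached to an invariant irreducible representation of `N` -/
noncomputable def extGroup : Subgroup (G × GLd d) where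
  carrier := {x | (∀ n : N, x.2 * MonoidHom.toHomUnits ρ n * x.2⁻¹ =
      MonoidHom.toHomUnits ρ (MulAut.conjNormal x.1 n)) ∧ detU d x.2 ^ Nat.card G = 1}
  mul_mem' := by
    rintro x y ⟨hx1, hx2⟩ ⟨hy1, hy2⟩
    refine ⟨fun n => ?_, ?_⟩
    · simp only [Prod.snd_mul, Prod.fst_mul, map_mul, MulAut.mul_apply, mul_inv_rev]
      rw [← hx1, ← hy1]; group
    · rw [Prod.snd_mul, map_mul, mul_pow, hx2, hy2, one_mul]
  one_mem' := ⟨fun n => by simp, by simp⟩
  inv_mem' := by
    rintro x ⟨hx1, hx2⟩
    refine ⟨fun n => ?_, ?_⟩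
    · have := hx1 ((MulAut.conjNormal x.1)⁻¹ n)
      rw [MulAut.apply_inv_self] at this
      simp only [Prod.snd_inv, Prod.fst_inv, map_inv, inv_inv]
      rw [← this]; group
    · rw [Prod.snd_inv, map_inv, inv_pow, hx2, inv_one]

theorem mem_extGroup (x : G × GLd d) : x ∈ extGroup N ρ ↔
    (∀ n : N, x.2 * MonoidHom.toHomUnits ρ n * x.2⁻¹ =
      MonoidHom.toHomUnits ρ (MulAut.conjNormal x.1 n)) ∧ detU d x.2 ^ Nat.card G = 1 :=
  Iff.rfl

/-- the projection of the extension onto `G` -/
noncomputable def extProj : extGroup N ρ →* G := (MonoidHom.fst G (GLd d)).comp (extGroup N ρ).subtype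

theorem extProj_apply (x : extGroup N ρ) : extProj N ρ x = x.1.1 := rfl

/-- the scalar unit attached to a nonzero complex number -/
noncomputable def scU (d : ℕ) (l : ℂˣ) : GLd d :=
  ⟨(l : ℂ) • 1, ((l⁻¹ : ℂˣ) : ℂ) • 1, by simp, by simp⟩

theorem scU_coe (l : ℂˣ) : ((scU d l : GLd d) : (Fin d → ℂ) →ₗ[ℂ] (Fin d → ℂ)) = (l : ℂ) • 1 := rfl

theorem scU_comm (l : ℂˣ) (b : GLd d) : scU d l * b = b * scU d l := by
  apply Units.ext
  simp only [Units.val_mul, scU_coe, smul_mul_assoc, one_mul, mul_smul_comm, mul_one]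

theorem detU_scU (l : ℂˣ) : detU d (scU d l) = l ^ d := by
  apply Units.ext
  rw [detU_coe, scU_coe, LinearMap.det_smul, Module.finrank_fin_fun, map_one, mul_one,
    Units.val_pow_eq_pow_val]

/-- elements of the extension over the identity are scalars -/
theorem ker_scalar [hρ : ρ.IsIrreducible] (x : G × GLd d) (hx : x ∈ extGroup N ρ) (h1 : x.1 = 1) :
    ∃ l : ℂˣ, l ^ (d * Nat.card G) = 1 ∧ x.2 = scU d l := by
  obtain ⟨hx1, hx2⟩ := hx
  have hcomm : ∀ n : N, (x.2 : (Fin d → ℂ) →ₗ[ℂ] (Fin d → ℂ)) ∘ₗ ρ n = ρ n ∘ₗ (x.2 : _ →ₗ[ℂ] _) := by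
    intro n
    have h := hx1 n
    rw [h1, map_one, MulAut.one_apply] at h
    have h2 : x.2 * MonoidHom.toHomUnits ρ n = MonoidHom.toHomUnits ρ n * x.2 := by
      conv_rhs => rw [← h]
      group
    have h3 := congrArg (fun u : GLd d => (u : (Fin d → ℂ) →ₗ[ℂ] (Fin d → ℂ))) h2
    simp only [Units.val_mul, MonoidHom.coe_toHomUnits] at h3
    exact h3
  obtain ⟨c, hc, -⟩ := schur_scalar ρ (x.2 : (Fin d → ℂ) →ₗ[ℂ] (Fin d → ℂ)) hcomm
  have hnt := nontrivial_of_irreducible ρ
  have hc0 : c ≠ 0 := by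
    intro h0
    rw [h0, zero_smul] at hc
    have := x.2.ne_zero
    exact this hc
  refine ⟨Units.mk0 c hc0, ?_, ?_⟩
  · have h4 : detU d x.2 = (Units.mk0 c hc0) ^ d := by
      apply Units.ext
      rw [detU_coe, hc, LinearMap.det_smul, Module.finrank_fin_fun, map_one, mul_one,
        Units.val_pow_eq_pow_val, Units.val_mk0]
    rw [h4, ← pow_mul] at hx2
    exact hx2
  · apply Units.ext
    rw [scU_coe, Units.val_mk0]
    exact hc

theorem degree_pos_of_irreducible [hρ : ρ.IsIrreducible] : 0 < d := by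
  have hnt := nontrivial_of_irreducible ρ
  rcases Nat.eq_zero_or_pos d with h | h
  · subst h
    exact absurd hnt (not_nontrivial_iff_subsingleton.mpr inferInstance)
  · exact h

/-- the extension is a finite group -/
theorem finite_extGroup [Finite G] [hρ : ρ.IsIrreducible] : Finite (extGroup N ρ) := by
  classical
  have hd := degree_pos_of_irreducible N ρ
  have hM : 0 < d * Nat.card G := Nat.mul_pos hd Nat.card_pos
  haveI : NeZero (d * Nat.card G) := ⟨hM.ne'⟩
  have key : ∀ x : (extProj N ρ).ker, ∃ l : ℂˣ, l ^ (d * Nat.card G) = 1 ∧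
      x.1.1.2 = scU d l := fun x =>
    ker_scalar N ρ x.1.1 x.1.2 (by have := x.2; rwa [MonoidHom.mem_ker, extProj_apply] at this)
  choose f hf1 hf2 using key
  haveI : Finite (extProj N ρ).ker := by
    apply Finite.of_injective
      (fun x => (⟨f x, (mem_rootsOfUnity _ _).mpr (hf1 x)⟩ : rootsOfUnity (d * Nat.card G) ℂ))
    intro x y hxy
    have h1 : f x = f y := congrArg Subtype.val hxy
    apply Subtype.ext
    apply Subtype.ext
    apply Prod.ext
    · have hx := x.2
      have hy := y.2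
      rw [MonoidHom.mem_ker, extProj_apply] at hx hy
      rw [hx, hy]
    · rw [hf2 x, hf2 y, h1]
  haveI : Finite ((extGroup N ρ) ⧸ (extProj N ρ).ker) := Subgroup.finite_quotient_of_finiteIndex
  exact Finite.of_equiv _ (Subgroup.groupEquivQuotientProdSubgroup (s := (extProj N ρ).ker)).symm

/-- for an invariant representation the projection is onto -/
theorem extProj_surjective [Finite G] [hρ : ρ.IsIrreducible]
    (hinv : ∀ (g : G) (n : N),
      ρ.character ⟨g * n * g⁻¹, hN.conj_mem n n.2 g⟩ = ρ.character n) :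
    Function.Surjective (extProj N ρ) := by
  intro g
  obtain ⟨b, hb⟩ := Cfsg.Agent.Helper81.exists_conj_unit N hN ρ hinv g
  have hd := degree_pos_of_irreducible N ρ
  have hM : 0 < d * Nat.card G := Nat.mul_pos hd Nat.card_pos
  obtain ⟨z, hz⟩ := IsAlgClosed.exists_pow_nat_eq
    ((((detU d b) ^ Nat.card G)⁻¹ : ℂˣ) : ℂ) hM
  have hz0 : z ≠ 0 := by
    intro h0
    rw [h0, zero_pow hM.ne'] at hz
    exact (Units.ne_zero _) hz.symm
  have hl : (Units.mk0 z hz0) ^ (d * Nat.card G) = ((detU d b) ^ Nat.card G)⁻¹ := by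
    apply Units.ext
    rw [Units.val_pow_eq_pow_val, Units.val_mk0, hz]
  refine ⟨⟨(g, scU d (Units.mk0 z hz0) * b), ?_, ?_⟩, rfl⟩
  · intro n
    have h1 : MonoidHom.toHomUnits ρ (MulAut.conjNormal g n) =
        MonoidHom.toHomUnits ρ ⟨g * n * g⁻¹, hN.conj_mem n n.2 g⟩ := by
      congr 1
    show scU d (Units.mk0 z hz0) * b * MonoidHom.toHomUnits ρ n * (scU d (Units.mk0 z hz0) * b)⁻¹ = _
    rw [h1, ← hb n, mul_inv_rev, scU_comm]
    have h2 : b * scU d (Units.mk0 z hz0) * MonoidHom.toHomUnits ρ n * (b⁻¹ * (scU d (Units.mk0 z hz0))⁻¹)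
        = b * (scU d (Units.mk0 z hz0) * (MonoidHom.toHomUnits ρ n * b⁻¹)) *
          (scU d (Units.mk0 z hz0))⁻¹ := by group
    rw [h2, scU_comm]
    group
  · show detU d (scU d (Units.mk0 z hz0) * b) ^ Nat.card G = 1
    rw [map_mul, detU_scU, mul_pow, ← pow_mul, hl, inv_mul_cancel]

theorem incl_mem (n : N) : ((n : G), MonoidHom.toHomUnits ρ n) ∈ extGroup N ρ := by
  refine ⟨fun m => ?_, ?_⟩
  · show MonoidHom.toHomUnits ρ n * MonoidHom.toHomUnits ρ m * (MonoidHom.toHomUnits ρ n)⁻¹ = _
    rw [← map_inv, ← map_mul, ← map_mul]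
    congr 1
  · show detU d (MonoidHom.toHomUnits ρ n) ^ Nat.card G = 1
    rw [← map_pow, ← map_pow]
    have : n ^ Nat.card G = 1 := by
      apply Subtype.ext
      rw [Subgroup.coe_pow, Subgroup.coe_one]
      exact pow_card_eq_one'
    rw [this, map_one, map_one]

/-- the copy of `N` inside the extension -/
noncomputable def extIncl : N →* extGroup N ρ where
  toFun n := ⟨((n : G), MonoidHom.toHomUnits ρ n), incl_mem N ρ n⟩
  map_one' := by
    apply Subtype.ext
    simp
  map_mul' n m := by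
    apply Subtype.ext
    simp

theorem extIncl_apply (n : N) : ((extIncl N ρ n : extGroup N ρ) : G × GLd d) =
    ((n : G), MonoidHom.toHomUnits ρ n) := rfl

theorem extIncl_injective : Function.Injective (extIncl N ρ) := by
  intro n m h
  have h1 := congrArg (fun x : extGroup N ρ => x.1.1) h
  simp only [extIncl_apply] at h1
  exact Subtype.ext h1

theorem extIncl_conj (x : extGroup N ρ) (n : N) :
    x * extIncl N ρ n * x⁻¹ = extIncl N ρ (MulAut.conjNormal x.1.1 n) := by
  apply Subtype.ext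
  apply Prod.ext
  · simp [extIncl_apply, MulAut.conjNormal_apply]
  · simp only [Subgroup.coe_mul, Subgroup.coe_inv, Prod.snd_mul, Prod.snd_inv, extIncl_apply]
    exact x.2.1 n

theorem extIncl_range_normal : (extIncl N ρ).range.Normal := by
  constructor
  rintro _ ⟨n, rfl⟩ x
  exact ⟨_, (extIncl_conj N ρ x n).symm⟩

/-- the tautological representation of the extension -/
noncomputable def extRep : Representation ℂ (extGroup N ρ) (Fin d → ℂ) :=
  (Units.coeHom _).comp ((MonoidHom.snd G (GLd d)).comp (extGroup N ρ).subtype)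

theorem extRep_apply (x : extGroup N ρ) :
    extRep N ρ x = ((x.1.2 : GLd d) : (Fin d → ℂ) →ₗ[ℂ] (Fin d → ℂ)) := rfl

theorem extRep_incl (n : N) : extRep N ρ (extIncl N ρ n) = ρ n := rfl

/-- a representation is irreducible if its pullback along a homomorphism is -/
theorem isIrreducible_of_comp {K H : Type*} [Group K] [Group H] {V : Type*} [AddCommGroup V]
    [Module ℂ V] (σ : Representation ℂ K V) (φ : H →* K)
    (h : Representation.IsIrreducible (σ.comp φ : Representation ℂ H V)) :
    σ.IsIrreducible := by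
  haveI := h
  have key : ∀ U : Subrepresentation σ,
      ∃ U' : Subrepresentation (σ.comp φ : Representation ℂ H V),
        U'.toSubmodule = U.toSubmodule := by
    intro U
    exact ⟨⟨U.toSubmodule, fun g v hv => U.apply_mem_toSubmodule (φ g) hv⟩, rfl⟩
  refine { exists_pair_ne := ⟨⊥, ⊤, ?_⟩, eq_bot_or_eq_top := ?_ }
  · intro hbt
    have h1 : (⊥ : Subrepresentation (σ.comp φ : Representation ℂ H V)) ≠ ⊤ := bot_ne_top
    apply h1
    apply Subrepresentation.toSubmodule_injective
    have h2 := congrArg Subrepresentation.toSubmodule hbt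
    exact h2
  · intro U
    obtain ⟨U', hU'⟩ := key U
    rcases h.eq_bot_or_eq_top U' with h' | h'
    · left
      apply Subrepresentation.toSubmodule_injective
      rw [← hU', h']; rfl
    · right
      apply Subrepresentation.toSubmodule_injective
      rw [← hU', h']; rfl

theorem extRep_isIrreducible [hρ : ρ.IsIrreducible] : (extRep N ρ).IsIrreducible := by
  apply isIrreducible_of_comp (extRep N ρ) (extIncl N ρ)
  have : (extRep N ρ).comp (extIncl N ρ) = ρ := by
    ext n : 1
    rfl
  rw [this]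
  exact hρ

/-- elements of the extension lying over `N` act by scalars in an irreducible representation
on which the copy of `N` acts trivially -/
theorem scalar_of_over [Finite G] [hρ : ρ.IsIrreducible] {W : Type*} [AddCommGroup W]
    [Module ℂ W] [FiniteDimensional ℂ W] (σ : Representation ℂ (extGroup N ρ) W)
    [σ.IsIrreducible] (hσ : ∀ n : N, σ (extIncl N ρ n) = 1) (x : extGroup N ρ)
    (hx : x.1.1 ∈ N) : ∃ l : ℂ, σ x = l • (1 : Module.End ℂ W) := by
  classical
  haveI : Finite (extGroup N ρ) := finite_extGroup N ρ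
  haveI : Fintype (extGroup N ρ) := Fintype.ofFinite _
  set y := extIncl N ρ ⟨x.1.1, hx⟩ with hy
  set z := y⁻¹ * x with hz
  have hz1 : z.1.1 = 1 := by
    simp [hz, hy, extIncl_apply]
  obtain ⟨l, -, hl⟩ := ker_scalar N ρ z.1 z.2 hz1
  have hzc : z ∈ Subgroup.center (extGroup N ρ) := by
    rw [Subgroup.mem_center_iff]
    intro w
    apply Subtype.ext
    apply Prod.ext
    · simp [hz1]
    · simp only [Subgroup.coe_mul, Prod.snd_mul]
      rw [hl, scU_comm]
  obtain ⟨c, hc, -⟩ := center_scalar σ z hzc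
  refine ⟨c, ?_⟩
  have hx' : x = y * z := by rw [hz]; group
  rw [hx', map_mul, hσ, one_mul, hc]

end CentralExt

end Cfsg.Agent.Helper79
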