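import Cfsg.Agent.Lib.Helper79.NormalSums
import Cfsg.Agent.Lib.Helper79.Linear

set_option autoImplicit false
set_option linter.unusedSectionVars false
set_option linter.style.haveILetI false

namespace Cfsg.Agent.Helper79

open Module
open scoped ComplexConjugate

universe u v

section CosetSums

variable {G : Type v} [Group G] [Fintype G]

open Classical in
/-- the values of an irreducible character sum to zero over every coset of a normal subgroup
not contained in its kernel -/
theorem sum_coset_eq_zero (N : Subgroup G) [N.Normal] (χ : IrrCharacter G)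
    (h : ¬ N ≤ irrKer χ) (g : G) :
    ∑ x : G, (if x ∈ N then (χ : G → ℂ) (g * x) else 0) = 0 := by
  have : Finite G := Finite.of_fintype G
  have h0 := sum_normal_eq_zero N χ h
  obtain ⟨n, ρ, hρ, hχ⟩ := χ.2
  have hnt := nontrivial_of_irreducible ρ
  let a : G → ℂ := fun x => if x ∈ N then 1 else 0
  have ha : ∀ x y : G, a (y * x * y⁻¹) = a x := by
    intro x y
    simp only [a]
    have : y * x * y⁻¹ ∈ N ↔ x ∈ N := by
      constructor
      · intro hx
        have := Subgroup.Normal.conj_mem inferInstance _ hx y⁻¹
        simpa [mul_assoc] using this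
      · intro hx
        exact Subgroup.Normal.conj_mem inferInstance _ hx y
    simp only [this]
  obtain ⟨c, hc1, hc2⟩ := schur_scalar ρ (wsum a ρ) (wsum_comm a ha ρ)
  rw [trace_wsum] at hc2
  have h1 : ∑ x : G, a x * ρ.character x = 0 := by
    rw [← h0]
    apply Finset.sum_congr rfl
    intro x _
    simp only [a]
    rw [hχ]
    split_ifs <;> simp
  rw [h1] at hc2
  have hn0 : (finrank ℂ (Fin n → ℂ) : ℂ) ≠ 0 := by
    have : 0 < finrank ℂ (Fin n → ℂ) := Module.finrank_pos
    exact_mod_cast this.ne'
  have hc0 : c = 0 := by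
    rcases mul_eq_zero.1 hc2 with h2 | h2
    · exact h2
    · exact absurd h2 hn0
  have hw : wsum a ρ = 0 := by rw [hc1, hc0, zero_smul]
  have h2 : ∑ x : G, (if x ∈ N then (χ : G → ℂ) (g * x) else 0)
      = LinearMap.trace ℂ (Fin n → ℂ) (ρ g * wsum a ρ) := by
    unfold wsum
    rw [Finset.mul_sum, map_sum]
    apply Finset.sum_congr rfl
    intro x _
    simp only [a]
    split_ifs with hx
    · rw [one_smul, ← map_mul, ← hχ]; rfl
    · rw [zero_smul, mul_zero, map_zero]
  rw [h2, hw, mul_zero, map_zero]

end CosetSums

end Cfsg.Agent.Helper79
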