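import Cfsg.Agent.Lib.Helper79.LinearDeg
import Cfsg.Agent.Lib.Helper79.NilpAux
import Cfsg.Prelude.Def_Transfer

set_option autoImplicit false
set_option linter.unusedSectionVars false
set_option linter.style.haveILetI false

namespace Cfsg.Agent.Helper79

open Module
open scoped ComplexConjugate

universe u v

section Backward

variable {G : Type v} [Group G] [Finite G]

/-- if the centre has order two, it consists of `1` and any given nontrivial central element -/
theorem center_eq_of_card_two (hZ : Nat.card (Subgroup.center G) = 2) (c : G)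
    (hc : c ∈ Subgroup.center G) (hc1 : c ≠ 1) (w : G) (hw : w ∈ Subgroup.center G) :
    w = 1 ∨ w = c := by
  obtain ⟨y, -, hy⟩ := (Nat.card_eq_two_iff' (1 : Subgroup.center G)).1 hZ
  by_cases hw1 : w = 1
  · left; exact hw1
  · right
    have h1 : (⟨w, hw⟩ : Subgroup.center G) = y := hy _ (by
      intro h; exact hw1 (congrArg Subtype.val h))
    have h2 : (⟨c, hc⟩ : Subgroup.center G) = y := hy _ (by
      intro h; exact hc1 (congrArg Subtype.val h))
    exact congrArg Subtype.val (h1.trans h2.symm)

/-- in a group with `G' = Z(G)` of order two, a character not trivial on the centre vanishes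
off the centre -/
theorem vanish_off_center (hcomm : commutator G = Subgroup.center G)
    (hZ : Nat.card (Subgroup.center G) = 2) (χ : IrrCharacter G)
    (hχ : ¬ Subgroup.center G ≤ irrKer χ) (g : G) (hg : g ∉ Subgroup.center G) :
    (χ : G → ℂ) g = 0 := by
  rw [Subgroup.mem_center_iff] at hg
  push Not at hg
  obtain ⟨h, hh⟩ := hg
  set c := h * g * h⁻¹ * g⁻¹ with hc
  have hcZ : c ∈ Subgroup.center G := by
    rw [← hcomm, commutator_def, hc, ← commutatorElement_def]
    exact Subgroup.commutator_mem_commutator (Subgroup.mem_top h) (Subgroup.mem_top g)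
  have hc1 : c ≠ 1 := by
    intro h1
    apply hh
    have : h * g = c * (g * h) := by rw [hc]; group
    rw [this, h1, one_mul]
  have h1 := irr_central_mul χ c hcZ g
  have h2 : c * g = h * g * h⁻¹ := by rw [hc]; group
  rw [h2, irr_class χ g h] at h1
  by_contra h0
  have h3 : (χ : G → ℂ) c = (χ : G → ℂ) 1 := by
    have : (χ : G → ℂ) g * (χ : G → ℂ) 1 = (χ : G → ℂ) g * (χ : G → ℂ) c := by
      rw [h1]; ring
    exact (mul_left_cancel₀ h0 this).symm
  apply hχ
  intro w hw
  rcases center_eq_of_card_two hZ c hcZ hc1 w hw with h | h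
  · rw [h]; exact (irrKer χ).one_mem
  · rw [h]; exact h3

/-- in a group with `G' = Z(G)` of order two, a character not trivial on the centre has
`2 χ(1)² = |G|` -/
theorem two_mul_sq_eq_card (hcomm : commutator G = Subgroup.center G)
    (hZ : Nat.card (Subgroup.center G) = 2) (χ : IrrCharacter G)
    (hχ : ¬ Subgroup.center G ≤ irrKer χ) :
    2 * (charDegree (χ : G → ℂ)) ^ 2 = Nat.card G := by
  classical
  have := Fintype.ofFinite G
  have h1 := irr_sum_normSq χ
  have h2 := Finset.sum_filter_add_sum_filter_not (Finset.univ : Finset G)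
    (fun g : G => g ∈ Subgroup.center G) (fun g => Complex.normSq ((χ : G → ℂ) g))
  have h3 : ∑ g ∈ Finset.univ.filter (fun g : G => ¬ g ∈ Subgroup.center G),
      Complex.normSq ((χ : G → ℂ) g) = 0 := by
    apply Finset.sum_eq_zero
    intro g hg
    rw [vanish_off_center hcomm hZ χ hχ g (Finset.mem_filter.1 hg).2]
    simp
  have h4 : ∑ g ∈ Finset.univ.filter (fun g : G => g ∈ Subgroup.center G),
      Complex.normSq ((χ : G → ℂ) g)
      = (Nat.card (Subgroup.center G) : ℝ) * ((charDegree (χ : G → ℂ) : ℕ) : ℝ) ^ 2 := by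
    rw [Finset.sum_congr rfl (fun g hg => irr_normSq_central χ g (Finset.mem_filter.1 hg).2),
      Finset.sum_const, nsmul_eq_mul]
    congr 2
    rw [Nat.card_eq_fintype_card, Fintype.card_subtype]
  rw [h3, add_zero, h4, h1, hZ] at h2
  exact_mod_cast h2

/-- an extraspecial `2`-group has exactly one irreducible character of even degree -/
theorem card_even_degree_of_extraspecial (hE : Cfsg.IsExtraspecial 2 G) :
    Nat.card {χ : IrrCharacter G // 2 ∣ charDegree (χ : G → ℂ)} = 1 := by
  classical
  obtain ⟨⟨hP, -, hcomm⟩, hZ⟩ := hE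
  have hiff : ∀ χ : IrrCharacter G,
      2 ∣ charDegree (χ : G → ℂ) ↔ ¬ Subgroup.center G ≤ irrKer χ := by
    intro χ
    constructor
    · intro h2 hle
      rw [← hcomm] at hle
      rw [degree_one_of_commutator_le_irrKer χ hle] at h2
      omega
    · intro hle
      have hne : charDegree (χ : G → ℂ) ≠ 1 := by
        intro h1
        apply hle
        rw [← hcomm]
        exact commutator_le_irrKer_of_degree_one χ h1
      obtain ⟨n, hn⟩ := IsPGroup.iff_card.mp hP
      have hd := irr_degree_dvd_card χ
      rw [hn] at hd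
      obtain ⟨a, -, ha⟩ := (Nat.dvd_prime_pow Nat.prime_two).1 hd
      rw [ha] at hne ⊢
      have : a ≠ 0 := by
        intro h0; apply hne; rw [h0, pow_zero]
      exact dvd_pow_self 2 this
  have h1 := sum_sq_degree_of_not_le_ker (Subgroup.center G)
  have h2 : ∑ χ ∈ Finset.univ.filter (fun χ : IrrCharacter G => ¬ Subgroup.center G ≤ irrKer χ),
      2 * (charDegree (χ : G → ℂ)) ^ 2
      = (Finset.univ.filter (fun χ : IrrCharacter G => ¬ Subgroup.center G ≤ irrKer χ)).card
        * Nat.card G := by
    rw [Finset.sum_congr rfl (fun χ hχ =>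
      two_mul_sq_eq_card hcomm hZ χ (Finset.mem_filter.1 hχ).2), Finset.sum_const, smul_eq_mul]
  rw [← Finset.mul_sum, h1] at h2
  have h3 := Subgroup.card_mul_index (Subgroup.center G)
  rw [hZ] at h3
  have hG : 0 < Nat.card G := Nat.card_pos
  have h4 : (Finset.univ.filter
      (fun χ : IrrCharacter G => ¬ Subgroup.center G ≤ irrKer χ)).card = 1 := by
    have : 2 * (Nat.card G - (Subgroup.center G).index) = Nat.card G := by omega
    rw [this] at h2
    have h5 : 1 * Nat.card G = (Finset.univ.filter
      (fun χ : IrrCharacter G => ¬ Subgroup.center G ≤ irrKer χ)).card * Nat.card G := by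
      rw [one_mul]; exact h2
    exact (Nat.eq_of_mul_eq_mul_right hG h5).symm
  rw [Nat.card_eq_fintype_card, Fintype.card_subtype, ← h4]
  congr 1
  ext χ
  simp only [Finset.mem_filter, Finset.mem_univ, true_and]
  exact hiff χ

end Backward

end Cfsg.Agent.Helper79
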