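import Cfsg.Agent.Lib.Helper79.Extraspecial
import Cfsg.Agent.Lib.Helper47.Frat
import Cfsg.Agent.Lib.Helper2.PGroup

set_option autoImplicit false
set_option linter.unusedSectionVars false
set_option linter.style.haveILetI false

namespace Cfsg.Agent.Helper79

open Module
open scoped ComplexConjugate
open scoped commutatorElement

universe u v

section Forward

variable {G : Type v} [Group G] [Finite G]

/-- if `G' ≤ Z(G)` and `Z(G)` has order two then squares are central -/
theorem sq_mem_center_of_card_two (hle : commutator G ≤ Subgroup.center G)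
    (hZ : Nat.card (Subgroup.center G) = 2) (x : G) : x ^ 2 ∈ Subgroup.center G := by
  rw [Subgroup.mem_center_iff]
  intro y
  set c := x⁻¹ * y⁻¹ * x * y with hc
  have hcZ : c ∈ Subgroup.center G := by
    apply hle
    have : c = ⁅x⁻¹, y⁻¹⁆ := by rw [commutatorElement_def, hc, inv_inv, inv_inv]
    rw [commutator_def, this]
    exact Subgroup.commutator_mem_commutator (Subgroup.mem_top _) (Subgroup.mem_top _)
  have hc2 : c ^ 2 = 1 := by
    have h1 : (⟨c, hcZ⟩ : Subgroup.center G) ^ Nat.card (Subgroup.center G) = 1 :=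
      pow_card_eq_one'
    rw [hZ] at h1
    exact congrArg Subtype.val h1
  have h1 : y⁻¹ * x * y = x * c := by rw [hc]; group
  have h2 : y⁻¹ * x ^ 2 * y = x ^ 2 := by
    have h3 : y⁻¹ * x ^ 2 * y = (y⁻¹ * x * y) ^ 2 := by
      rw [sq, sq]; group
    rw [h3, h1]
    have hcomm : Commute x c := by
      rw [Subgroup.mem_center_iff] at hcZ
      exact hcZ x
    rw [hcomm.mul_pow, hc2, mul_one]
  calc y * x ^ 2 = y * (y⁻¹ * x ^ 2 * y) := by rw [h2]
    _ = x ^ 2 * y := by group

/-- a `p`-group with exactly one irreducible character of degree divisible by `p` is an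
extraspecial `2`-group -/
theorem extraspecial_of_unique_nonlinear (p : ℕ) [hp : Fact p.Prime] (hP : IsPGroup p G)
    (h : Nat.card {χ : IrrCharacter G // p ∣ charDegree (χ : G → ℂ)} = 1) :
    p = 2 ∧ Cfsg.IsExtraspecial 2 G := by
  classical
  obtain ⟨n, hn⟩ := IsPGroup.iff_card.mp hP
  rw [Nat.card_eq_one_iff_unique] at h
  obtain ⟨hsub, ⟨⟨χ₀, hχ₀⟩⟩⟩ := h
  have huniq : ∀ χ : IrrCharacter G, p ∣ charDegree (χ : G → ℂ) → χ = χ₀ := by
    intro χ hχ
    exact congrArg Subtype.val (hsub.elim ⟨χ, hχ⟩ ⟨χ₀, hχ₀⟩)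
  have hlin : ∀ χ : IrrCharacter G, χ ≠ χ₀ → commutator G ≤ irrKer χ := by
    intro χ hne
    apply commutator_le_irrKer_of_degree_one
    have hd := irr_degree_dvd_card χ
    rw [hn] at hd
    obtain ⟨a, -, ha⟩ := (Nat.dvd_prime_pow hp.out).1 hd
    rw [ha]
    by_contra h1
    apply hne
    apply huniq
    rw [ha]
    have : a ≠ 0 := by intro h0; apply h1; rw [h0, pow_zero]
    exact dvd_pow_self p this
  have hχ₀ker : ¬ commutator G ≤ irrKer χ₀ := by
    intro hle
    rw [degree_one_of_commutator_le_irrKer χ₀ hle] at hχ₀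
    exact hp.out.one_lt.ne' (Nat.dvd_one.1 hχ₀)
  have hGpos : 0 < Nat.card G := Nat.card_pos
  have key : ∀ N : Subgroup G, N.Normal → N ≤ commutator G → N ≠ ⊥ →
      (charDegree (χ₀ : G → ℂ)) ^ 2 = Nat.card G - N.index := by
    intro N hN hle hne
    have h1 := sum_sq_degree_of_not_le_ker N
    have hsubset : Finset.univ.filter (fun χ : IrrCharacter G => ¬ N ≤ irrKer χ) ⊆ {χ₀} := by
      intro χ hχ
      rw [Finset.mem_singleton]
      by_contra hne'
      exact (Finset.mem_filter.1 hχ).2 (hle.trans (hlin χ hne'))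
    rcases Finset.subset_singleton_iff.1 hsubset with h2 | h2
    · rw [h2, Finset.sum_empty] at h1
      exfalso
      have h3 := Subgroup.card_mul_index N
      have h4 : 1 < Nat.card N := by
        rw [Subgroup.one_lt_card_iff_ne_bot]; exact hne
      have h5 : 0 < N.index := Nat.pos_of_ne_zero Subgroup.index_ne_zero_of_finite
      have h6 : 2 * N.index ≤ Nat.card N * N.index := Nat.mul_le_mul_right _ h4
      omega
    · rw [h2, Finset.sum_singleton] at h1
      exact h1
  have hG'ne : commutator G ≠ ⊥ := by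
    intro h; apply hχ₀ker; rw [h]; exact bot_le
  have hG'n : (commutator G).Normal := inferInstance
  have hidxle : ∀ M : Subgroup G, M.index ≤ Nat.card G := fun M =>
    Nat.le_of_dvd hGpos (Subgroup.index_dvd_card M)
  have hmin : ∀ M : Subgroup G, M.Normal → M ≤ commutator G → M ≠ ⊥ → M = commutator G := by
    intro M hM hle hne
    have h1 := key M hM hle hne
    have h2 := key (commutator G) hG'n le_rfl hG'ne
    rw [h1] at h2
    have h3 : M.index = (commutator G).index := by
      have := hidxle M
      have := hidxle (commutator G)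
      omega
    have h5 := Subgroup.card_mul_index M
    have h6 := Subgroup.card_mul_index (commutator G)
    rw [h3] at h5
    have h7 : Nat.card M = Nat.card (commutator G) :=
      Nat.eq_of_mul_eq_mul_right (Nat.pos_of_ne_zero Subgroup.index_ne_zero_of_finite)
        (h5.trans h6.symm)
    exact Subgroup.eq_of_le_of_card_ge hle h7.ge
  obtain ⟨hcen, hcard⟩ := card_eq_prime_of_minimal_normal p hP (commutator G) hG'ne hmin
  -- arithmetic
  set d := charDegree (χ₀ : G → ℂ) with hd
  have hdpos : 0 < d := (irr_one_eq χ₀).2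
  have h1 := key (commutator G) hG'n le_rfl hG'ne
  have h2 := Subgroup.card_mul_index (commutator G)
  rw [hcard] at h2
  set i := (commutator G).index with hi
  have hipos : 0 < i := Nat.pos_of_ne_zero Subgroup.index_ne_zero_of_finite
  have h3 : d ^ 2 = (p - 1) * i := by
    rw [h1, ← h2]
    have := hp.out.one_lt
    rw [Nat.sub_mul, one_mul]
  have hp2 : p = 2 := by
    have hdd := irr_degree_dvd_card χ₀
    rw [hn] at hdd
    obtain ⟨a, -, ha⟩ := (Nat.dvd_prime_pow hp.out).1 hdd
    have h4 : (p - 1) ∣ p ^ (2 * a) := by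
      rw [mul_comm 2 a, pow_mul, ← ha, ← hd, h3]
      exact dvd_mul_right _ _
    obtain ⟨b, -, hb⟩ := (Nat.dvd_prime_pow hp.out).1 h4
    have hp1 := hp.out.one_lt
    rcases Nat.eq_zero_or_pos b with h0 | hbpos
    · rw [h0, pow_zero] at hb
      omega
    · exfalso
      have : p ∣ p - 1 := by rw [hb]; exact dvd_pow_self p hbpos.ne'
      have := Nat.le_of_dvd (by omega) this
      omega
  subst hp2
  refine ⟨rfl, ?_⟩
  have h4 : d ^ 2 = i := by rw [h3]; norm_num
  have h5 := card_central_mul_sq_le χ₀ (Subgroup.center G) le_rfl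
  rw [← hd, ← h2, h4] at h5
  have hZle : Nat.card (Subgroup.center G) ≤ 2 := Nat.le_of_mul_le_mul_right h5 hipos
  have hZeq : commutator G = Subgroup.center G :=
    Subgroup.eq_of_le_of_card_ge hcen (by rw [hcard]; exact hZle)
  have hZcard : Nat.card (Subgroup.center G) = 2 := by rw [← hZeq]; exact hcard
  refine ⟨⟨hP, ?_, hZeq⟩, hZcard⟩
  apply le_antisymm
  · have h6 := Cfsg.Agent.Helper47.frattini_le_ker_of_elementary (p := 2)
      (QuotientGroup.mk' (Subgroup.center G)) (by
        intro x y
        rw [← map_mul, ← map_mul]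
        apply (QuotientGroup.eq).2
        apply hcen
        have : (x * y)⁻¹ * (y * x) = ⁅y⁻¹, x⁻¹⁆ := by
          rw [commutatorElement_def]; group
        rw [this, commutator_def]
        exact Subgroup.commutator_mem_commutator (Subgroup.mem_top _) (Subgroup.mem_top _))
      (by
        intro x
        rw [← map_pow]
        exact (QuotientGroup.eq_one_iff _).2 (sq_mem_center_of_card_two hcen hZcard x))
    rwa [QuotientGroup.ker_mk'] at h6
  · rw [← hZeq]
    exact Cfsg.Agent.Helper2.commutator_le_frattini hP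

end Forward

end Cfsg.Agent.Helper79
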