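import Mathlib
import Cfsg.Prelude.Def_LieTypeDatum
import Cfsg.Agent.Lib.Helper40.OEV.A3
import Cfsg.Agent.Lib.Helper40.OEV.C1
import Cfsg.Agent.Lib.Helper40.OEV.C2
import Cfsg.Agent.Lib.Helper40.LangOrth
import Cfsg.Agent.Lib.Helper62.OMFL
import Cfsg.Agent.Lib.Helper5.OrthAut6

/-!
# GF (TL): the twisted Lang lemma for an automorphism of order 2 (helper43 server, row S2717)

`Q` a quadratic form with nondegenerate polar form and a totally singular Lagrangian, `σ`-stable,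
`σ` of order 2.  Two similarities `G, G'` with `G σ(G) = 1 = G' σ(G')` in the same class-coset are
twisted-conjugate by a class-preserving similarity.
-/

set_option autoImplicit false
set_option linter.unusedSectionVars false
set_option linter.unusedVariables false

namespace Cfsg.Agent.Helper79.GF

open Matrix QuadraticMap Cfsg.Agent.Helper5.OrthAut Cfsg.Agent.Helper40.OrthEven
  Cfsg.Agent.Helper40.LangO Cfsg.Agent.Helper40.H90 Cfsg.Agent.Helper40.AutPSLNorm
  Cfsg.Agent.Helper40.FixK Cfsg.Agent.Helper62.OMF Cfsg.Agent.Helper43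

section Desc

variable {F : Type*} [Field F] {ι : Type} [Fintype ι] [DecidableEq ι]

/-- descent data of a cocycle `G`: `G σ(H) = H`, and `c • Q ∘ H` descends to the nondegenerate form
`Q0` over the fixed field of `σ` -/
structure Desc (Q : QuadraticForm F (ι → F)) (σ : F ≃+* F) (G : Matrix ι ι F) where
  H : Matrix ι ι F
  H' : Matrix ι ι F
  hHH' : H * H' = 1
  hH'H : H' * H = 1
  hG : G * H.map σ = H
  c : F
  hc : c ≠ 0
  Q0 : QuadraticForm (fixK σ) (ι → fixK σ)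
  hQ0 : ∀ z : ι → fixK σ, ((Q0 z : fixK σ) : F) = c * Q (H *ᵥ emb (fixK σ) z)
  hnd : (polarBilin Q0).Nondegenerate

theorem sig_emb (σ : F ≃+* F) (z : ι → fixK σ) :
    (fun i => σ (emb (fixK σ) z i)) = emb (fixK σ) z := by
  funext i
  exact (z i).2

/-- the multiplier of a cocycle has norm one -/
theorem mult_norm_one (Q : QuadraticForm F (ι → F)) (σ : F ≃+* F)
    (hσQ : ∀ v : ι → F, Q (fun i => σ (v i)) = σ (Q v))
    (G : Matrix ι ι F) (μ : Fˣ) (hGμ : ∀ v, Q (G *ᵥ v) = (μ : F) * Q v)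
    (hN : G * G.map σ = 1) (v : ι → F) (hv : Q v ≠ 0) : (μ : F) * σ (μ : F) = 1 := by
  have hv' : v = fun i => σ (σ.symm (v i)) := by
    funext i
    simp
  have h1 : Q v = (μ : F) * σ (μ : F) * Q v := by
    conv_lhs => rw [← Matrix.one_mulVec v, ← hN, ← Matrix.mulVec_mulVec, hGμ]
    have h2 : G.map σ *ᵥ v = fun i => σ ((G *ᵥ (fun j => σ.symm (v j))) i) := by
      conv_lhs => rw [hv']
      exact sigma_mulVec σ _ _
    rw [h2, hσQ, hGμ, map_mul, ← hσQ, ← hv', mul_assoc]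
  have h3 : (1 - (μ : F) * σ (μ : F)) * Q v = 0 := by
    rw [sub_mul, one_mul, ← h1, sub_self]
  rcases mul_eq_zero.mp h3 with h4 | h4
  · exact (sub_eq_zero.mp h4).symm
  · exact absurd h4 hv

/-- every cocycle similarity has descent data -/
theorem exists_desc [Fintype F] (Q : QuadraticForm F (ι → F)) (hQ : (polarBilin Q).Nondegenerate)
    (σ : F ≃+* F) (hσQ : ∀ v : ι → F, Q (fun i => σ (v i)) = σ (Q v)) (hσ : orderOf σ = 2)
    (hne : ∃ v : ι → F, Q v ≠ 0)
    (G : Matrix ι ι F) (μ : Fˣ) (hGμ : ∀ v, Q (G *ᵥ v) = (μ : F) * Q v)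
    (hN : G * G.map σ = 1) : Nonempty (Desc Q σ G) := by
  classical
  obtain ⟨v, hv⟩ := hne
  have hμ := mult_norm_one Q σ hσQ G μ hGμ hN v hv
  have hNμ : nrmU σ μ 2 = 1 := by
    apply Units.ext
    show ((μ * Units.map (σ : F →* F) (μ * Units.map (σ : F →* F) 1) : Fˣ) : F) = 1
    rw [map_one, mul_one, Units.val_mul]
    exact hμ
  have hNG : nrmI σ G 2 = 1 := by
    show G * smI σ (G * smI σ 1) = 1
    rw [smI_one, Matrix.mul_one]
    exact hN
  obtain ⟨ν, hν⟩ := h90_units σ (by norm_num : 0 < 2) hσ μ hNμ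
  have hν' : σ (ν : F) * (μ : F) = (ν : F) := by
    rw [hν, Units.val_mul]
    have h6 : ((Units.map (σ : F →* F) ν : Fˣ) : F) = σ (ν : F) := rfl
    rw [← h6, mul_comm (ν : F), ← mul_assoc, ← Units.val_mul, mul_inv_cancel, Units.val_one,
      one_mul]
  obtain ⟨H₁, H₁', hH1, hH2, hH3⟩ := hilbert90_I σ G (by norm_num : 0 < 2) hσ hNG
  have hν0 : (ν : F) ≠ 0 := ν.ne_zero
  set c : F := (ν : F)⁻¹ with hc
  have hc0 : c ≠ 0 := inv_ne_zero hν0
  have hcσ : σ c = c * (μ : F) := by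
    rw [hc, map_inv₀]
    have h1 : σ (ν : F) ≠ 0 := by rw [Ne, map_eq_zero_iff σ σ.injective]; exact hν0
    field_simp
    exact hν'.symm
  let Q₁ : QuadraticForm F (ι → F) := c • Q.comp (Matrix.toLin' H₁)
  have hQ₁ : ∀ z, Q₁ z = c * Q (H₁ *ᵥ z) := by
    intro z
    show c • Q (Matrix.toLin' H₁ z) = _
    rw [Matrix.toLin'_apply, smul_eq_mul]
  have hQ₁σ : ∀ z : ι → F, Q₁ (fun i => σ (z i)) = σ (Q₁ z) := by
    intro z
    rw [hQ₁, hQ₁, map_mul, hcσ]
    conv_lhs => rw [← hH3]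
    rw [← Matrix.mulVec_mulVec, hGμ]
    have : smI σ H₁ *ᵥ (fun i => σ (z i)) = fun i => σ ((H₁ *ᵥ z) i) := sigma_mulVec σ H₁ z
    rw [this, hσQ]
    ring
  let K := fixK σ
  have hK : ∀ z : ι → K, Q₁ (emb K z) ∈ K := by
    intro z
    show σ (Q₁ (emb K z)) = Q₁ (emb K z)
    rw [← hQ₁σ, sig_emb]
  obtain ⟨Q0, hQ0⟩ := exists_descent K Q₁ hK
  have hpolQ₁ : ∀ u w, polar Q₁ u w = c * polar Q (H₁ *ᵥ u) (H₁ *ᵥ w) := by
    intro u w
    simp only [polar, hQ₁, Matrix.mulVec_add]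
    ring
  have hQnd := hQ.1
  have hQ₁nd : ∀ u, (∀ w, polar Q₁ u w = 0) → u = 0 := by
    intro u hu
    have h1 : H₁ *ᵥ u = 0 := by
      apply hQnd
      intro w'
      have h2 := hu (H₁' *ᵥ w')
      rw [hpolQ₁, Matrix.mulVec_mulVec, hH1, Matrix.one_mulVec] at h2
      rw [polarBilin_apply_apply]
      exact (mul_eq_zero.mp h2).resolve_left hc0
    have h3 : H₁' *ᵥ (H₁ *ᵥ u) = u := by rw [Matrix.mulVec_mulVec, hH2, Matrix.one_mulVec]
    rw [← h3, h1, Matrix.mulVec_zero]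
  have hpol0 : ∀ x y, ((polar Q0 x y : K) : F) = polar Q₁ (emb K x) (emb K y) := by
    intro x y
    show ((Q0 (x + y) - Q0 x - Q0 y : K) : F) =
      Q₁ (emb K x + emb K y) - Q₁ (emb K x) - Q₁ (emb K y)
    rw [← emb_add, ← hQ0, ← hQ0, ← hQ0]
    rfl
  have hnd : ∀ x, (∀ y, polar Q0 x y = 0) → x = 0 := by
    intro x hx
    apply emb_eq_zero K
    apply hQ₁nd
    have hlin : polarBilin Q₁ (emb K x) = 0 := by
      apply (Pi.basisFun F ι).ext
      intro i
      rw [Pi.basisFun_apply, ← emb_single K i, polarBilin_apply_apply, ← hpol0, hx]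
      rfl
    intro w
    have := LinearMap.congr_fun hlin w
    rwa [polarBilin_apply_apply] at this
  refine ⟨⟨H₁, H₁', hH1, hH2, hH3, c, hc0, Q0, fun z => ?_, ?_⟩⟩
  · rw [hQ0, hQ₁]
  · rw [(Cfsg.Agent.Helper43.polarBilin_isRefl Q0).nondegenerate_iff_separatingLeft]
    intro x hx
    apply hnd x
    intro y
    have := hx y
    rwa [polarBilin_apply_apply] at this

end Desc

section Cohom

variable {F : Type*} [Field F] {ι : Type} [Fintype ι] [DecidableEq ι]

theorem map_sig_mul (σ : F ≃+* F) (A B : Matrix ι ι F) :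
    (A * B).map σ = A.map σ * B.map σ := smI_mul σ A B

theorem map_sig_one (σ : F ≃+* F) : (1 : Matrix ι ι F).map σ = 1 := smI_one σ

theorem Desc.hG' {Q : QuadraticForm F (ι → F)} {σ : F ≃+* F} {G : Matrix ι ι F}
    (D : Desc Q σ G) : D.H'.map σ = D.H' * G := by
  have h1 : D.H.map σ * D.H'.map σ = 1 := by
    rw [← map_sig_mul, D.hHH', map_sig_one]
  have h2 : (D.H' * G) * D.H.map σ = 1 := by
    rw [Matrix.mul_assoc, D.hG, D.hH'H]
  calc D.H'.map σ = 1 * D.H'.map σ := (Matrix.one_mul _).symm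
    _ = (D.H' * G) * D.H.map σ * D.H'.map σ := by rw [h2]
    _ = D.H' * G := by rw [Matrix.mul_assoc, h1, Matrix.mul_one]

/-- descent data with similar descended forms: the cocycles are cohomologous -/
theorem cohom_of_similar (Q : QuadraticForm F (ι → F)) (σ : F ≃+* F)
    (G G' : Matrix ι ι F) (D : Desc Q σ G) (D' : Desc Q σ G')
    (hsim : IsSimilarForm D.Q0 D'.Q0) :
    ∃ (h h' : Matrix ι ι F) (ν : Fˣ), h * h' = 1 ∧ h' * h = 1 ∧
      (∀ v, Q (h *ᵥ v) = (ν : F) * Q v) ∧ G * h.map σ = h * G' := by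
  classical
  obtain ⟨P0, P0', c0, hPP0, hPP0', hs⟩ := hsim
  let K := fixK σ
  set P := P0.map K.subtype with hP
  set P' := P0'.map K.subtype with hP'
  have hPP : P * P' = 1 := by
    rw [hP, hP', ← Matrix.map_mul, hPP0, Matrix.map_one _ (map_zero _) (map_one _)]
  have hPP' : P' * P = 1 := by
    rw [hP, hP', ← Matrix.map_mul, hPP0', Matrix.map_one _ (map_zero _) (map_one _)]
  have hPσ : P.map σ = P := by
    ext i j
    exact (P0 i j).2
  have hc0 : ((c0 : K) : F) ≠ 0 := by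
    intro h
    exact c0.ne_zero (Subtype.ext h)
  have hkey : D.c • Q.comp (Matrix.toLin' (D.H * P)) =
      (((c0 : K) : F) * D'.c) • Q.comp (Matrix.toLin' D'.H) := by
    apply ext_of_emb K
    intro w
    show D.c * Q (Matrix.toLin' (D.H * P) (emb K w)) =
      (((c0 : K) : F) * D'.c) * Q (Matrix.toLin' D'.H (emb K w))
    rw [Matrix.toLin'_apply, Matrix.toLin'_apply, ← Matrix.mulVec_mulVec, hP, map_mulVec_emb,
      ← D.hQ0, hs, mul_assoc, ← D'.hQ0]
    rfl
  have hkey' : ∀ z : ι → F, D.c * Q ((D.H * P) *ᵥ z) = (((c0 : K) : F) * D'.c) * Q (D'.H *ᵥ z) := by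
    intro z
    have := congrArg (fun q => q z) hkey
    simp only [_root_.smul_apply, QuadraticMap.comp_apply, Matrix.toLin'_apply,
      smul_eq_mul] at this
    exact this
  have hν0 : D.c⁻¹ * (((c0 : K) : F) * D'.c) ≠ 0 :=
    mul_ne_zero (inv_ne_zero D.hc) (mul_ne_zero hc0 D'.hc)
  refine ⟨D.H * P * D'.H', D'.H * P' * D.H', Units.mk0 _ hν0, ?_, ?_, ?_, ?_⟩
  · calc D.H * P * D'.H' * (D'.H * P' * D.H')
        = D.H * (P * ((D'.H' * D'.H) * P')) * D.H' := by simp only [Matrix.mul_assoc]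
      _ = 1 := by rw [D'.hH'H, Matrix.one_mul, hPP, Matrix.mul_one, D.hHH']
  · calc D'.H * P' * D.H' * (D.H * P * D'.H')
        = D'.H * (P' * ((D.H' * D.H) * P)) * D'.H' := by simp only [Matrix.mul_assoc]
      _ = 1 := by rw [D.hH'H, Matrix.one_mul, hPP', Matrix.mul_one, D'.hHH']
  · intro v
    rw [Units.val_mk0, ← Matrix.mulVec_mulVec]
    have h1 := hkey' (D'.H' *ᵥ v)
    have h2 : D'.H *ᵥ D'.H' *ᵥ v = v := by
      rw [Matrix.mulVec_mulVec, D'.hHH', Matrix.one_mulVec]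
    rw [h2] at h1
    rw [mul_assoc, ← h1, ← mul_assoc, inv_mul_cancel₀ D.hc, one_mul]
  · calc G * (D.H * P * D'.H').map σ
        = G * (D.H.map σ * P * (D'.H' * G')) := by
          rw [map_sig_mul, map_sig_mul, hPσ, D'.hG']
      _ = (G * D.H.map σ) * P * D'.H' * G' := by simp only [Matrix.mul_assoc]
      _ = D.H * P * D'.H' * G' := by rw [D.hG]

end Cohom

section Refl

variable {F : Type*} [Field F] {ι : Type} [Fintype ι] [DecidableEq ι]

theorem reflectionMatrix_map_sig (Q : QuadraticForm F (ι → F)) (σ : F ≃+* F)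
    (hσQ : ∀ v : ι → F, Q (fun i => σ (v i)) = σ (Q v)) (u : ι → F) :
    (Cfsg.reflectionMatrix (⇑Q) u).map σ = Cfsg.reflectionMatrix (⇑Q) (fun i => σ (u i)) := by
  apply matrix_ext_mulVec
  intro x
  have hx : x = fun i => σ (σ.symm (x i)) := by
    funext i
    simp
  have h1 : (Cfsg.reflectionMatrix (⇑Q) u).map σ *ᵥ x =
      fun i => σ ((Cfsg.reflectionMatrix (⇑Q) u *ᵥ (fun j => σ.symm (x j))) i) := by
    conv_lhs => rw [hx]
    exact sigma_mulVec σ _ _
  rw [h1, reflectionMatrix_mulVec_eq, reflectionMatrix_mulVec_eq, reflLin_apply, reflLin_apply]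
  have h2 : polar (⇑Q) (fun i => σ (u i)) x = σ (polar (⇑Q) u (fun j => σ.symm (x j))) := by
    conv_lhs => rw [hx]
    exact Cfsg.Agent.Helper40.OEV.A3.polar_sig Q σ hσQ _ _
  rw [h2, hσQ]
  funext i
  simp only [Pi.sub_apply, Pi.smul_apply, smul_eq_mul, map_sub, map_mul, map_inv₀,
    RingEquiv.apply_symm_apply]

/-- build an element of the similarity group from matrix data -/
def mkGO (Q : QuadraticForm F (ι → F)) (A A' : Matrix ι ι F) (h1 : A * A' = 1) (h2 : A' * A = 1)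
    (ν : Fˣ) (h : ∀ v, Q (A *ᵥ v) = (ν : F) * Q v) : ↥(GO Q) :=
  ⟨⟨A, A', h1, h2⟩, ⟨ν, h⟩⟩

theorem gmat_mkGO (Q : QuadraticForm F (ι → F)) (A A' : Matrix ι ι F) (h1 : A * A' = 1)
    (h2 : A' * A = 1) (ν : Fˣ) (h : ∀ v, Q (A *ᵥ v) = (ν : F) * Q v) :
    gmat Q (mkGO Q A A' h1 h2 ν h) = A := rfl

theorem go_ext (Q : QuadraticForm F (ι → F)) {g h : ↥(GO Q)} (e : gmat Q g = gmat Q h) : g = h :=
  Subtype.ext (Units.ext e)

theorem gmat_mul (Q : QuadraticForm F (ι → F)) (g h : ↥(GO Q)) :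
    gmat Q (g * h) = gmat Q g * gmat Q h := rfl

/-- the image of a similarity under `σ` -/
noncomputable def sigGO (Q : QuadraticForm F (ι → F)) (σ : F ≃+* F)
    (hσQ : ∀ v : ι → F, Q (fun i => σ (v i)) = σ (Q v)) (g : ↥(GO Q)) : ↥(GO Q) :=
  mkGO Q ((gmat Q g).map σ) ((gmat Q g⁻¹).map σ)
    (by rw [← map_sig_mul, Cfsg.Agent.Helper40.OEV.A3.gmat_mul_inv, map_sig_one])
    (by rw [← map_sig_mul, Cfsg.Agent.Helper40.OEV.A3.gmat_inv_mul, map_sig_one])
    (Units.map (σ : F →* F) (mult Q g))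
    (by
      intro v
      have hv : v = fun i => σ (σ.symm (v i)) := by
        funext i
        simp
      have h1 : (gmat Q g).map σ *ᵥ v =
          fun i => σ ((gmat Q g *ᵥ (fun j => σ.symm (v j))) i) := by
        conv_lhs => rw [hv]
        exact sigma_mulVec σ _ _
      rw [h1, hσQ, mult_spec, map_mul, ← hσQ, ← hv]
      rfl)

theorem gmat_sigGO (Q : QuadraticForm F (ι → F)) (σ : F ≃+* F)
    (hσQ : ∀ v : ι → F, Q (fun i => σ (v i)) = σ (Q v)) (g : ↥(GO Q)) :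
    gmat Q (sigGO Q σ hσQ g) = (gmat Q g).map σ := rfl

/-- the reflection in `u` as an element of the similarity group -/
noncomputable def reflGO (Q : QuadraticForm F (ι → F)) {u : ι → F} (hu : Q u ≠ 0) : ↥(GO Q) :=
  mkGO Q (Cfsg.reflectionMatrix (⇑Q) u) (Cfsg.reflectionMatrix (⇑Q) u)
    (reflectionMatrix_mul_self Q hu) (reflectionMatrix_mul_self Q hu) 1
    (by
      intro v
      rw [reflectionMatrix_mulVec_eq, Cfsg.Agent.Helper43.Q_reflLin Q hu v, Units.val_one,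
        one_mul])

theorem gmat_reflGO (Q : QuadraticForm F (ι → F)) {u : ι → F} (hu : Q u ≠ 0) :
    gmat Q (reflGO Q hu) = Cfsg.reflectionMatrix (⇑Q) u := rfl

theorem reflGO_mul_self (Q : QuadraticForm F (ι → F)) {u : ι → F} (hu : Q u ≠ 0) :
    reflGO Q hu * reflGO Q hu = 1 := by
  apply go_ext
  rw [gmat_mul, gmat_reflGO, reflectionMatrix_mul_self Q hu]
  rfl

/-- for a cocycle with descent data there is a reflection `ρ` with `G σ(ρ) = ρ G` -/
theorem exists_refl (Q : QuadraticForm F (ι → F)) (σ : F ≃+* F)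
    (hσQ : ∀ v : ι → F, Q (fun i => σ (v i)) = σ (Q v)) (hne : ∃ v : ι → F, Q v ≠ 0)
    (g : ↥(GO Q)) (D : Desc Q σ (gmat Q g)) :
    ∃ (u : ι → F) (hu : Q u ≠ 0),
      gmat Q g * (Cfsg.reflectionMatrix (⇑Q) u).map σ =
        Cfsg.reflectionMatrix (⇑Q) u * gmat Q g := by
  classical
  let K := fixK σ
  -- a nonsingular rational vector
  have hw : ∃ w : ι → K, D.Q0 w ≠ 0 := by
    by_contra hcon
    push Not at hcon
    obtain ⟨v, hv⟩ := hne
    have hi : ∃ i : ι, v i ≠ 0 := by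
      by_contra hcon2
      push Not at hcon2
      apply hv
      have : v = 0 := funext hcon2
      rw [this, map_zero]
    obtain ⟨i, -⟩ := hi
    have h1 : (Pi.single i (1 : K) : ι → K) = 0 := by
      apply D.hnd.1
      intro y
      rw [polarBilin_apply_apply]
      simp only [polar, hcon, sub_self]
    have h2 := congrFun h1 i
    rw [Pi.single_eq_same, Pi.zero_apply] at h2
    exact one_ne_zero h2
  obtain ⟨w, hw⟩ := hw
  set u : ι → F := D.H *ᵥ emb K w with hu_def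
  have hu : Q u ≠ 0 := by
    intro h0
    apply hw
    apply Subtype.ext
    rw [D.hQ0, ← hu_def, h0, mul_zero]
    rfl
  have hsu : (fun i => σ (u i)) = D.H.map σ *ᵥ emb K w := by
    have := sigma_mulVec σ D.H (emb K w)
    rw [sig_emb] at this
    exact this.symm
  have hgu : gmat Q g *ᵥ (fun i => σ (u i)) = u := by
    rw [hsu, Matrix.mulVec_mulVec, D.hG]
  have hσu : Q (fun i => σ (u i)) ≠ 0 := by
    rw [hσQ, Ne, map_eq_zero_iff σ σ.injective]
    exact hu
  have hgσu : Q (gmat Q g *ᵥ (fun i => σ (u i))) ≠ 0 := by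
    rw [hgu]
    exact hu
  refine ⟨u, hu, ?_⟩
  rw [reflectionMatrix_map_sig Q σ hσQ]
  have h1 := sim_conj_refl Q g _ hσu hgσu
  have h2 : (g : GL ι F) * ((reflIso Q hσu : ↥(Cfsg.isometryGroup F ⇑Q)) : GL ι F) =
      ((reflIso Q hgσu : ↥(Cfsg.isometryGroup F ⇑Q)) : GL ι F) * (g : GL ι F) := by
    rw [← h1, inv_mul_cancel_right]
  have h3 := congrArg (fun x : GL ι F => (x : Matrix ι ι F)) h2
  simp only [Units.val_mul, reflIso_coe] at h3
  rw [hgu] at h3
  exact h3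

end Refl

section Main

variable {F : Type*} [Field F] [Fintype F] {ι : Type} [Fintype ι] [DecidableEq ι]

/-- cohomologous cocycles have the same class character -/
theorem chi_eq_of_cohom (Q : QuadraticForm F (ι → F)) (σ : F ≃+* F)
    (hσQ : ∀ v : ι → F, Q (fun i => σ (v i)) = σ (Q v)) (χ : ↥(GO Q) →* ℤˣ)
    (hχσ : ∀ g h : ↥(GO Q), gmat Q h = (gmat Q g).map σ → χ h = χ g)
    (g g' h : ↥(GO Q)) (e : gmat Q g * (gmat Q h).map σ = gmat Q h * gmat Q g') :
    χ g = χ g' := by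
  have h1 : g * sigGO Q σ hσQ h = h * g' := by
    apply go_ext Q
    rw [gmat_mul, gmat_mul, gmat_sigGO]
    exact e
  have h2 := congrArg χ h1
  rw [map_mul, map_mul, hχσ h (sigGO Q σ hσQ h) rfl, mul_comm] at h2
  exact mul_left_cancel h2

/-- the same type of the descended forms gives a twisted conjugation -/
theorem exists_cohom_of_same_type (Q : QuadraticForm F (ι → F)) (σ : F ≃+* F)
    (g g' : ↥(GO Q)) (D : Desc Q σ (gmat Q g)) (D' : Desc Q σ (gmat Q g'))
    (ht : (IsHypForm D.Q0 ∧ IsHypForm D'.Q0) ∨ (IsNonHypForm D.Q0 ∧ IsNonHypForm D'.Q0)) :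
    ∃ h : ↥(GO Q), gmat Q g * (gmat Q h).map σ = gmat Q h * gmat Q g' := by
  have hsim : IsSimilarForm D.Q0 D'.Q0 := by
    rcases ht with ⟨h1, h2⟩ | ⟨h1, h2⟩
    · exact Cfsg.Agent.Helper40.OEV.C1.similar_of_hyp _ _ h1 h2
    · exact Cfsg.Agent.Helper40.OEV.C2.similar_of_nonhyp _ _ D.hnd D'.hnd h1 h2
  obtain ⟨h, h', ν, e1, e2, e3, e4⟩ := cohom_of_similar Q σ _ _ D D' hsim
  exact ⟨mkGO Q h h' e1 e2 ν e3, e4⟩

theorem twisted_lang (Q : QuadraticForm F (ι → F)) (hQ : (polarBilin Q).Nondegenerate)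
    (hex : ∃ U₀ : Submodule F (ι → F), IsTSLag Q U₀)
    (hexc : Fintype.card F ≠ 2 ∨ Fintype.card ι ≠ 4)
    (σ : F ≃+* F) (hσQ : ∀ v : ι → F, Q (fun i => σ (v i)) = σ (Q v)) (hσ : orderOf σ = 2)
    (G G' : GL ι F) (hG : G ∈ GO Q) (hG' : G' ∈ GO Q)
    (hN : (G : Matrix ι ι F) * (G : Matrix ι ι F).map σ = 1)
    (hN' : (G' : Matrix ι ι F) * (G' : Matrix ι ι F).map σ = 1)
    (hχ : Cfsg.PreservesSingularClasses (⇑Q) (G : Matrix ι ι F) ↔
      Cfsg.PreservesSingularClasses (⇑Q) (G' : Matrix ι ι F)) :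
    ∃ h : GL ι F, h ∈ GO Q ∧ Cfsg.PreservesSingularClasses (⇑Q) (h : Matrix ι ι F) ∧
      (G : Matrix ι ι F) * (h : Matrix ι ι F).map σ = (h : Matrix ι ι F) * (G' : Matrix ι ι F) := by
  classical
  by_cases hne : ∃ v : ι → F, Q v ≠ 0
  swap
  · push Not at hne
    have hemp : IsEmpty ι := by
      constructor
      intro i
      have h1 : (Pi.single i (1 : F) : ι → F) = 0 := by
        apply hQ.1
        intro y
        rw [polarBilin_apply_apply]
        simp only [polar, hne, sub_self]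
      have h2 := congrFun h1 i
      rw [Pi.single_eq_same, Pi.zero_apply] at h2
      exact one_ne_zero h2
    refine ⟨1, Subgroup.one_mem _, ?_, Subsingleton.elim _ _⟩
    intro U hU
    unfold Cfsg.SameParityClass
    rw [Units.val_one, Cfsg.Agent.Helper40.OEV.A3.imageSubmodule_one, inf_idem, Nat.sub_self]
    exact Even.zero
  obtain ⟨χ, hχ1, hχr, hχσ0⟩ := Cfsg.Agent.Helper40.OEV.A3.exists_classChar Q hQ hex hexc
  have hχσ : ∀ g h : ↥(GO Q), gmat Q h = (gmat Q g).map σ → χ h = χ g :=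
    fun g h e => hχσ0 σ hσQ g h e
  set g : ↥(GO Q) := ⟨G, hG⟩ with hg
  set g' : ↥(GO Q) := ⟨G', hG'⟩ with hg'
  have hcoc : ∀ x : ↥(GO Q), gmat Q x * (gmat Q x).map σ = 1 → Nonempty (Desc Q σ (gmat Q x)) :=
    fun x hx => exists_desc Q hQ σ hσQ hσ hne (gmat Q x) (mult Q x) (mult_spec Q x) hx
  obtain ⟨D⟩ := hcoc g hN
  obtain ⟨D'⟩ := hcoc g' hN'
  have heven : Even (Fintype.card ι) := by
    obtain ⟨U₀, hU₀⟩ := hex
    have h1 := Cfsg.Agent.Helper40.OEV.A2.two_mul_finrank_tslag hQ hU₀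
    rw [Module.finrank_fintype_fun_eq_card] at h1
    exact ⟨_, by rw [← h1, two_mul]⟩
  have htype : ∀ {x : ↥(GO Q)} (E : Desc Q σ (gmat Q x)), IsHypForm E.Q0 ∨ IsNonHypForm E.Q0 :=
    fun E => Cfsg.Agent.Helper40.OEV.C1.hyp_or_nonhyp E.Q0 E.hnd heven
  have hneg : ∀ a : ℤˣ, -a ≠ a := by decide
  have hgg' : χ g = χ g' := by
    rcases Int.units_eq_one_or (χ g) with h1 | h1
    · rw [h1]
      exact ((hχ1 g').2 (hχ.1 ((hχ1 g).1 h1))).symm
    · rcases Int.units_eq_one_or (χ g') with h2 | h2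
      · exfalso
        rw [(hχ1 g).2 (hχ.2 ((hχ1 g').1 h2))] at h1
        exact absurd h1 (by decide)
      · rw [h1, h2]
  -- the two descended forms have the same type
  have hsame : (IsHypForm D.Q0 ∧ IsHypForm D'.Q0) ∨ (IsNonHypForm D.Q0 ∧ IsNonHypForm D'.Q0) := by
    by_contra hcon
    -- the reflected cocycle
    obtain ⟨u, hu, hur⟩ := exists_refl Q σ hσQ hne g D
    set r := reflGO Q hu with hr
    have hχr' : χ r = -1 := hχr u r hu rfl
    set g₂ := r * g with hg₂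
    have hN₂ : gmat Q g₂ * (gmat Q g₂).map σ = 1 := by
      have e1 : gmat Q g₂ = gmat Q r * gmat Q g := rfl
      rw [e1, map_sig_mul]
      calc gmat Q r * gmat Q g * ((gmat Q r).map σ * (gmat Q g).map σ)
          = gmat Q r * (gmat Q g * (gmat Q r).map σ) * (gmat Q g).map σ := by
            simp only [Matrix.mul_assoc]
        _ = gmat Q r * (gmat Q r * gmat Q g) * (gmat Q g).map σ := by
            rw [show gmat Q g * (gmat Q r).map σ = gmat Q r * gmat Q g from hur]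
        _ = (gmat Q r * gmat Q r) * (gmat Q g * (gmat Q g).map σ) := by
            simp only [Matrix.mul_assoc]
        _ = 1 := by
            rw [show gmat Q g * (gmat Q g).map σ = 1 from hN,
              show gmat Q r * gmat Q r = 1 from reflectionMatrix_mul_self Q hu, Matrix.mul_one]
    obtain ⟨D₂⟩ := hcoc g₂ hN₂
    have hχ₂ : χ g₂ = -χ g := by
      rw [hg₂, map_mul, hχr', neg_one_mul]
    have key : ∀ (x : ↥(GO Q)) (E : Desc Q σ (gmat Q x)), χ x = χ g →
        ¬ ((IsHypForm D₂.Q0 ∧ IsHypForm E.Q0) ∨ (IsNonHypForm D₂.Q0 ∧ IsNonHypForm E.Q0)) := by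
      intro x E hx ht
      obtain ⟨h, hh⟩ := exists_cohom_of_same_type Q σ g₂ x D₂ E ht
      have := chi_eq_of_cohom Q σ hσQ χ hχσ g₂ x h hh
      rw [hχ₂, hx] at this
      exact hneg _ this
    have k1 := key g D rfl
    have k2 := key g' D' hgg'.symm
    rcases htype D with t | t <;> rcases htype D' with t' | t' <;> rcases htype D₂ with t₂ | t₂
    · exact hcon (Or.inl ⟨t, t'⟩)
    · exact hcon (Or.inl ⟨t, t'⟩)
    · exact k1 (Or.inl ⟨t₂, t⟩)
    · exact k2 (Or.inr ⟨t₂, t'⟩)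
    · exact k2 (Or.inl ⟨t₂, t'⟩)
    · exact k1 (Or.inr ⟨t₂, t⟩)
    · exact hcon (Or.inr ⟨t, t'⟩)
    · exact hcon (Or.inr ⟨t, t'⟩)
  obtain ⟨h₀, hh₀⟩ := exists_cohom_of_same_type Q σ g g' D D' hsame
  rcases Int.units_eq_one_or (χ h₀) with h1 | h1
  · exact ⟨h₀, h₀.2, (hχ1 h₀).1 h1, hh₀⟩
  · obtain ⟨u', hu', hur'⟩ := exists_refl Q σ hσQ hne g' D'
    set r' := reflGO Q hu' with hr'
    have hχr' : χ r' = -1 := hχr u' r' hu' rfl
    refine ⟨(h₀ * r' : ↥(GO Q)), (h₀ * r').2, (hχ1 (h₀ * r')).1 ?_, ?_⟩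
    · rw [map_mul, h1, hχr']
      decide
    · show gmat Q g * (gmat Q h₀ * gmat Q r').map σ = gmat Q h₀ * gmat Q r' * gmat Q g'
      rw [map_sig_mul]
      calc gmat Q g * ((gmat Q h₀).map σ * (gmat Q r').map σ)
          = (gmat Q g * (gmat Q h₀).map σ) * (gmat Q r').map σ := by
            simp only [Matrix.mul_assoc]
        _ = gmat Q h₀ * (gmat Q g' * (gmat Q r').map σ) := by
            rw [hh₀, Matrix.mul_assoc]
        _ = gmat Q h₀ * gmat Q r' * gmat Q g' := by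
            rw [show gmat Q g' * (gmat Q r').map σ = gmat Q r' * gmat Q g' from hur',
              Matrix.mul_assoc]

end Main

end Cfsg.Agent.Helper79.GF
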