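import Mathlib

set_option autoImplicit false
set_option linter.unusedSectionVars false
set_option linter.style.haveILetI false

namespace Cfsg.Agent.Helper79

section InvolutionAux

variable {G : Type*} [Group G] [Finite G]

/-- elements of the cyclic group generated by an involution -/
theorem mem_zpowers_of_orderOf_two (u : G) (hu2 : orderOf u = 2) (x : G)
    (hx : x ∈ Subgroup.zpowers u) : x = 1 ∨ x = u := by
  obtain ⟨k, rfl⟩ := Subgroup.mem_zpowers_iff.1 hx
  rw [← zpow_mod_orderOf, hu2]
  have h1 : k % 2 = 0 ∨ k % 2 = 1 := by omega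
  rcases h1 with h | h
  · left; rw [show k % ((2 : ℕ) : ℤ) = 0 from h, zpow_zero]
  · right; rw [show k % ((2 : ℕ) : ℤ) = 1 from h, zpow_one]

/-- an involution whose centralizer is the group it generates has a normal complement of
odd order -/
theorem exists_normal_complement_of_involution (u : G) (hu2 : orderOf u = 2)
    (hC : Subgroup.centralizer ({u} : Set G) = Subgroup.zpowers u) :
    ∃ K : Subgroup G, K.Normal ∧ K.index = 2 ∧ ¬ 2 ∣ Nat.card K ∧ K ⊔ Subgroup.zpowers u = ⊤ := by
  classical
  have hp2 : Fact (Nat.Prime 2) := ⟨Nat.prime_two⟩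
  have hu1 : u ≠ 1 := by
    intro h; rw [h, orderOf_one] at hu2; omega
  have hPg : IsPGroup 2 (Subgroup.zpowers u) :=
    IsPGroup.of_card (n := 1) (by rw [Nat.card_zpowers, hu2, pow_one])
  obtain ⟨S, hS⟩ := hPg.exists_le_sylow
  have huS : u ∈ (S : Subgroup G) := hS (Subgroup.mem_zpowers u)
  have hcentu : ∀ x : G, x * u = u * x → x ∈ Subgroup.zpowers u := by
    intro x hx
    rw [← hC, Subgroup.mem_centralizer_iff]
    intro y hy
    rw [Set.mem_singleton_iff] at hy
    rw [hy]; exact hx.symm
  -- the centre of S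
  have hntS : Nontrivial (S : Subgroup G) := by
    refine ⟨⟨⟨u, huS⟩, 1, ?_⟩⟩
    intro h; exact hu1 (congrArg Subtype.val h)
  have hZnt : Nontrivial (Subgroup.center (S : Subgroup G)) := S.isPGroup'.center_nontrivial
  obtain ⟨⟨z, hz⟩, hz1⟩ := exists_ne (1 : Subgroup.center (S : Subgroup G))
  have hz1' : (z : G) ≠ 1 := by
    intro h
    apply hz1
    apply Subtype.ext
    apply Subtype.ext
    exact h
  have hzu : (z : G) = u := by
    have h1 : (z : G) * u = u * (z : G) := by
      rw [Subgroup.mem_center_iff] at hz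
      have := hz ⟨u, huS⟩
      exact (congrArg Subtype.val this).symm
    rcases mem_zpowers_of_orderOf_two u hu2 _ (hcentu _ h1) with h | h
    · exact absurd h hz1'
    · exact h
  have hSle : (S : Subgroup G) ≤ Subgroup.zpowers u := by
    intro s hs
    apply hcentu
    rw [Subgroup.mem_center_iff] at hz
    have := hz ⟨s, hs⟩
    have h2 := congrArg Subtype.val this
    rw [← hzu]
    exact h2
  have hSeq : (S : Subgroup G) = Subgroup.zpowers u := le_antisymm hSle hS
  have hNC : Subgroup.normalizer ((S : Subgroup G) : Set G) ≤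
      Subgroup.centralizer ((S : Subgroup G) : Set G) := by
    intro n hn
    rw [Subgroup.mem_normalizer_iff] at hn
    have h1 : n * u * n⁻¹ ∈ (S : Subgroup G) := (hn u).1 huS
    rw [hSeq] at h1
    have h2 : n * u * n⁻¹ = u := by
      rcases mem_zpowers_of_orderOf_two u hu2 _ h1 with h | h
      · exfalso
        apply hu1
        have := congrArg (fun y => n⁻¹ * y * n) h
        simpa [mul_assoc] using this
      · exact h
    have h3 : n * u = u * n := by
      calc n * u = n * u * n⁻¹ * n := by group
        _ = u * n := by rw [h2]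
    rw [Subgroup.mem_centralizer_iff]
    intro s hs
    rw [SetLike.mem_coe, hSeq] at hs
    rcases mem_zpowers_of_orderOf_two u hu2 s hs with h | h
    · rw [h, one_mul, mul_one]
    · rw [h]; exact h3.symm
  have hcompl := MonoidHom.ker_transferSylow_isComplement' S hNC
  refine ⟨(MonoidHom.transferSylow S hNC).ker, inferInstance, ?_, ?_, ?_⟩
  · rw [hcompl.symm.index_eq_card, hSeq, Nat.card_zpowers, hu2]
  · exact MonoidHom.not_dvd_card_ker_transferSylow S hNC
  · rw [← hSeq]; exact hcompl.sup_eq_top

/-- a normal subgroup of index two contains the commutator subgroup -/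
theorem commutator_le_of_index_two (K : Subgroup G) [K.Normal] (hK : K.index = 2) :
    commutator G ≤ K := by
  have hp2 : Fact (Nat.Prime 2) := ⟨Nat.prime_two⟩
  have hcard : Nat.card (G ⧸ K) = 2 := by rw [← Subgroup.index_eq_card]; exact hK
  have hcyc : IsCyclic (G ⧸ K) := isCyclic_of_prime_card hcard
  rw [commutator_def, Subgroup.commutator_le]
  intro a _ b _
  rw [← QuotientGroup.eq_one_iff, commutatorElement_def]
  simp only [QuotientGroup.mk_mul, QuotientGroup.mk_inv]
  have hc : ∀ x y : G ⧸ K, x * y = y * x := by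
    intro x y
    obtain ⟨g, hg⟩ := hcyc.exists_generator
    obtain ⟨m, rfl⟩ := Subgroup.mem_zpowers_iff.1 (hg x)
    obtain ⟨n, rfl⟩ := Subgroup.mem_zpowers_iff.1 (hg y)
    rw [← zpow_add, ← zpow_add, add_comm]
  rw [hc (a : G ⧸ K) (b : G ⧸ K), mul_inv_cancel_right, mul_inv_cancel]

end InvolutionAux

end Cfsg.Agent.Helper79
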