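import Mathlib
import Cfsg.Agent.Lib.Helper7.M11UDefs

/-!
# M11U (G7) `chain_of_a` (helper79, second seat, for helper7's S0420 server)
-/

set_option autoImplicit false
set_option linter.unusedSectionVars false

namespace Cfsg.Agent.Helper79.M11U

open Subgroup Cfsg.Agent.Helper7.M11U
open scoped Pointwise

section Basic

variable {G : Type*} [Group G]

theorem g7_mem_norm_iff (P : Sylow 3 G) (x : G) :
    x ∈ normalizer ((P : Subgroup G) : Set G) ↔ x • P = P :=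
  Sylow.smul_eq_iff_mem_normalizer.symm

theorem g7_mem_smul_iff (P : Sylow 3 G) (x y : G) :
    y ∈ ((x • P : Sylow 3 G) : Subgroup G) ↔ x⁻¹ * y * x ∈ (P : Subgroup G) := by
  rw [Sylow.coe_subgroup_smul, Subgroup.mem_pointwise_smul_iff_inv_smul_mem]
  simp [MulAut.smul_def]

theorem g7_conj_mem_smul (P : Sylow 3 G) (x y : G) (hy : y ∈ (P : Subgroup G)) :
    x * y * x⁻¹ ∈ ((x • P : Sylow 3 G) : Subgroup G) := by
  rw [g7_mem_smul_iff]
  have : x⁻¹ * (x * y * x⁻¹) * x = y := by group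
  rw [this]; exact hy

theorem g7_smul_of_mem (P : Sylow 3 G) (x : G) (hx : x ∈ (P : Subgroup G)) : x • P = P :=
  (g7_mem_norm_iff P x).mp (Subgroup.le_normalizer hx)

theorem g7_inverts_smul (t x : G) (P : Sylow 3 G) (h : Inverts t (P : Subgroup G)) :
    Inverts (x * t * x⁻¹) ((x • P : Sylow 3 G) : Subgroup G) := by
  intro y hy
  rw [g7_mem_smul_iff] at hy
  have h1 := h _ hy
  have : x * t * x⁻¹ * y * (x * t * x⁻¹)⁻¹ = x * (t * (x⁻¹ * y * x) * t⁻¹) * x⁻¹ := by group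
  rw [this, h1]; group

theorem g7_adj_smul (x : G) (P P' : Sylow 3 G) (h : Adj P P') : Adj (x • P) (x • P') := by
  obtain ⟨hne, t, ht, h1, h2⟩ := h
  refine ⟨fun h => hne (smul_left_cancel x h), x * t * x⁻¹, ?_, g7_inverts_smul t x P h1,
    g7_inverts_smul t x P' h2⟩
  rw [← ht]
  have hs : SemiconjBy x t (x * t * x⁻¹) := by
    rw [SemiconjBy]; group
  exact (hs.orderOf_eq x).symm

theorem g7_adj_smul_iff (x : G) (P P' : Sylow 3 G) : Adj (x • P) (x • P') ↔ Adj P P' := by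
  refine ⟨fun h => ?_, g7_adj_smul x P P'⟩
  have := g7_adj_smul x⁻¹ _ _ h
  rwa [inv_smul_smul, inv_smul_smul] at this

theorem g7_adj_symm (P P' : Sylow 3 G) (h : Adj P P') : Adj P' P := by
  obtain ⟨hne, t, ht, h1, h2⟩ := h
  exact ⟨hne.symm, t, ht, h2, h1⟩

/-- the subgroup of elements preserving a predicate on Sylow subgroups -/
def g7Stab (inS : Sylow 3 G → Prop) : Subgroup G where
  carrier := {y | ∀ X, inS X ↔ inS (y • X)}
  one_mem' := fun X => by rw [one_smul]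
  mul_mem' := by
    intro a b ha hb X
    rw [mul_smul, ← ha, ← hb]
  inv_mem' := by
    intro a ha X
    have := ha (a⁻¹ • X)
    rw [smul_inv_smul] at this
    exact this.symm

theorem g7_mem_stab (inS : Sylow 3 G → Prop) (y : G) :
    y ∈ g7Stab inS ↔ ∀ X, inS X ↔ inS (y • X) := Iff.rfl

theorem g7_le_stab (inS : Sylow 3 G → Prop) (K : Subgroup G)
    (h : ∀ y ∈ K, ∀ X, inS X → inS (y • X)) : K ≤ g7Stab inS := by
  intro y hy X
  refine ⟨h y hy X, fun hX => ?_⟩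
  have := h y⁻¹ (K.inv_mem hy) _ hX
  rwa [inv_smul_smul] at this

/-- orbit-stabilizer for a subgroup acting on the Sylow subgroups -/
theorem g7_orbit_stab [Finite G] (H : Subgroup G) (X₀ : Sylow 3 G)
    (S : Set (Sylow 3 G)) (hS1 : ∀ h ∈ H, h • X₀ ∈ S) (hS2 : ∀ Y ∈ S, ∃ h ∈ H, h • X₀ = Y) :
    Nat.card H =
      Nat.card S * Nat.card (H ⊓ normalizer ((X₀ : Subgroup G) : Set G) : Subgroup G) := by
  have h1 := (MulAction.stabilizer H X₀).card_mul_index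
  have h2 : (MulAction.stabilizer H X₀).index = Nat.card S := by
    have hset : MulAction.orbit H X₀ = S := by
      ext Y
      rw [MulAction.mem_orbit_iff]
      constructor
      · rintro ⟨h, rfl⟩
        exact hS1 h h.2
      · intro hY
        obtain ⟨h, hh, rfl⟩ := hS2 Y hY
        exact ⟨⟨h, hh⟩, rfl⟩
    rw [MulAction.index_stabilizer, hset, ← Nat.card_coe_set_eq]
  have h3 : Nat.card (MulAction.stabilizer H X₀) =
      Nat.card (H ⊓ normalizer ((X₀ : Subgroup G) : Set G) : Subgroup G) := by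
    apply Nat.card_congr
    refine
      { toFun := fun h => ⟨(h.1 : G), ?_⟩
        invFun := fun y => ⟨⟨y.1, (Subgroup.mem_inf.mp y.2).1⟩, ?_⟩
        left_inv := fun h => rfl
        right_inv := fun y => rfl }
    · refine Subgroup.mem_inf.mpr ⟨h.1.2, ?_⟩
      rw [g7_mem_norm_iff]
      exact h.2
    · rw [MulAction.mem_stabilizer_iff]
      exact (g7_mem_norm_iff X₀ y.1).mp (Subgroup.mem_inf.mp y.2).2
  rw [← h1, h2, h3, mul_comm]

end Basic

section Main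

variable {G : Type*} [Group G] [Finite G]

/-- common neighbours of `R` and `R2` -/
theorem g7_common {t : G} {R R2 R3 : Sylow 3 G} (T : Tri t R R2 R3)
    (hadj : ∀ X : Sylow 3 G, Adj R X ↔ ∃ r ∈ (R : Subgroup G), X = r • R2 ∨ X = r • R3)
    (ha : ∀ r ∈ (R : Subgroup G), r ≠ 1 → Adj R2 (r • R2))
    (hnb : ∀ r ∈ (R : Subgroup G), r ≠ 1 → ¬ Adj R2 (r • R3)) (X : Sylow 3 G) :
    (Adj R X ∧ Adj R2 X) ↔ (X = R3 ∨ ∃ r ∈ (R : Subgroup G), r ≠ 1 ∧ X = r • R2) := by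
  constructor
  · rintro ⟨h1, h2⟩
    obtain ⟨r, hr, hX | hX⟩ := (hadj X).mp h1
    · right
      refine ⟨r, hr, ?_, hX⟩
      rintro rfl
      rw [one_smul] at hX
      exact h2.1 hX.symm
    · left
      by_cases hr1 : r = 1
      · rw [hX, hr1, one_smul]
      · exact absurd (hX ▸ h2) (hnb r hr hr1)
  · rintro (rfl | ⟨r, hr, hr1, rfl⟩)
    · exact ⟨⟨T.ne13, t, T.ht, T.i1, T.i3⟩, ⟨T.ne23, t, T.ht, T.i2, T.i3⟩⟩
    · exact ⟨(hadj _).mpr ⟨r, hr, Or.inl rfl⟩, ha r hr hr1⟩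

theorem g7_conj_mem_of_norm (P : Sylow 3 G) (o r : G)
    (ho : o ∈ normalizer ((P : Subgroup G) : Set G)) (hr : r ∈ (P : Subgroup G)) :
    o * r * o⁻¹ ∈ (P : Subgroup G) :=
  (Subgroup.mem_normalizer_iff.mp ho r).mp hr

theorem g7_smul_smul_conj (o r : G) (X : Sylow 3 G) : o • r • X = (o * r * o⁻¹) • o • X := by
  rw [← mul_smul, ← mul_smul]
  congr 1
  group

theorem chain_of_a {t : G} {R R2 R3 : Sylow 3 G}
    (B : Base G) (L : Loc G) (T : Tri t R R2 R3) (Cf : Conf t R R2 R3)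
    (hadj : ∀ (t' : G) (P P2 P3 : Sylow 3 G), Tri t' P P2 P3 →
      (∀ X : Sylow 3 G, Adj P X ↔ ∃ r ∈ (P : Subgroup G), X = r • P2 ∨ X = r • P3) ∧
      (∀ r ∈ (P : Subgroup G), ∀ r' ∈ (P : Subgroup G), r • P2 ≠ r' • P3) ∧
      (∀ r ∈ (P : Subgroup G), ∀ r' ∈ (P : Subgroup G), r • P2 = r' • P2 → r = r'))
    (ha : ∀ r ∈ (R : Subgroup G), r ≠ 1 → Adj R2 (r • R2))
    (hnb : ∀ r ∈ (R : Subgroup G), r ≠ 1 → ¬ Adj R2 (r • R3)) :
    ∃ (M N0 O : Subgroup G) (s m n : G), Chain M N0 O s m n := by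
  classical
  obtain ⟨s, hsN, -, hs23, hs32⟩ := Cf.sw23
  obtain ⟨g, -, hg12, hg21, hg33⟩ := Cf.sw12
  have hA := hadj t R R2 R3 T
  have T' : Tri t R2 R R3 := ⟨T.ht, T.i2, T.i1, T.i3, T.ne12.symm, T.ne23, T.ne13⟩
  have hA' := hadj t R2 R R3 T'
  have hsR : s • R = R := (g7_mem_norm_iff R s).mp hsN
  have hsiR : s⁻¹ • R = R := by rw [inv_smul_eq_iff, hsR]
  have hsi32 : s⁻¹ • R3 = R2 := by rw [inv_smul_eq_iff, hs23]
  have hgi12 : g⁻¹ • R = R2 := by rw [inv_smul_eq_iff, hg21]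
  have hgi21 : g⁻¹ • R2 = R := by rw [inv_smul_eq_iff, hg12]
  -- conjugation by `g` between `R` and `R2`
  have hgR2 : ∀ x ∈ (R2 : Subgroup G), g⁻¹ * x * g ∈ (R : Subgroup G) := by
    intro x hx
    rw [← hg12] at hx
    exact (g7_mem_smul_iff R g x).mp hx
  -- `ha`, `hnb` for the swapped triangle
  have hconj1 : ∀ x : G, x ≠ 1 → g⁻¹ * x * g ≠ 1 := by
    intro x hx1 h
    apply hx1
    have : x = g * (g⁻¹ * x * g) * g⁻¹ := by group
    rw [this, h]; group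
  have ha' : ∀ x ∈ (R2 : Subgroup G), x ≠ 1 → Adj R (x • R) := by
    intro x hx hx1
    have h1 := ha _ (hgR2 x hx) (hconj1 x hx1)
    have h2 := g7_adj_smul g _ _ h1
    rwa [hg21, ← mul_smul, show g * (g⁻¹ * x * g) = x * g by group, mul_smul, hg21] at h2
  have hnb' : ∀ x ∈ (R2 : Subgroup G), x ≠ 1 → ¬ Adj R (x • R3) := by
    intro x hx hx1 hadjx
    apply hnb _ (hgR2 x hx) (hconj1 x hx1)
    have h2 := g7_adj_smul g⁻¹ _ _ hadjx
    rwa [hgi12, ← mul_smul, show g⁻¹ * x = (g⁻¹ * x * g) * g⁻¹ by group, mul_smul,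
      inv_smul_eq_iff.mpr hg33.symm] at h2
  have C1 := g7_common T hA.1 ha hnb
  have C2 := g7_common T' hA'.1 ha' hnb'
  -- (K1), (K2)
  have K1 : ∀ r ∈ (R : Subgroup G), r ≠ 1 → ∃ x ∈ (R2 : Subgroup G), x ≠ 1 ∧ r • R2 = x • R := by
    intro r hr hr1
    have h1 := (C1 (r • R2)).mpr (Or.inr ⟨r, hr, hr1, rfl⟩)
    rcases (C2 (r • R2)).mp ⟨h1.2, h1.1⟩ with h | h
    · exfalso
      have := hA.2.1 r hr 1 (Subgroup.one_mem _)
      rw [one_smul] at this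
      exact this h
    · exact h
  have K2 : ∀ x ∈ (R2 : Subgroup G), x ≠ 1 → ∃ r ∈ (R : Subgroup G), r ≠ 1 ∧ x • R = r • R2 := by
    intro x hx hx1
    have h1 := (C2 (x • R)).mpr (Or.inr ⟨x, hx, hx1, rfl⟩)
    rcases (C1 (x • R)).mp ⟨h1.2, h1.1⟩ with h | h
    · exfalso
      have := hA'.2.1 x hx 1 (Subgroup.one_mem _)
      rw [one_smul] at this
      exact this h
    · exact h
  -- the set `𝒞`
  let inC : Sylow 3 G → Prop := fun X => X = R ∨ ∃ r ∈ (R : Subgroup G), X = r • R2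
  have inC_iff : ∀ X, inC X ↔ X = R2 ∨ ∃ x ∈ (R2 : Subgroup G), X = x • R := by
    intro X
    constructor
    · rintro (rfl | ⟨r, hr, rfl⟩)
      · exact Or.inr ⟨1, Subgroup.one_mem _, (one_smul _ _).symm⟩
      · by_cases hr1 : r = 1
        · left; rw [hr1, one_smul]
        · obtain ⟨x, hx, -, h⟩ := K1 r hr hr1
          exact Or.inr ⟨x, hx, h⟩
    · rintro (rfl | ⟨x, hx, rfl⟩)
      · exact Or.inr ⟨1, Subgroup.one_mem _, (one_smul _ _).symm⟩
      · by_cases hx1 : x = 1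
        · left; rw [hx1, one_smul]
        · obtain ⟨r, hr, -, h⟩ := K2 x hx hx1
          exact Or.inr ⟨r, hr, h⟩
  let M : Subgroup G := g7Stab inC
  let NR : Subgroup G := normalizer ((R : Subgroup G) : Set G)
  let NR2 : Subgroup G := normalizer ((R2 : Subgroup G) : Set G)
  let O : Subgroup G := NR ⊓ NR2
  let N0 : Subgroup G := M ⊓ NR
  have hRNR : (R : Subgroup G) ≤ NR := Subgroup.le_normalizer
  -- (M1)
  have M1 : (R : Subgroup G) ≤ M := by
    apply g7_le_stab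
    rintro y hy X (rfl | ⟨r, hr, rfl⟩)
    · left; exact g7_smul_of_mem _ y hy
    · right; exact ⟨y * r, Subgroup.mul_mem _ hy hr, (mul_smul _ _ _).symm⟩
  -- (M3)
  have M3 : O ≤ M := by
    apply g7_le_stab
    rintro o ho X (rfl | ⟨r, hr, rfl⟩)
    · left; exact (g7_mem_norm_iff _ o).mp ho.1
    · right
      refine ⟨o * r * o⁻¹, g7_conj_mem_of_norm _ o r ho.1 hr, ?_⟩
      rw [g7_smul_smul_conj, (g7_mem_norm_iff R2 o).mp ho.2]
  -- (M4)
  have M4aux : ∀ g' : G, g' • R = R2 → g' • R2 = R → ∀ X, inC X → inC (g' • X) := by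
    intro g' h12 h21 X hX
    rcases hX with rfl | ⟨r, hr, rfl⟩
    · rw [h12]; exact Or.inr ⟨1, Subgroup.one_mem _, (one_smul _ _).symm⟩
    · rw [inC_iff]
      right
      refine ⟨g' * r * g'⁻¹, ?_, ?_⟩
      · have := g7_conj_mem_smul R g' r hr
        rwa [h12] at this
      · rw [g7_smul_smul_conj, h21]
  have M4 : g ∈ M := by
    intro X
    refine ⟨M4aux g hg12 hg21 X, fun h => ?_⟩
    have := M4aux g⁻¹ hgi12 hgi21 _ h
    rwa [inv_smul_smul] at this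
  -- `R ⊓ N(R2) = 1`
  have hRO : ∀ y ∈ (R : Subgroup G), y ∈ NR2 → y = 1 := by
    intro y hy hy2
    have h1 := IsPGroup.inf_normalizer_sylow R.isPGroup' R2
    have h2 : y ∈ (R : Subgroup G) ⊓ (R2 : Subgroup G) := by
      rw [← h1]; exact ⟨hy, hy2⟩
    exact L.ti R R2 T.ne12 y h2.1 h2.2
  -- (N1) decomposition
  have hN1 : ∀ x ∈ N0, ∃ r ∈ (R : Subgroup G), ∃ o ∈ O, x = r * o := by
    intro x hx
    have hxR : x • R = R := (g7_mem_norm_iff R x).mp hx.2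
    have h1 : inC (x • R2) :=
      (hx.1 R2).mp (Or.inr ⟨1, Subgroup.one_mem _, (one_smul _ _).symm⟩)
    rcases h1 with h | ⟨r, hr, h⟩
    · exfalso
      rw [← hxR] at h
      exact T.ne12 (smul_left_cancel x h).symm
    · refine ⟨r, hr, r⁻¹ * x, ⟨?_, ?_⟩, by group⟩
      · exact Subgroup.mul_mem _ (Subgroup.inv_mem _ (hRNR hr)) hx.2
      · refine (g7_mem_norm_iff R2 _).mpr ?_
        rw [mul_smul, h, inv_smul_smul]
  -- cardinalities
  have hS9 : Nat.card {X : Sylow 3 G | ∃ r ∈ (R : Subgroup G), X = r • R2} = 9 := by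
    rw [← L.card3 R]
    symm
    apply Nat.card_congr
    refine Equiv.ofBijective (fun r => ⟨r.1 • R2, r.1, r.2, rfl⟩) ⟨?_, ?_⟩
    · intro r r' h
      have := congrArg Subtype.val h
      exact Subtype.ext (hA.2.2 r.1 r.2 r'.1 r'.2 this)
    · rintro ⟨X, r, hr, rfl⟩
      exact ⟨⟨r, hr⟩, rfl⟩
  have hS10 : Nat.card {X : Sylow 3 G | inC X} = 10 := by
    have hfin : ({X : Sylow 3 G | ∃ r ∈ (R : Subgroup G), X = r • R2} : Set (Sylow 3 G)).Finite :=
      Set.toFinite _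
    have hnot : R ∉ ({X : Sylow 3 G | ∃ r ∈ (R : Subgroup G), X = r • R2} : Set (Sylow 3 G)) := by
      rintro ⟨r, hr, h⟩
      rw [← g7_smul_of_mem R r hr] at h
      exact T.ne12 (smul_left_cancel r h)
    have heq : ({X : Sylow 3 G | inC X} : Set (Sylow 3 G)) =
        insert R {X : Sylow 3 G | ∃ r ∈ (R : Subgroup G), X = r • R2} := by
      ext X; rfl
    rw [Nat.card_coe_set_eq, heq, Set.ncard_insert_of_notMem hnot hfin, ← Nat.card_coe_set_eq, hS9]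
  have hOeq : (N0 ⊓ NR2 : Subgroup G) = O := by
    ext x
    constructor
    · rintro ⟨⟨-, h1⟩, h2⟩; exact ⟨h1, h2⟩
    · rintro ⟨h1, h2⟩; exact ⟨⟨M3 ⟨h1, h2⟩, h1⟩, h2⟩
  have hcO : Nat.card O = 8 := Cf.cO
  have hcN0 : Nat.card N0 = 72 := by
    have := g7_orbit_stab N0 R2 {X : Sylow 3 G | ∃ r ∈ (R : Subgroup G), X = r • R2} ?_ ?_
    · rw [this, hS9]
      have h8 : Nat.card (N0 ⊓ normalizer ((R2 : Subgroup G) : Set G) : Subgroup G) = 8 := by
        rw [show (N0 ⊓ normalizer ((R2 : Subgroup G) : Set G) : Subgroup G) = O from hOeq]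
        exact hcO
      rw [h8]
    · intro h hh
      have hhR : h • R = R := (g7_mem_norm_iff R h).mp hh.2
      have h1 : inC (h • R2) :=
        (hh.1 R2).mp (Or.inr ⟨1, Subgroup.one_mem _, (one_smul _ _).symm⟩)
      rcases h1 with h1 | h1
      · exfalso
        rw [← hhR] at h1
        exact T.ne12 (smul_left_cancel h h1).symm
      · exact h1
    · rintro Y ⟨r, hr, rfl⟩
      exact ⟨r, ⟨M1 hr, hRNR hr⟩, rfl⟩
  have hcM : Nat.card M = 720 := by
    have := g7_orbit_stab M R {X : Sylow 3 G | inC X} ?_ ?_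
    · rw [this, hS10]
      have h72 : Nat.card (M ⊓ normalizer ((R : Subgroup G) : Set G) : Subgroup G) = 72 := hcN0
      rw [h72]
    · intro h hh
      exact (hh R).mp (Or.inl rfl)
    · rintro Y (rfl | ⟨r, hr, rfl⟩)
      · exact ⟨1, Subgroup.one_mem _, one_smul _ _⟩
      · exact ⟨r * g, Subgroup.mul_mem _ (M1 hr) M4, by rw [mul_smul, hg12]⟩
  -- the second set `𝒞' = s • 𝒞`
  let inC' : Sylow 3 G → Prop := fun Y => Y = R ∨ ∃ r ∈ (R : Subgroup G), Y = r • R3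
  let M' : Subgroup G := g7Stab inC'
  have S1a : ∀ X, inC X → inC' (s • X) := by
    rintro X (rfl | ⟨r, hr, rfl⟩)
    · left; exact hsR
    · right
      refine ⟨s * r * s⁻¹, g7_conj_mem_of_norm _ s r hsN hr, ?_⟩
      rw [g7_smul_smul_conj, hs23]
  have S1b : ∀ Y, inC' Y → inC (s⁻¹ • Y) := by
    rintro Y (rfl | ⟨r, hr, rfl⟩)
    · left; exact hsiR
    · right
      refine ⟨s⁻¹ * r * s⁻¹⁻¹, g7_conj_mem_of_norm _ s⁻¹ r (Subgroup.inv_mem _ hsN) hr, ?_⟩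
      rw [g7_smul_smul_conj, hsi32]
  have S1 : ∀ X, inC' (s • X) ↔ inC X := by
    intro X
    refine ⟨fun h => ?_, S1a X⟩
    have := S1b _ h
    rwa [inv_smul_smul] at this
  have S1' : ∀ Z, inC (s⁻¹ • Z) ↔ inC' Z := by
    intro Z
    rw [← S1, smul_inv_smul]
  have S2 : ∀ x : G, s⁻¹ * x * s ∈ M ↔ x ∈ M' := by
    intro x
    constructor
    · intro h Y
      have h1 := h (s⁻¹ • Y)
      rw [S1', mul_smul, mul_smul, smul_inv_smul, S1'] at h1
      exact h1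
    · intro h X
      have h1 := h (s • X)
      rw [S1] at h1
      rw [h1, mul_smul, mul_smul, S1']
  have S3R : (R : Subgroup G) ≤ M' := by
    apply g7_le_stab
    rintro y hy X (rfl | ⟨r, hr, rfl⟩)
    · left; exact g7_smul_of_mem _ y hy
    · right; exact ⟨y * r, Subgroup.mul_mem _ hy hr, (mul_smul _ _ _).symm⟩
  have S3O : O ≤ M' := by
    apply g7_le_stab
    rintro o ho X (rfl | ⟨r, hr, rfl⟩)
    · left; exact (g7_mem_norm_iff _ o).mp ho.1
    · right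
      refine ⟨o * r * o⁻¹, g7_conj_mem_of_norm _ o r ho.1 hr, ?_⟩
      rw [g7_smul_smul_conj, (g7_mem_norm_iff R3 o).mp (Cf.Ot o ho.1 ho.2).2]
  have hN0iff : ∀ x : G, x ∈ N0 ↔ x ∈ M ∧ s⁻¹ * x * s ∈ M := by
    intro x
    constructor
    · intro hx
      refine ⟨hx.1, (S2 x).mpr ?_⟩
      obtain ⟨r, hr, o, ho, rfl⟩ := hN1 x hx
      exact Subgroup.mul_mem _ (S3R hr) (S3O ho)
    · rintro ⟨h1, h2⟩
      refine ⟨h1, (g7_mem_norm_iff R x).mpr ?_⟩
      have h3 : inC (x • R) := (h1 R).mp (Or.inl rfl)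
      have h4 : inC' (x • R) := (((S2 x).mp h2) R).mp (Or.inl rfl)
      rcases h3 with h3 | ⟨r, hr, h3⟩
      · exact h3
      · rcases h4 with h4 | ⟨r', hr', h4⟩
        · exact h4
        · exact absurd (h3.symm.trans h4) (hA.2.1 r hr r' hr')
  have hOiff : ∀ x : G, x ∈ O ↔ x ∈ N0 ∧ g⁻¹ * x * g ∈ N0 := by
    intro x
    constructor
    · intro hx
      have hxM : x ∈ M := M3 hx
      refine ⟨⟨hxM, hx.1⟩, Subgroup.mul_mem _ (Subgroup.mul_mem _ (Subgroup.inv_mem _ M4) hxM) M4,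
        (g7_mem_norm_iff R _).mpr ?_⟩
      rw [mul_smul, mul_smul, hg12, (g7_mem_norm_iff R2 x).mp hx.2, hgi21]
    · rintro ⟨h1, h2⟩
      refine ⟨h1.2, (g7_mem_norm_iff R2 x).mpr ?_⟩
      have h3 := (g7_mem_norm_iff R _).mp h2.2
      rw [mul_smul, mul_smul, hg12, inv_smul_eq_iff, hg12] at h3
      exact h3
  -- an element `r₀ ≠ 1` of `R`
  have hr0 : ∃ r₀ ∈ (R : Subgroup G), r₀ ≠ 1 := by
    by_contra hcon
    push Not at hcon
    have hbot : (R : Subgroup G) = ⊥ := (Subgroup.eq_bot_iff_forall _).mpr hcon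
    have h9 := L.card3 R
    rw [hbot, Subgroup.card_bot] at h9
    omega
  obtain ⟨r₀, hr₀, hr₀1⟩ := hr0
  refine ⟨M, N0, O, s, g, r₀, hcM, hcN0, hcO, M4, ⟨M1 hr₀, hRNR hr₀⟩, hN0iff, hOiff, ?_⟩
  intro x hx hx'
  -- `x * o'⁻¹ ∈ R ⊓ O`
  have h1 : x * (r₀⁻¹ * x * r₀)⁻¹ ∈ (R : Subgroup G) := by
    have h2 : x * r₀⁻¹ * x⁻¹ ∈ (R : Subgroup G) :=
      g7_conj_mem_of_norm R x r₀⁻¹ hx.1 (Subgroup.inv_mem _ hr₀)
    have : x * (r₀⁻¹ * x * r₀)⁻¹ = (x * r₀⁻¹ * x⁻¹) * r₀ := by group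
    rw [this]
    exact Subgroup.mul_mem _ h2 hr₀
  have h2 : x * (r₀⁻¹ * x * r₀)⁻¹ ∈ NR2 :=
    Subgroup.mul_mem _ hx.2 (Subgroup.inv_mem _ hx'.2)
  have h3 := hRO _ h1 h2
  have h4 : x * r₀ * x⁻¹ = r₀ := by
    have h5 : x = r₀⁻¹ * x * r₀ := by
      have := mul_inv_eq_one.mp h3
      exact this
    have : x * r₀ * x⁻¹ = r₀ * (r₀⁻¹ * x * r₀) * x⁻¹ := by group
    rw [this, ← h5]; group
  exact Cf.Oreg x hx.1 hx.2 r₀ hr₀ hr₀1 h4

end Main

end Cfsg.Agent.Helper79.M11U
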