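import Mathlib
import Cfsg.Agent.S1017
import Cfsg.Agent.Lib.Helper25.N5400Defs

/-!
# N5400 (FIB) for helper25's sub-server (S0983, order 5400): the Sylow 5-subgroups meeting `P`
nontrivially are fibred over the shared subgroups of order 5 of `P`, with fibres of size `6 - 1`.
-/

set_option autoImplicit false

namespace Cfsg.Agent.Helper79.N5400

open Cfsg MulAction Cfsg.Agent.Helper25.N5400

universe u

section NoSimple

variable {G : Type u} [Group G] [Finite G]

/-- a proper nontrivial intersection of two Sylow 5-subgroups of order 25 has order 5 -/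
theorem h79_card_inf (hP25 : ∀ Q : Sylow 5 G, Nat.card (Q : Subgroup G) = 25) (P R : Sylow 5 G)
    (hne : R ≠ P) (hbot : (P : Subgroup G) ⊓ (R : Subgroup G) ≠ ⊥) :
    Nat.card ↥((P : Subgroup G) ⊓ (R : Subgroup G)) = 5 := by
  have hd : Nat.card ↥((P : Subgroup G) ⊓ (R : Subgroup G)) ∣ 5 ^ 2 := by
    have := Subgroup.card_dvd_of_le (inf_le_left : (P : Subgroup G) ⊓ (R : Subgroup G) ≤ P)
    rwa [hP25 P] at this
  obtain ⟨k, hk, hk'⟩ := (Nat.dvd_prime_pow (by norm_num : Nat.Prime 5)).1 hd
  interval_cases k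
  · exfalso
    apply hbot
    rw [pow_zero] at hk'
    exact Subgroup.card_eq_one.1 hk'
  · rw [hk']; norm_num
  · exfalso
    apply hne
    have h1 : (P : Subgroup G) ⊓ (R : Subgroup G) = (P : Subgroup G) :=
      Subgroup.eq_of_le_of_card_ge inf_le_left (by rw [hk', hP25 P]; norm_num)
    have h2 : (P : Subgroup G) ≤ (R : Subgroup G) := inf_eq_left.1 h1
    have h3 : (P : Subgroup G) = (R : Subgroup G) :=
      Subgroup.eq_of_le_of_card_ge h2 (by rw [hP25 P, hP25 R])
    exact (Sylow.ext h3).symm

/-- (FIB) -/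
theorem card_meeting (hP25 : ∀ Q : Sylow 5 G, Nat.card (Q : Subgroup G) = 25) (P : Sylow 5 G)
    (h6 : ∀ F : Subgroup G, Shared P F → Nat.card {Q : Sylow 5 G // F ≤ (Q : Subgroup G)} = 6) :
    Nat.card {R : Sylow 5 G // R ≠ P ∧ (P : Subgroup G) ⊓ (R : Subgroup G) ≠ ⊥} =
      5 * Nat.card {F : Subgroup G // Shared P F} := by
  classical
  -- the map `R ↦ P ⊓ R`
  let φ : {R : Sylow 5 G // R ≠ P ∧ (P : Subgroup G) ⊓ (R : Subgroup G) ≠ ⊥} →
      {F : Subgroup G // Shared P F} := fun R =>
    ⟨(P : Subgroup G) ⊓ (R.1 : Subgroup G), inf_le_left, h79_card_inf hP25 P R.1 R.2.1 R.2.2,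
      R.1, R.2.1, inf_le_right⟩
  have hfib : ∀ F : {F : Subgroup G // Shared P F},
      Nat.card {R : {R : Sylow 5 G // R ≠ P ∧ (P : Subgroup G) ⊓ (R : Subgroup G) ≠ ⊥} // φ R = F} = 5 := by
    intro F
    obtain ⟨hFP, hF5, -⟩ := F.2
    have hFbot : F.1 ≠ ⊥ := by
      intro h
      rw [h, Subgroup.card_bot] at hF5
      omega
    -- fibre ≃ `{Q // F ≤ Q}` minus `P`
    have e : {R : {R : Sylow 5 G // R ≠ P ∧ (P : Subgroup G) ⊓ (R : Subgroup G) ≠ ⊥} // φ R = F} ≃
        {x : {Q : Sylow 5 G // F.1 ≤ (Q : Subgroup G)} // x ≠ ⟨P, hFP⟩} :=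
      { toFun := fun R => ⟨⟨R.1.1, by
            have := congrArg Subtype.val R.2
            change (P : Subgroup G) ⊓ (R.1.1 : Subgroup G) = F.1 at this
            rw [← this]; exact inf_le_right⟩, by
            intro h
            exact R.1.2.1 (congrArg Subtype.val h)⟩
        invFun := fun x => ⟨⟨x.1.1, fun h => x.2 (Subtype.ext h), by
            intro hb
            apply hFbot
            have : F.1 ≤ (P : Subgroup G) ⊓ (x.1.1 : Subgroup G) := le_inf hFP x.1.2
            rw [hb] at this
            exact le_bot_iff.1 this⟩, by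
            apply Subtype.ext
            change (P : Subgroup G) ⊓ (x.1.1 : Subgroup G) = F.1
            have hne : x.1.1 ≠ P := fun h => x.2 (Subtype.ext h)
            have hle : F.1 ≤ (P : Subgroup G) ⊓ (x.1.1 : Subgroup G) := le_inf hFP x.1.2
            have hbot : (P : Subgroup G) ⊓ (x.1.1 : Subgroup G) ≠ ⊥ := by
              intro hb
              apply hFbot
              rw [hb] at hle
              exact le_bot_iff.1 hle
            have hc := h79_card_inf hP25 P x.1.1 hne hbot
            exact (Subgroup.eq_of_le_of_card_ge hle (by rw [hc, hF5])).symm⟩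
        left_inv := fun R => by
          apply Subtype.ext
          apply Subtype.ext
          rfl
        right_inv := fun x => by
          apply Subtype.ext
          apply Subtype.ext
          rfl }
    rw [Nat.card_congr e, Cfsg.Agent.S1017.card_ne_subtype, h6 F.1 F.2]
  have := Fintype.ofFinite {F : Subgroup G // Shared P F}
  rw [← Nat.card_congr (Equiv.sigmaFiberEquiv φ), Nat.card_sigma]
  simp_rw [hfib]
  rw [Finset.sum_const, Finset.card_univ, Nat.card_eq_fintype_card, smul_eq_mul, mul_comm]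

end NoSimple

end Cfsg.Agent.Helper79.N5400
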