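import Cfsg.Agent.Lib.Helper79.ExtraspecialFwd
import Cfsg.Agent.Lib.Helper81.CharAbel
import Cfsg.Agent.S0169
import Cfsg.Agent.Lib.Helper79.Codegree

set_option autoImplicit false
set_option linter.unusedSectionVars false
set_option linter.style.haveILetI false

namespace Cfsg.Agent.Helper79

open Module
open scoped ComplexConjugate
open scoped commutatorElement

universe u v

section Twist

variable {G : Type v} [Group G] [Finite G]

/-- if twisting by every linear character coming from the abelian quotient `π : G → A` fixes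
`χ`, then `χ` vanishes off the kernel of `π` -/
theorem vanish_off_ker_of_twist_invariant {A : Type v} [CommGroup A] [Finite A] (π : G →* A)
    (χ : G → ℂ)
    (h : ∀ ψ : AddChar (Additive A) ℂ, ∀ g : G, Cfsg.Agent.Helper81.linChar π ψ g * χ g = χ g)
    (g : G) (hg : π g ≠ 1) : χ g = 0 := by
  classical
  have h1 := Cfsg.Agent.Helper81.sum_linChar π g
  rw [if_neg hg] at h1
  have h2 : ∑ ψ : AddChar (Additive A) ℂ, Cfsg.Agent.Helper81.linChar π ψ g * χ g
      = ∑ _ψ : AddChar (Additive A) ℂ, χ g := Finset.sum_congr rfl (fun ψ _ => h ψ g)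
  rw [← Finset.sum_mul, h1, zero_mul, Finset.sum_const, nsmul_eq_mul] at h2
  have h3 : ((Finset.univ : Finset (AddChar (Additive A) ℂ)).card : ℂ) ≠ 0 := by
    have : (Finset.univ : Finset (AddChar (Additive A) ℂ)).card ≠ 0 :=
      Finset.card_ne_zero.2 ⟨1, Finset.mem_univ _⟩
    exact_mod_cast this
  rcases mul_eq_zero.1 h2.symm with h4 | h4
  · exact absurd h4 h3
  · exact h4

end Twist

section Nilp

variable {G : Type v} [Group G] [Finite G]

/-- a finite nilpotent group with exactly one irreducible character of degree divisible by `p`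
is a `p`-group -/
theorem isPGroup_of_unique_nilpotent [hG : Group.IsNilpotent G] (p : ℕ) [hp : Fact p.Prime]
    (h : Nat.card {χ : IrrCharacter G // p ∣ charDegree (χ : G → ℂ)} = 1) : IsPGroup p G := by
  classical
  have := Fintype.ofFinite G
  obtain ⟨H, hHn, hHc, k, hk⟩ := exists_normal_pcomplement_of_nilpotent (G := G) p
  rw [Nat.card_eq_one_iff_unique] at h
  obtain ⟨hsub, ⟨⟨χ₀, hχ₀⟩⟩⟩ := h
  have huniq : ∀ χ : IrrCharacter G, p ∣ charDegree (χ : G → ℂ) → χ = χ₀ := by
    intro χ hχ
    exact congrArg Subtype.val (hsub.elim ⟨χ, hχ⟩ ⟨χ₀, hχ₀⟩)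
  have hsyl : ∀ (q : ℕ) (_hq : Fact q.Prime) (Q : Sylow q G), (Q : Subgroup G).Normal :=
    ((Group.isNilpotent_of_finite_tfae (G := G)).out 0 3).mp hG
  let P : Sylow p G := default
  have hPn : (P : Subgroup G).Normal := hsyl p hp P
  have hPidx : ¬ p ∣ (P : Subgroup G).index := P.not_dvd_index
  -- Claim 1
  have hHker : H ≤ irrKer χ₀ := by
    by_cases hex : ∃ χ : IrrCharacter G, H ≤ irrKer χ ∧ p ∣ charDegree (χ : G → ℂ)
    · obtain ⟨χ, hχ1, hχ2⟩ := hex
      rw [← huniq χ hχ2]; exact hχ1
    · exfalso
      push Not at hex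
      have hlin : ∀ χ : IrrCharacter G, H ≤ irrKer χ → commutator G ≤ irrKer χ := by
        intro χ hχ
        apply commutator_le_irrKer_of_degree_one
        have h1 : charDegree (χ : G → ℂ) ∣ p ^ k := by
          rw [← hk]
          exact (degree_dvd_index_irrKer χ).trans (Subgroup.index_dvd_of_le hχ)
        obtain ⟨a, -, ha⟩ := (Nat.dvd_prime_pow hp.out).1 h1
        rw [ha]
        by_contra h2
        apply hex χ hχ
        rw [ha]
        have : a ≠ 0 := by intro h0; apply h2; rw [h0, pow_zero]
        exact dvd_pow_self p this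
      have hG'n : (commutator G).Normal := inferInstance
      have hsn : (H ⊔ commutator G).Normal := Subgroup.sup_normal H (commutator G)
      have h1 := sum_sq_degree_of_le_ker H
      have h2 := sum_sq_degree_of_le_ker (H ⊔ commutator G)
      have h3 : Finset.univ.filter (fun χ : IrrCharacter G => H ≤ irrKer χ)
          = Finset.univ.filter (fun χ : IrrCharacter G => H ⊔ commutator G ≤ irrKer χ) := by
        ext χ
        simp only [Finset.mem_filter, Finset.mem_univ, true_and]
        constructor
        · intro hχ; exact sup_le hχ (hlin χ hχ)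
        · intro hχ; exact le_sup_left.trans hχ
      rw [h3, h2] at h1
      -- H ⊔ G' = H
      have h4 := Subgroup.card_mul_index H
      have h5 := Subgroup.card_mul_index (H ⊔ commutator G)
      rw [h1] at h5
      have h6 : Nat.card (H ⊔ commutator G : Subgroup G) = Nat.card H :=
        Nat.eq_of_mul_eq_mul_right (Nat.pos_of_ne_zero Subgroup.index_ne_zero_of_finite)
          (h5.trans h4.symm)
      have h7 : H = H ⊔ commutator G := Subgroup.eq_of_le_of_card_ge le_sup_left h6.le
      have hG'H : commutator G ≤ H := by rw [h7]; exact le_sup_right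
      -- P is abelian
      have hdisj : (P : Subgroup G) ⊓ H = ⊥ := by
        apply Disjoint.eq_bot
        apply Subgroup.disjoint_of_coprime_natCard
        obtain ⟨m, hm⟩ := IsPGroup.iff_card.mp P.isPGroup'
        rw [hm]
        exact Nat.Coprime.pow_left m hHc.symm
      have hPab : ∀ a ∈ (P : Subgroup G), ∀ b ∈ (P : Subgroup G), a * b = b * a := by
        intro a ha b hb
        have h8 : ⁅a, b⁆ ∈ (P : Subgroup G) ⊓ H := by
          refine ⟨?_, ?_⟩
          · rw [commutatorElement_def]
            exact (P : Subgroup G).mul_mem ((P : Subgroup G).mul_mem ((P : Subgroup G).mul_mem ha hb)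
              ((P : Subgroup G).inv_mem ha)) ((P : Subgroup G).inv_mem hb)
          · apply hG'H
            rw [commutator_def]
            exact Subgroup.commutator_mem_commutator (Subgroup.mem_top _) (Subgroup.mem_top _)
        rw [hdisj, Subgroup.mem_bot] at h8
        exact (commutatorElement_eq_one_iff_mul_comm.1 h8)
      -- Ito
      obtain ⟨n, ρ, hρ, hχρ⟩ := χ₀.2
      have h9 := Cfsg.Agent.S0169.result ρ (P : Subgroup G) hPab
      have h10 : charDegree (χ₀ : G → ℂ) = finrank ℂ (Fin n → ℂ) := by
        have h11 := (irr_one_eq χ₀).1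
        have h12 : (χ₀ : G → ℂ) 1 = (finrank ℂ (Fin n → ℂ) : ℂ) := by
          rw [← hχρ, Representation.char_one]
        rw [h12] at h11
        exact_mod_cast h11.symm
      rw [← h10] at h9
      exact hPidx (hχ₀.trans h9)
  -- Claim 2
  have hPtop : (P : Subgroup G) = ⊤ := by
    by_contra hne
    let A := Abelianization (G ⧸ (P : Subgroup G))
    let π : G →* A := (Abelianization.of).comp (QuotientGroup.mk' (P : Subgroup G))
    have hπsurj : Function.Surjective π := by
      intro a
      obtain ⟨q, rfl⟩ := QuotientGroup.mk'_surjective (commutator (G ⧸ (P : Subgroup G))) a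
      obtain ⟨g, rfl⟩ := QuotientGroup.mk'_surjective (P : Subgroup G) q
      exact ⟨g, rfl⟩
    have hntQ : Nontrivial (G ⧸ (P : Subgroup G)) := by
      rw [← Finite.one_lt_card_iff_nontrivial, ← Subgroup.index_eq_card]
      have h1 : (P : Subgroup G).index ≠ 1 := by
        intro h1; exact hne (Subgroup.index_eq_one.1 h1)
      have h2 : (P : Subgroup G).index ≠ 0 := Subgroup.index_ne_zero_of_finite
      omega
    have hsolv : Group.IsSolvable (G ⧸ (P : Subgroup G)) := inferInstance
    have hlt := Group.IsSolvable.commutator_lt_top_of_nontrivial (G ⧸ (P : Subgroup G))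
    have hntA : Nontrivial A := by
      rw [← Finite.one_lt_card_iff_nontrivial]
      show 1 < Nat.card ((G ⧸ (P : Subgroup G)) ⧸ commutator (G ⧸ (P : Subgroup G)))
      rw [← Subgroup.index_eq_card]
      have h1 : (commutator (G ⧸ (P : Subgroup G))).index ≠ 1 := by
        intro h1; exact hlt.ne (Subgroup.index_eq_one.1 h1)
      have h2 : (commutator (G ⧸ (P : Subgroup G))).index ≠ 0 := Subgroup.index_ne_zero_of_finite
      omega
    obtain ⟨a, ha⟩ := exists_ne (1 : A)
    -- twisting
    have htw : ∀ ψ : AddChar (Additive A) ℂ, ∀ g : G,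
        Cfsg.Agent.Helper81.linChar π ψ g * (χ₀ : G → ℂ) g = (χ₀ : G → ℂ) g := by
      intro ψ g
      have h1 := Cfsg.Agent.Helper81.isIrrCharacter_linChar_mul π ψ χ₀.2
      have h2 : (⟨_, h1⟩ : IrrCharacter G) = χ₀ := by
        apply huniq
        have : charDegree (Cfsg.Agent.Helper81.linChar π ψ * (χ₀ : G → ℂ))
            = charDegree (χ₀ : G → ℂ) := by
          unfold charDegree
          rw [Pi.mul_apply, Cfsg.Agent.Helper81.linChar_one, one_mul]
        show p ∣ charDegree (Cfsg.Agent.Helper81.linChar π ψ * (χ₀ : G → ℂ))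
        rw [this]; exact hχ₀
      have h3 := congrArg (fun χ : IrrCharacter G => (χ : G → ℂ) g) h2
      exact h3
    have hvan := vanish_off_ker_of_twist_invariant π (χ₀ : G → ℂ) htw
    -- H maps onto A
    have hmap : H.map π = ⊤ := by
      rw [← Subgroup.index_eq_one]
      have h1 : (H.map π).index ∣ p ^ k := by
        rw [← hk]; exact Subgroup.index_map_dvd H hπsurj
      have h2 : (H.map π).index ∣ (P : Subgroup G).index := by
        have h3 : (H.map π).index ∣ Nat.card A := Subgroup.index_dvd_card _
        have h4 : Nat.card A ∣ Nat.card (G ⧸ (P : Subgroup G)) :=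
          Subgroup.card_dvd_of_surjective (Abelianization.of)
            (QuotientGroup.mk'_surjective (commutator (G ⧸ (P : Subgroup G))))
        rw [Subgroup.index_eq_card]
        exact h3.trans h4
      obtain ⟨b, -, hb⟩ := (Nat.dvd_prime_pow hp.out).1 h1
      rw [hb] at h2 ⊢
      rcases Nat.eq_zero_or_pos b with h0 | hbpos
      · rw [h0, pow_zero]
      · exfalso
        exact hPidx ((dvd_pow_self p hbpos.ne').trans h2)
    have haH : a ∈ H.map π := by rw [hmap]; exact Subgroup.mem_top a
    obtain ⟨x, hxH, hxa⟩ := haH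
    have h1 := hvan x (by rw [hxa]; exact ha)
    have h2 : (χ₀ : G → ℂ) x = (χ₀ : G → ℂ) 1 := hHker hxH
    rw [h1] at h2
    exact irr_one_ne_zero χ₀ h2.symm
  obtain ⟨m, hm⟩ := IsPGroup.iff_card.mp P.isPGroup'
  apply IsPGroup.of_card (n := m)
  rw [← hm, hPtop, Subgroup.card_top]

end Nilp

end Cfsg.Agent.Helper79
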