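import Mathlib

/-!
# O2520 (S3C, KLEIN) sub-lemma for helper44 / helper20 / helper55 (S0984): structure of `N(P)` of order 36
without elements of order 4, `P` elementary abelian of order 9 and self-centralizing.
-/

set_option autoImplicit false

namespace Cfsg.Agent.Helper79.O2520

universe u

variable {G : Type u} [Group G] [Finite G]

/-- a subgroup of order 3 is `{1, x, x⁻¹}` -/
theorem h79_card3 (H : Subgroup G) (h3 : Nat.card H = 3) (x : G) (hx : x ∈ H) (hx1 : x ≠ 1) :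
    ∀ y ∈ H, y = 1 ∨ y = x ∨ y = x⁻¹ := by
  have hd : orderOf x ∣ 3 := by
    have := orderOf_dvd_natCard (⟨x, hx⟩ : H)
    rwa [Subgroup.orderOf_mk, h3] at this
  have hord : orderOf x = 3 := by
    rcases (Nat.dvd_prime Nat.prime_three).1 hd with h | h
    · exact absurd (orderOf_eq_one_iff.1 h) hx1
    · exact h
  have hz : Subgroup.zpowers x = H := by
    apply Subgroup.eq_of_le_of_card_ge ((Subgroup.zpowers_le).2 hx)
    rw [Nat.card_zpowers, hord, h3]
  have hx3 : x ^ 3 = 1 := by rw [← hord]; exact pow_orderOf_eq_one x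
  intro y hy
  rw [← hz] at hy
  obtain ⟨k, rfl⟩ := Subgroup.mem_zpowers_iff.1 hy
  have h0 := Int.emod_nonneg k (by norm_num : (3 : ℤ) ≠ 0)
  have h1 := Int.emod_lt_of_pos k (by norm_num : (0 : ℤ) < 3)
  have hk : x ^ k = x ^ (k % 3) := by
    have := zpow_mod_orderOf x k
    rw [hord] at this
    exact this.symm
  rw [hk]
  generalize k % 3 = r at h0 h1
  interval_cases r
  · left; simp
  · right; left; simp
  · right; right
    have : x ^ (2 : ℤ) * x = 1 := by
      have : x ^ (2 : ℤ) * x = x ^ 3 := by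
        rw [zpow_ofNat]; exact (pow_succ x 2).symm
      rw [this, hx3]
    exact eq_inv_of_mul_eq_one_left this

theorem klein_struct (P : Subgroup G) (hP9 : Nat.card P = 9) (hexp : ∀ x ∈ P, x ^ 3 = 1)
    (hC : Subgroup.centralizer (P : Set G) = P)
    (hN36 : Nat.card (Subgroup.normalizer (P : Set G)) = 36)
    (hno4 : ¬ ∃ u ∈ Subgroup.normalizer (P : Set G), orderOf u = 4) :
    ∃ x x' a b : G, x ∈ P ∧ x' ∈ P ∧ x ≠ 1 ∧ x' ≠ 1 ∧ a ∈ Subgroup.normalizer (P : Set G) ∧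
      b ∈ Subgroup.normalizer (P : Set G) ∧ a * a = 1 ∧ b * b = 1 ∧ a * x * a⁻¹ = x ∧
      a * x' * a⁻¹ = x'⁻¹ ∧ b * x * b⁻¹ = x⁻¹ ∧ b * x' * b⁻¹ = x' := by
  classical
  set N := Subgroup.normalizer (P : Set G) with hN
  -- `P` is abelian
  have hab : ∀ p ∈ P, ∀ q ∈ P, p * q = q * p := by
    intro p hp q hq
    have hp' : p ∈ Subgroup.centralizer (P : Set G) := by rw [hC]; exact hp
    exact (Subgroup.mem_centralizer_iff.1 hp' q hq).symm
  -- centralizing elements lie in `P`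
  have hcent : ∀ d : G, (∀ r ∈ P, d * r * d⁻¹ = r) → d ∈ P := by
    intro d hd
    rw [← hC, Subgroup.mem_centralizer_iff]
    intro r hr
    have := hd r hr
    calc r * d = (d * r * d⁻¹) * d := by rw [this]
      _ = d * r := by group
  -- normalizer action
  have hnorm : ∀ d ∈ N, ∀ r ∈ P, d * r * d⁻¹ ∈ P := by
    intro d hd r hr
    exact (Subgroup.mem_normalizer_iff.1 hd r).1 hr
  -- a subgroup `T` of order 4
  obtain ⟨K, hK⟩ := Sylow.exists_subgroup_card_pow_prime (G := ↥N) 2 (n := 2)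
    (by rw [hN36]; norm_num)
  set T : Subgroup G := K.map N.subtype with hT
  have hT4 : Nat.card T = 4 := by
    rw [hT, Subgroup.card_map_of_injective (Subgroup.subtype_injective N), hK]; norm_num
  have hTN : T ≤ N := Subgroup.map_subtype_le K
  have hsq : ∀ t ∈ T, t * t = 1 := by
    intro t ht
    have hd : orderOf t ∣ 4 := by
      have := orderOf_dvd_natCard (⟨t, ht⟩ : T)
      rwa [Subgroup.orderOf_mk, hT4] at this
    have hne : orderOf t ≠ 4 := fun h => hno4 ⟨t, hTN ht, h⟩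
    have h2 : orderOf t ∣ 2 := by
      have hle : orderOf t ≤ 4 := Nat.le_of_dvd (by norm_num) hd
      interval_cases h : orderOf t
      · simp at hd
      · norm_num
      · norm_num
      · norm_num at hd
      · exact absurd rfl hne
    have := orderOf_dvd_iff_pow_eq_one.1 h2
    rwa [pow_two] at this
  have hTinv : ∀ t ∈ T, t⁻¹ = t := fun t ht => inv_eq_of_mul_eq_one_left (hsq t ht)
  have hTab : ∀ s ∈ T, ∀ t ∈ T, s * t = t * s := by
    intro s hs t ht
    have h1 := hTinv (s * t) (T.mul_mem hs ht)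
    rw [mul_inv_rev, hTinv s hs, hTinv t ht] at h1
    exact h1.symm
  have hTP : ∀ t ∈ T, t ∈ P → t = 1 := by
    intro t ht hp
    have h3 := hexp t hp
    have h2 := hsq t ht
    calc t = t ^ 3 * (t * t)⁻¹ := by group
      _ = 1 := by rw [h3, h2]; simp
  -- two different nontrivial elements of `T`
  obtain ⟨s, hsT, hs1⟩ : ∃ s ∈ T, s ≠ 1 := by
    by_contra hcon
    push Not at hcon
    have : T = ⊥ := (Subgroup.eq_bot_iff_forall T).2 hcon
    rw [this, Subgroup.card_bot] at hT4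
    norm_num at hT4
  obtain ⟨t, htT, htz⟩ : ∃ t ∈ T, t ∉ Subgroup.zpowers s := by
    have hle : Subgroup.zpowers s ≤ T := (Subgroup.zpowers_le).2 hsT
    have hne : Subgroup.zpowers s ≠ T := by
      intro h
      have h2 : orderOf s = 2 := by
        have : Fact (Nat.Prime 2) := ⟨Nat.prime_two⟩
        exact orderOf_eq_prime (by rw [pow_two]; exact hsq s hsT) hs1
      have := Nat.card_zpowers s
      rw [h, hT4, h2] at this
      norm_num at this
    exact SetLike.exists_of_lt (lt_of_le_of_ne hle hne)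
  have ht1 : t ≠ 1 := fun h => htz (h ▸ (Subgroup.zpowers s).one_mem)
  have hts : t ≠ s := fun h => htz (h ▸ Subgroup.mem_zpowers s)
  -- one of them does not invert `P`
  have hex : ∃ a c : G, a ∈ T ∧ c ∈ T ∧ a ≠ 1 ∧ c ≠ 1 ∧ c ≠ a ∧ ∃ p ∈ P, a * p * a⁻¹ ≠ p⁻¹ := by
    by_cases h1 : ∃ p ∈ P, s * p * s⁻¹ ≠ p⁻¹
    · exact ⟨s, t, hsT, htT, hs1, ht1, hts, h1⟩
    · by_cases h2 : ∃ p ∈ P, t * p * t⁻¹ ≠ p⁻¹
      · exact ⟨t, s, htT, hsT, ht1, hs1, fun h => hts h.symm, h2⟩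
      · exfalso
        push Not at h1 h2
        have hst : s * t ∈ P := by
          apply hcent
          intro r hr
          have e1 := h2 r hr
          have e2 := h1 r⁻¹ (P.inv_mem hr)
          calc s * t * r * (s * t)⁻¹ = s * (t * r * t⁻¹) * s⁻¹ := by group
            _ = s * r⁻¹ * s⁻¹ := by rw [e1]
            _ = r := by rw [e2, inv_inv]
        have := hTP (s * t) (T.mul_mem hsT htT) hst
        have h3 : s = t⁻¹ := eq_inv_of_mul_eq_one_left this
        rw [hTinv t htT] at h3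
        exact hts h3.symm
  obtain ⟨a, c, haT, hcT, ha1, hc1, hca, p, hp, hpa⟩ := hex
  have haN : a ∈ N := hTN haT
  have hcN : c ∈ N := hTN hcT
  have haa : a * a = 1 := hsq a haT
  have hcc : c * c = 1 := hsq c hcT
  have hainv : a⁻¹ = a := hTinv a haT
  have hac : a * c = c * a := hTab a haT c hcT
  -- the fixed element
  have hfix : ∀ r ∈ P, a * (r * (a * r * a⁻¹)) * a⁻¹ = r * (a * r * a⁻¹) := by
    intro r hr
    have hr' := hnorm a haN r hr
    calc a * (r * (a * r * a⁻¹)) * a⁻¹ = (a * r * a⁻¹) * ((a * a) * r * (a * a)⁻¹) := by group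
      _ = (a * r * a⁻¹) * r := by rw [haa]; simp
      _ = r * (a * r * a⁻¹) := hab _ hr' _ hr
  have hinvt : ∀ r ∈ P, a * (r * (a * r * a⁻¹)⁻¹) * a⁻¹ = (r * (a * r * a⁻¹)⁻¹)⁻¹ := by
    intro r hr
    calc a * (r * (a * r * a⁻¹)⁻¹) * a⁻¹ = (a * r * a⁻¹) * ((a * a) * r * (a * a)⁻¹)⁻¹ := by group
      _ = (a * r * a⁻¹) * r⁻¹ := by rw [haa]; simp
      _ = (r * (a * r * a⁻¹)⁻¹)⁻¹ := by group
  set x := p * (a * p * a⁻¹) with hx
  have hxP : x ∈ P := P.mul_mem hp (hnorm a haN p hp)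
  have hx1 : x ≠ 1 := by
    intro h
    apply hpa
    exact eq_inv_of_mul_eq_one_right h
  have hax : a * x * a⁻¹ = x := hfix p hp
  -- the inverted element
  have haP : a ∉ P := fun h => ha1 (hTP a haT h)
  obtain ⟨q, hq, hqa⟩ : ∃ q ∈ P, a * q * a⁻¹ ≠ q := by
    by_contra hcon
    push Not at hcon
    exact haP (hcent a hcon)
  set x' := q * (a * q * a⁻¹)⁻¹ with hx'
  have hx'P : x' ∈ P := P.mul_mem hq (P.inv_mem (hnorm a haN q hq))
  have hx'1 : x' ≠ 1 := by
    intro h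
    apply hqa
    have := eq_inv_of_mul_eq_one_right h
    exact inv_injective this
  have hax' : a * x' * a⁻¹ = x'⁻¹ := hinvt q hq
  -- order three facts
  have hno2 : ∀ r ∈ P, r = r⁻¹ → r = 1 := by
    intro r hr h
    have h3 := hexp r hr
    have h2 : r * r = 1 := by
      nth_rewrite 1 [h]; exact inv_mul_cancel r
    calc r = r ^ 3 * (r * r)⁻¹ := by group
      _ = 1 := by rw [h3, h2]; simp
  -- the subgroups `P⁺` and `P⁻`
  let Pp : Subgroup G :=
    { carrier := {r | r ∈ P ∧ a * r * a⁻¹ = r}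
      one_mem' := ⟨P.one_mem, by group⟩
      mul_mem' := by
        rintro r₁ r₂ ⟨h1, h1'⟩ ⟨h2, h2'⟩
        refine ⟨P.mul_mem h1 h2, ?_⟩
        calc a * (r₁ * r₂) * a⁻¹ = (a * r₁ * a⁻¹) * (a * r₂ * a⁻¹) := by group
          _ = r₁ * r₂ := by rw [h1', h2']
      inv_mem' := by
        rintro r ⟨h1, h1'⟩
        refine ⟨P.inv_mem h1, ?_⟩
        calc a * r⁻¹ * a⁻¹ = (a * r * a⁻¹)⁻¹ := by group
          _ = r⁻¹ := by rw [h1'] }
  let Pm : Subgroup G :=
    { carrier := {r | r ∈ P ∧ a * r * a⁻¹ = r⁻¹}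
      one_mem' := ⟨P.one_mem, by group⟩
      mul_mem' := by
        rintro r₁ r₂ ⟨h1, h1'⟩ ⟨h2, h2'⟩
        refine ⟨P.mul_mem h1 h2, ?_⟩
        calc a * (r₁ * r₂) * a⁻¹ = (a * r₁ * a⁻¹) * (a * r₂ * a⁻¹) := by group
          _ = r₁⁻¹ * r₂⁻¹ := by rw [h1', h2']
          _ = (r₂ * r₁)⁻¹ := by group
          _ = (r₁ * r₂)⁻¹ := by rw [hab r₂ h2 r₁ h1]
      inv_mem' := by
        rintro r ⟨h1, h1'⟩
        refine ⟨P.inv_mem h1, ?_⟩
        calc a * r⁻¹ * a⁻¹ = (a * r * a⁻¹)⁻¹ := by group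
          _ = r⁻¹⁻¹ := by rw [h1'] }
  have hPpP : Pp ≤ P := fun r hr => hr.1
  have hPmP : Pm ≤ P := fun r hr => hr.1
  have hxPp : x ∈ Pp := ⟨hxP, hax⟩
  have hx'Pm : x' ∈ Pm := ⟨hx'P, hax'⟩
  have hx'Pp : x' ∉ Pp := by
    intro h
    apply hx'1
    apply hno2 x' hx'P
    rw [← hax']; exact h.2.symm
  have hxPm : x ∉ Pm := by
    intro h
    apply hx1
    apply hno2 x hxP
    rw [← h.2]; exact hax.symm
  have card3 : ∀ Q : Subgroup G, Q ≤ P → (∃ y ∈ Q, y ≠ 1) → (∃ y ∈ P, y ∉ Q) → Nat.card Q = 3 := by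
    intro Q hQP hQ1 hQ2
    have hd : Nat.card Q ∣ 3 ^ 2 := by
      have := Subgroup.card_dvd_of_le hQP
      rw [hP9] at this
      exact this
    obtain ⟨k, hk, hk'⟩ := (Nat.dvd_prime_pow Nat.prime_three).1 hd
    interval_cases k
    · exfalso
      obtain ⟨y, hy, hy1⟩ := hQ1
      have : Q = ⊥ := Subgroup.card_eq_one.1 (by rw [hk']; norm_num)
      rw [this, Subgroup.mem_bot] at hy
      exact hy1 hy
    · rw [hk']; norm_num
    · exfalso
      obtain ⟨y, hy, hyQ⟩ := hQ2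
      have : Q = P := Subgroup.eq_of_le_of_card_ge hQP (by rw [hk', hP9]; norm_num)
      exact hyQ (this ▸ hy)
  have hPp3 : Nat.card Pp = 3 := card3 Pp hPpP ⟨x, hxPp, hx1⟩ ⟨x', hx'P, hx'Pp⟩
  have hPm3 : Nat.card Pm = 3 := card3 Pm hPmP ⟨x', hx'Pm, hx'1⟩ ⟨x, hxP, hxPm⟩
  have hPpl := h79_card3 Pp hPp3 x hxPp hx1
  have hPml := h79_card3 Pm hPm3 x' hx'Pm hx'1
  -- an element commuting with `x` and `x'` centralizes `P`
  have hL : ∀ d : G, d * x * d⁻¹ = x → d * x' * d⁻¹ = x' → ∀ r ∈ P, d * r * d⁻¹ = r := by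
    intro d hdx hdx' r hr
    have hdxi : d * x⁻¹ * d⁻¹ = x⁻¹ := by
      calc d * x⁻¹ * d⁻¹ = (d * x * d⁻¹)⁻¹ := by group
        _ = x⁻¹ := by rw [hdx]
    have hdx'i : d * x'⁻¹ * d⁻¹ = x'⁻¹ := by
      calc d * x'⁻¹ * d⁻¹ = (d * x' * d⁻¹)⁻¹ := by group
        _ = x'⁻¹ := by rw [hdx']
    have hr' := hnorm a haN r hr
    set u1 := r * (a * r * a⁻¹) with hu1
    set u2 := r * (a * r * a⁻¹)⁻¹ with hu2
    have hu1P : u1 ∈ Pp := ⟨P.mul_mem hr hr', hfix r hr⟩
    have hu2P : u2 ∈ Pm := ⟨P.mul_mem hr (P.inv_mem hr'), hinvt r hr⟩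
    have hd1 : d * u1 * d⁻¹ = u1 := by
      rcases hPpl u1 hu1P with h | h | h
      · rw [h]; group
      · rw [h]; exact hdx
      · rw [h]; exact hdxi
    have hd2 : d * u2 * d⁻¹ = u2 := by
      rcases hPml u2 hu2P with h | h | h
      · rw [h]; group
      · rw [h]; exact hdx'
      · rw [h]; exact hdx'i
    have hrr : r * r = u1 * u2 := by
      rw [hu1, hu2]
      symm
      calc r * (a * r * a⁻¹) * (r * (a * r * a⁻¹)⁻¹)
          = r * ((a * r * a⁻¹) * r) * (a * r * a⁻¹)⁻¹ := by group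
        _ = r * (r * (a * r * a⁻¹)) * (a * r * a⁻¹)⁻¹ := by rw [hab _ hr' r hr]
        _ = r * r := by group
    have hdrr : d * (r * r) * d⁻¹ = r * r := by
      rw [hrr]
      calc d * (u1 * u2) * d⁻¹ = (d * u1 * d⁻¹) * (d * u2 * d⁻¹) := by group
        _ = u1 * u2 := by rw [hd1, hd2]
    have hr4 : r = (r * r) * (r * r) := by
      have h3 := hexp r hr
      calc r = r ^ 3 * r := by rw [h3, one_mul]
        _ = (r * r) * (r * r) := by rw [pow_succ, pow_two]; simp only [mul_assoc]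
    calc d * r * d⁻¹ = (d * (r * r) * d⁻¹) * (d * (r * r) * d⁻¹) := by
          nth_rewrite 1 [hr4]; group
      _ = r := by rw [hdrr]; exact hr4.symm
  -- the action of `c`
  have hcx : c * x * c⁻¹ ∈ Pp := by
    refine ⟨hnorm c hcN x hxP, ?_⟩
    calc a * (c * x * c⁻¹) * a⁻¹ = (a * c) * x * (a * c)⁻¹ := by group
      _ = (c * a) * x * (c * a)⁻¹ := by rw [hac]
      _ = c * (a * x * a⁻¹) * c⁻¹ := by group
      _ = c * x * c⁻¹ := by rw [hax]
  have hcx' : c * x' * c⁻¹ ∈ Pm := by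
    refine ⟨hnorm c hcN x' hx'P, ?_⟩
    calc a * (c * x' * c⁻¹) * a⁻¹ = (a * c) * x' * (a * c)⁻¹ := by group
      _ = (c * a) * x' * (c * a)⁻¹ := by rw [hac]
      _ = c * (a * x' * a⁻¹) * c⁻¹ := by group
      _ = c * x'⁻¹ * c⁻¹ := by rw [hax']
      _ = (c * x' * c⁻¹)⁻¹ := by group
  have hcx1 : c * x * c⁻¹ ≠ 1 := by
    intro h
    apply hx1
    calc x = c⁻¹ * (c * x * c⁻¹) * c := by group
      _ = 1 := by rw [h]; group
  have hcx'1 : c * x' * c⁻¹ ≠ 1 := by
    intro h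
    apply hx'1
    calc x' = c⁻¹ * (c * x' * c⁻¹) * c := by group
      _ = 1 := by rw [h]; group
  have hcP : c ∉ P := fun h => hc1 (hTP c hcT h)
  have hacT : a * c ∈ T := T.mul_mem haT hcT
  have hacP : a * c ∉ P := by
    intro h
    have h1 := hTP (a * c) hacT h
    have h2 : a = c⁻¹ := eq_inv_of_mul_eq_one_left h1
    rw [hTinv c hcT] at h2
    exact hca h2.symm
  have hacx : ∀ y : G, (a * c) * y * (a * c)⁻¹ = a * (c * y * c⁻¹) * a⁻¹ := by
    intro y; group
  have haxi : a * x⁻¹ * a⁻¹ = x⁻¹ := by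
    calc a * x⁻¹ * a⁻¹ = (a * x * a⁻¹)⁻¹ := by group
      _ = x⁻¹ := by rw [hax]
  have hax'i : a * x'⁻¹ * a⁻¹ = x' := by
    calc a * x'⁻¹ * a⁻¹ = (a * x' * a⁻¹)⁻¹ := by group
      _ = x' := by rw [hax', inv_inv]
  rcases hPpl _ hcx with h | h | h
  · exact absurd h hcx1
  · -- `c` fixes `x`
    rcases hPml _ hcx' with h' | h' | h'
    · exact absurd h' hcx'1
    · exact absurd (hcent c (hL c h h')) hcP
    · exfalso
      apply hacP
      apply hcent
      apply hL (a * c)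
      · rw [hacx, h, hax]
      · rw [hacx, h', hax'i]
  · -- `c` inverts `x`
    rcases hPml _ hcx' with h' | h' | h'
    · exact absurd h' hcx'1
    · exact ⟨x, x', a, c, hxP, hx'P, hx1, hx'1, haN, hcN, haa, hcc, hax, hax', h, h'⟩
    · refine ⟨x, x', a, a * c, hxP, hx'P, hx1, hx'1, haN, N.mul_mem haN hcN, haa, ?_, hax, hax',
        ?_, ?_⟩
      · calc a * c * (a * c) = a * (c * a) * c := by group
          _ = a * (a * c) * c := by rw [hac]
          _ = (a * a) * (c * c) := by group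
          _ = 1 := by rw [haa, hcc, one_mul]
      · rw [hacx, h, haxi]
      · rw [hacx, h', hax'i]

end Cfsg.Agent.Helper79.O2520
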