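import Mathlib
import Cfsg.Agent.Lib.Helper40.OPF.Defs
import Cfsg.Agent.Lib.Helper5.OrthLag8
import Cfsg.Agent.Lib.Helper23.GFC

/-!
# OPF (SQ), core: a class-preserving `F₀`-similarity with square multiplier induces an inner
automorphism of `PΩ⁺(F)`, with piece (SO) as a hypothesis.
-/

set_option autoImplicit false
set_option linter.unusedSectionVars false
set_option linter.unusedVariables false

namespace Cfsg.Agent.Helper79.OPF

open Matrix QuadraticMap Cfsg.Agent.Helper5.OrthAut Cfsg.Agent.Helper40.AutPOm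
  Cfsg.Agent.Helper40.OrthEven Cfsg.Agent.Helper43 Cfsg.Agent.Helper40.OPF

variable {F₀ : Type*} [Field F₀] [Fintype F₀] {F : Type*} [Field F] [Fintype F]

theorem h79_ThetaP_mem_inn_of_sq_core (emb : F₀ →+* F) (h2 : (2 : F) ≠ 0)
    {m : ℕ} (hm : 3 ≤ m)
    (hperf : commutator ↥(Cfsg.Omega F ⇑(stdPlus F m)) = ⊤)
    (hcent : ∀ Z : Matrix (Fin m ⊕ Fin m) (Fin m ⊕ Fin m) F,
      (∀ s : ↥(Cfsg.Omega F ⇑(stdPlus F m)),
        Z * omat (⇑(stdPlus F m)) s = omat (⇑(stdPlus F m)) s * Z) →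
      ∃ c : F, Z = c • (1 : Matrix (Fin m ⊕ Fin m) (Fin m ⊕ Fin m) F))
    (g : ↥(GO (stdPlus F₀ m)))
    (hpres : Cfsg.PreservesSingularClasses (⇑(stdPlus F₀ m))
      ((g : GL (Fin m ⊕ Fin m) F₀) : Matrix (Fin m ⊕ Fin m) (Fin m ⊕ Fin m) F₀))
    (hmul : IsSquare ((mult (stdPlus F₀ m) g : F₀ˣ) : F₀))
    (hSO : ∀ s₀ : GL (Fin m ⊕ Fin m) F₀, s₀ ∈ SOG (stdPlus F₀ m) →
      Matrix.GeneralLinearGroup.map emb s₀ ∈ OmGL (⇑(stdPlus F m))) :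
    ThetaP m emb g ∈ Cfsg.Inn (Cfsg.POmega F ⇑(stdPlus F m)) := by
  classical
  have h2₀ : (2 : F₀) ≠ 0 := two_ne_zero_of_emb emb h2
  have hQ0₀ := Cfsg.Agent.Helper23.GF.gfc_exists_ne_zero (F := F₀) (m := m) (by omega)
  obtain ⟨d, hd⟩ := hmul
  have hd0 : d ≠ 0 := by
    rintro rfl
    rw [mul_zero] at hd
    exact (Units.ne_zero _) hd
  set c₀ : F₀ˣ := Units.mk0 d hd0 with hc₀
  set s₀ : GL (Fin m ⊕ Fin m) F₀ := (sclHom c₀)⁻¹ * (g : GL (Fin m ⊕ Fin m) F₀) with hs₀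
  have hgs : (g : GL (Fin m ⊕ Fin m) F₀) = sclHom c₀ * s₀ := by
    rw [hs₀]; group
  have hs₀coe : ((s₀ : GL (Fin m ⊕ Fin m) F₀) : Matrix (Fin m ⊕ Fin m) (Fin m ⊕ Fin m) F₀) =
      d⁻¹ • gmat (stdPlus F₀ m) g := by
    rw [hs₀, ← map_inv, Units.val_mul, sclHom_coe, Matrix.smul_mul, Matrix.one_mul]
    rfl
  have hs₀O : s₀ ∈ Cfsg.isometryGroup F₀ ⇑(stdPlus F₀ m) := by
    rw [mem_iso_iff]
    intro u
    rw [hs₀coe, Matrix.smul_mulVec, QuadraticMap.map_smul, mult_spec, hd, smul_eq_mul]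
    field_simp
  have hdetg : (gmat (stdPlus F₀ m) g).det = (d * d) ^ m := by
    have h1 := (preserves_iff_dHom_plus m h2₀ hQ0₀ g.1 g.2).1 hpres
    have h3 := dHom_coe (stdPlus F₀ m) hQ0₀ (k := m) ⟨g.1, g.2⟩
    rw [h1, Units.val_one] at h3
    have h4 : ((mult (stdPlus F₀ m) ⟨g.1, g.2⟩ : F₀ˣ) : F₀) = d * d := hd
    rw [h4] at h3
    have hne : (d * d) ^ m ≠ 0 := pow_ne_zero _ (mul_ne_zero hd0 hd0)
    have h5 : gmat (stdPlus F₀ m) ⟨g.1, g.2⟩ = gmat (stdPlus F₀ m) g := rfl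
    rw [h5] at h3
    field_simp at h3
    rw [← h3]
    ring
  have hs₀det : ((s₀ : GL (Fin m ⊕ Fin m) F₀) :
      Matrix (Fin m ⊕ Fin m) (Fin m ⊕ Fin m) F₀).det = 1 := by
    rw [hs₀coe, Matrix.det_smul, hdetg]
    have hcard : Fintype.card (Fin m ⊕ Fin m) = 2 * m := by simp; ring
    rw [hcard, pow_mul, ← mul_pow]
    have : d⁻¹ ^ 2 * (d * d) = 1 := by
      field_simp
    rw [this, one_pow]
  have hs₀S : s₀ ∈ SOG (stdPlus F₀ m) := (mem_SOG_iff _ _).2 ⟨hs₀O, hs₀det⟩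
  set s : GL (Fin m ⊕ Fin m) F := Matrix.GeneralLinearGroup.map emb s₀ with hs
  have hsOm : s ∈ OmGL (⇑(stdPlus F m)) := hSO s₀ hs₀S
  have hsGO : s ∈ GO (stdPlus F m) := iso_le_sim _ (OmGL_le_iso _ hsOm)
  have hdecomp : ((Cfsg.Agent.Helper5.OMF.embGO' (isBC_stdPlus m emb) g : ↥(GO (stdPlus F m))) :
      GL (Fin m ⊕ Fin m) F) = sclHom (Units.map (emb : F₀ →* F) c₀) * s := by
    rw [ThetaP_val, hgs, map_mul]
    congr 1
    apply Units.ext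
    ext i j
    show emb (((sclHom c₀ : GL (Fin m ⊕ Fin m) F₀) :
      Matrix (Fin m ⊕ Fin m) (Fin m ⊕ Fin m) F₀) i j) = _
    rw [sclHom_coe, sclHom_coe, Matrix.smul_apply, Matrix.smul_apply, smul_eq_mul, smul_eq_mul,
      map_mul]
    by_cases hij : i = j
    · rw [hij, Matrix.one_apply_eq, Matrix.one_apply_eq, map_one]
      rfl
    · rw [Matrix.one_apply_ne hij, Matrix.one_apply_ne hij, map_zero, mul_zero, mul_zero]
  rw [ThetaP_apply, PhiGO_eq_of_scl (stdPlus F m) hperf hcent _ _ s hsGO hdecomp, inn_eq]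
  exact ⟨⟨s, sim_le_NO _ hsGO⟩, Subgroup.mem_subgroupOf.2 hsOm, rfl⟩

end Cfsg.Agent.Helper79.OPF
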