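import Mathlib
import Cfsg.Agent.Lib.Helper40.OPF.Defs
import Cfsg.Agent.Lib.Helper40.OPFSO
import Cfsg.Agent.Lib.Helper79.OPFSQcore

/-!
# OPF (SQ): a class-preserving `F₀`-similarity with square multiplier induces an inner
automorphism of `PΩ⁺(F)` when every element of `F₀` is a square in `F`.
-/

set_option autoImplicit false
set_option linter.unusedSectionVars false
set_option linter.unusedVariables false

namespace Cfsg.Agent.Helper79.OPF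

open Matrix QuadraticMap Cfsg.Agent.Helper5.OrthAut Cfsg.Agent.Helper40.AutPOm
  Cfsg.Agent.Helper40.OrthEven Cfsg.Agent.Helper43 Cfsg.Agent.Helper40.OPF

variable {F₀ : Type*} [Field F₀] [Fintype F₀] {F : Type*} [Field F] [Fintype F]

/-- piece SQ -/
theorem ThetaP_mem_inn_of_sq (emb : F₀ →+* F) (hsq : ∀ a : F₀, IsSquare (emb a)) (h2 : (2 : F) ≠ 0)
    {m : ℕ} (hm : 3 ≤ m)
    (hperf : commutator ↥(Cfsg.Omega F ⇑(stdPlus F m)) = ⊤)
    (hcent : ∀ Z : Matrix (Fin m ⊕ Fin m) (Fin m ⊕ Fin m) F,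
      (∀ s : ↥(Cfsg.Omega F ⇑(stdPlus F m)),
        Z * omat (⇑(stdPlus F m)) s = omat (⇑(stdPlus F m)) s * Z) →
      ∃ c : F, Z = c • (1 : Matrix (Fin m ⊕ Fin m) (Fin m ⊕ Fin m) F))
    (g : ↥(GO (stdPlus F₀ m)))
    (hpres : Cfsg.PreservesSingularClasses (⇑(stdPlus F₀ m))
      ((g : GL (Fin m ⊕ Fin m) F₀) : Matrix (Fin m ⊕ Fin m) (Fin m ⊕ Fin m) F₀))
    (hmul : IsSquare ((mult (stdPlus F₀ m) g : F₀ˣ) : F₀)) :
    ThetaP m emb g ∈ Cfsg.Inn (Cfsg.POmega F ⇑(stdPlus F m)) :=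
  h79_ThetaP_mem_inn_of_sq_core emb h2 hm hperf hcent g hpres hmul
    (fun s₀ hs₀ => Cfsg.Agent.Helper40.OPF.emb_SO_mem_Omega emb hsq h2 hm s₀ hs₀)

end Cfsg.Agent.Helper79.OPF
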