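import Mathlib
import Cfsg.Agent.Lib.Helper79.OSPDefs
import Cfsg.Agent.Lib.Helper12.OSPB2
import Cfsg.Agent.Lib.Helper90.OSPSGN
import Cfsg.Agent.Lib.Helper66.OSPFLD
import Cfsg.Agent.Lib.Helper50.OSPB1a
import Cfsg.Agent.Lib.Helper41.OSPB1b

/-!
# S2720 (helper79): glue for the lemma server "OSP" (abstract part)
-/

set_option autoImplicit false

namespace Cfsg.Agent.Helper79.OSP

open QuadraticMap

variable {F : Type*} [Field F] {V : Type*} [AddCommGroup V] [Module F V]

theorem polar_map_of_isom (Q : QuadraticForm F V) (t : V →ₗ[F] V) (ht : ∀ v, Q (t v) = Q v)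
    (x y : V) : polar Q (t x) (t y) = polar Q x y := by
  unfold polar
  rw [← map_add, ht, ht, ht]

/-- orthogonal complement with respect to the polar form -/
def perp (Q : QuadraticForm F V) (W : Submodule F V) : Submodule F V where
  carrier := {v | ∀ w ∈ W, polar Q w v = 0}
  add_mem' := by
    intro a b ha hb w hw
    rw [polar_add_right, ha w hw, hb w hw, add_zero]
  zero_mem' := by
    intro w _
    exact polar_zero_right Q w
  smul_mem' := by
    intro c a ha w hw
    rw [polar_smul_right, ha w hw, smul_zero]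

theorem mem_perp (Q : QuadraticForm F V) (W : Submodule F V) (v : V) :
    v ∈ perp Q W ↔ ∀ w ∈ W, polar Q w v = 0 := Iff.rfl

theorem injective_of_pow_eq_one (t : V →ₗ[F] V) (n : ℕ) (hn : n ≠ 0) (htn : t ^ n = 1) :
    Function.Injective t := by
  obtain ⟨m, rfl⟩ := Nat.exists_eq_succ_of_ne_zero hn
  intro x y hxy
  have h1 : (t ^ (m + 1)) x = (t ^ (m + 1)) y := by
    rw [pow_succ, Module.End.mul_apply, Module.End.mul_apply, hxy]
  rwa [htn] at h1

theorem surjOn_of_invariant [Finite V] (t : V →ₗ[F] V) (hinj : Function.Injective t)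
    (W : Submodule F V) (hWt : ∀ w ∈ W, t w ∈ W) : ∀ w ∈ W, ∃ w0 ∈ W, t w0 = w := by
  intro w hw
  have hinj' : Function.Injective (t.restrict hWt) := by
    intro a b hab
    apply Subtype.ext
    apply hinj
    exact congrArg Subtype.val hab
  have hsurj := Finite.surjective_of_injective hinj'
  obtain ⟨w0, hw0⟩ := hsurj ⟨w, hw⟩
  exact ⟨w0.1, w0.2, congrArg Subtype.val hw0⟩

theorem perp_invariant [Finite V] (Q : QuadraticForm F V) (t : V →ₗ[F] V)
    (ht : ∀ v, Q (t v) = Q v) (hinj : Function.Injective t)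
    (W : Submodule F V) (hWt : ∀ w ∈ W, t w ∈ W) : ∀ v ∈ perp Q W, t v ∈ perp Q W := by
  intro v hv w hw
  obtain ⟨w0, hw0, rfl⟩ := surjOn_of_invariant t hinj W hWt w hw
  rw [polar_map_of_isom Q t ht]
  exact hv w0 hw0

theorem perp_eq_orthogonal (Q : QuadraticForm F V) (W : Submodule F V) :
    perp Q W = LinearMap.BilinForm.orthogonal (polarBilin Q) W := by
  ext v
  rw [mem_perp, LinearMap.BilinForm.mem_orthogonal_iff]
  rfl

theorem isCompl_perp [Finite F] [Finite V] (Q : QuadraticForm F V) (W : Submodule F V)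
    (hW : ∀ w ∈ W, (∀ u ∈ W, polar Q u w = 0) → w = 0) : IsCompl W (perp Q W) := by
  have : Module.Finite F V := Module.Finite.of_finite
  rw [perp_eq_orthogonal]
  have hrefl : (polarBilin Q).IsRefl := by
    intro x y h
    show polar Q y x = 0
    rw [polar_comm]
    exact h
  apply LinearMap.BilinForm.isCompl_orthogonal_of_restrict_nondegenerate hrefl
  apply LinearMap.BilinForm.nondegenerate_restrict_of_disjoint_orthogonal _ hrefl
  rw [Submodule.disjoint_def]
  intro w hw hw'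
  apply hW w hw
  intro u hu
  exact (LinearMap.BilinForm.mem_orthogonal_iff.1 hw') u hu

/-- a minimal nonzero invariant subspace -/
theorem exists_minimal_invariant [Finite V] [Nontrivial V] (t : V →ₗ[F] V) :
    ∃ W1 : Submodule F V, W1 ≠ ⊥ ∧ (∀ w ∈ W1, t w ∈ W1) ∧
      ∀ U : Submodule F V, U ≤ W1 → (∀ u ∈ U, t u ∈ U) → U = ⊥ ∨ U = W1 := by
  have : Finite (Submodule F V) := Finite.of_injective (fun U : Submodule F V => (U : Set V))
    SetLike.coe_injective
  let S : Set (Submodule F V) := {U | U ≠ ⊥ ∧ ∀ u ∈ U, t u ∈ U}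
  have hS : S.Nonempty := ⟨⊤, top_ne_bot, fun _ _ => Submodule.mem_top⟩
  obtain ⟨W1, hW1, hmin⟩ := (wellFounded_lt (α := Submodule F V)).has_min S hS
  refine ⟨W1, hW1.1, hW1.2, ?_⟩
  intro U hU hUt
  by_cases hU0 : U = ⊥
  · exact Or.inl hU0
  · right
    by_contra hne
    exact hmin U ⟨hU0, hUt⟩ (lt_of_le_of_ne hU hne)

/-- from a block on the subspace `W` (with the restricted form and map) to a block of `V` -/
theorem block_of_restrict (Q : QuadraticForm F V) (t : V →ₗ[F] V) (W W' : Submodule F V)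
    (hc : IsCompl W W') (horth : ∀ w ∈ W, ∀ w' ∈ W', polar Q w w' = 0)
    (hWt : ∀ w ∈ W, t w ∈ W) (hW't : ∀ w ∈ W', t w ∈ W')
    (h : ∃ (s1 : ↥W ≃ₗ[F] ↥W) (N k : ℕ),
      (∀ w, (Q.comp W.subtype) (s1 w) = (Q.comp W.subtype) w) ∧
      (∀ w, s1 (t.restrict hWt w) = t.restrict hWt (s1 w)) ∧
      0 < N ∧ Even N ∧ Odd k ∧ s1 ^ N = 1 ∧ (∀ w, w ≠ 0 → ∀ j : ℕ, (s1 ^ j) w = w → N ∣ j) ∧
      Nat.card {w : ↥W // (Q.comp W.subtype) w = 1} = N * k) :
    Block Q t W W' := by
  obtain ⟨s1, N, k, hs1, hcomm, hN0, hN, hk, hs1N, hfree, hcount⟩ := h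
  set e := Submodule.prodEquivOfIsCompl W W' hc with he
  set s : V ≃ₗ[F] V := e.symm.trans ((s1.prodCongr (LinearEquiv.refl F ↥W')).trans e) with hs
  have hdec : ∀ v : V, ∃ w : ↥W, ∃ w' : ↥W', v = (w : V) + (w' : V) := by
    intro v
    refine ⟨(e.symm v).1, (e.symm v).2, ?_⟩
    have := e.apply_symm_apply v
    rw [he, Submodule.coe_prodEquivOfIsCompl'] at this
    exact this.symm
  have hsW : ∀ w : ↥W, s (w : V) = (s1 w : V) := by
    intro w
    rw [hs]
    simp only [LinearEquiv.trans_apply]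
    rw [he, Submodule.prodEquivOfIsCompl_symm_apply_left]
    simp [Submodule.coe_prodEquivOfIsCompl']
  have hsW' : ∀ w' : ↥W', s (w' : V) = (w' : V) := by
    intro w'
    rw [hs]
    simp only [LinearEquiv.trans_apply]
    rw [he, Submodule.prodEquivOfIsCompl_symm_apply_right]
    simp [Submodule.coe_prodEquivOfIsCompl']
  have hpowW : ∀ (j : ℕ) (w : ↥W), (s ^ j) (w : V) = ((s1 ^ j) w : V) := by
    intro j
    induction j with
    | zero => intro w; simp
    | succ j ih =>
      intro w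
      rw [pow_succ, pow_succ, LinearEquiv.mul_apply, LinearEquiv.mul_apply, hsW, ih]
  have hpowW' : ∀ (j : ℕ) (w' : ↥W'), (s ^ j) (w' : V) = (w' : V) := by
    intro j
    induction j with
    | zero => intro w; simp
    | succ j ih =>
      intro w
      rw [pow_succ, LinearEquiv.mul_apply, hsW', ih]
  have hQsum : ∀ (w : ↥W) (w' : ↥W'), Q ((w : V) + (w' : V)) = Q (w : V) + Q (w' : V) := by
    intro w w'
    have := horth w w.2 w' w'.2
    unfold polar at this
    linear_combination this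
  refine ⟨s, N, k, ?_, ?_, ?_, ?_, hN0, hN, hk, ?_, ?_, ?_⟩
  · intro v
    obtain ⟨w, w', rfl⟩ := hdec v
    rw [map_add, hsW, hsW', hQsum, hQsum]
    have := hs1 w
    rw [QuadraticMap.comp_apply, QuadraticMap.comp_apply] at this
    simp only [Submodule.subtype_apply] at this
    rw [this]
  · intro v
    obtain ⟨w, w', rfl⟩ := hdec v
    have h1 : t (w : V) = ((t.restrict hWt w : ↥W) : V) := rfl
    have h2 : t (w' : V) = ((t.restrict hW't w' : ↥W') : V) := rfl
    have h3 : s (t ((w : V) + (w' : V))) = ((s1 (t.restrict hWt w) : ↥W) : V) + t (w' : V) := by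
      rw [map_add, map_add, h1, h2, hsW, hsW']
    have h4 : t (s ((w : V) + (w' : V))) = t ((s1 w : ↥W) : V) + t (w' : V) := by
      rw [map_add, hsW, hsW', map_add]
    rw [h3, h4, hcomm]
    rfl
  · intro w hw
    have := hsW ⟨w, hw⟩
    simp only at this
    rw [this]
    exact (s1 ⟨w, hw⟩).2
  · intro w' hw'
    exact hsW' ⟨w', hw'⟩
  · apply LinearEquiv.ext
    intro v
    obtain ⟨w, w', rfl⟩ := hdec v
    rw [map_add, hpowW, hpowW', hs1N]
    simp
  · intro w hw hw0 j hj
    apply hfree ⟨w, hw⟩ (by intro h; apply hw0; exact congrArg Subtype.val h) j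
    apply Subtype.ext
    rw [← hpowW j ⟨w, hw⟩]
    exact hj
  · rw [← hcount]
    apply Nat.card_congr
    refine ⟨fun w => ⟨⟨w.1, w.2.1⟩, ?_⟩, fun w => ⟨w.1.1, w.1.2, ?_⟩, ?_, ?_⟩
    · rw [QuadraticMap.comp_apply]
      exact w.2.2
    · have := w.2
      rw [QuadraticMap.comp_apply] at this
      exact this
    · intro w; rfl
    · intro w; rfl


theorem polar_comp_subtype (Q : QuadraticForm F V) (W : Submodule F V) (x y : ↥W) :
    polar (Q.comp W.subtype) x y = polar Q (x : V) (y : V) := by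
  unfold polar
  simp only [QuadraticMap.comp_apply, Submodule.subtype_apply, Submodule.coe_add]

theorem pow_two_mul_apply_of_sq (t : V →ₗ[F] V) (W : Submodule F V)
    (h : ∀ w ∈ W, t (t w) = w) (m : ℕ) : ∀ w ∈ W, (t ^ (2 * m)) w = w := by
  induction m with
  | zero => intro w _; simp
  | succ m ih =>
    intro w hw
    have : 2 * (m + 1) = 2 * m + 1 + 1 := by ring
    rw [this, pow_succ, pow_succ, Module.End.mul_apply, Module.End.mul_apply, h w hw, ih w hw]

/-- the main abstract theorem: a block exists when `t` has no fixed vector -/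
theorem exists_block [Finite F] [Finite V] [Nontrivial V] (h2 : (2 : F) ≠ 0)
    (Q : QuadraticForm F V) (hnd : ∀ v, (∀ u, polar Q v u = 0) → v = 0) (t : V →ₗ[F] V)
    (ht : ∀ v, Q (t v) = Q v) (n : ℕ) (hodd : Odd n) (hn : (n : F) ≠ 0) (htn : t ^ n = 1)
    (hfix : ∀ v, t v = v → v = 0) :
    ∃ W W' : Submodule F V, IsCompl W W' ∧ (∀ w ∈ W, ∀ w' ∈ W', polar Q w w' = 0) ∧
      Block Q t W W' := by
  have hn0 : n ≠ 0 := by rintro rfl; simp at hn
  have hinj := injective_of_pow_eq_one t n hn0 htn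
  obtain ⟨W1, hW10, hW1t, hmin⟩ := exists_minimal_invariant t
  have hNT : Nontrivial ↥W1 := (Submodule.nontrivial_iff_ne_bot).2 hW10
  have hsimple : ∀ U : Submodule F ↥W1, (∀ u ∈ U, t.restrict hW1t u ∈ U) → U = ⊥ ∨ U = ⊤ := by
    intro U hU
    have h1 : U.map W1.subtype ≤ W1 := by
      rintro _ ⟨u, _, rfl⟩
      exact u.2
    have h2' : ∀ u ∈ U.map W1.subtype, t u ∈ U.map W1.subtype := by
      rintro _ ⟨u, hu, rfl⟩
      exact ⟨t.restrict hW1t u, hU u hu, rfl⟩
    rcases hmin _ h1 h2' with h | h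
    · left
      rw [eq_bot_iff]
      intro u hu
      have : (u : V) ∈ U.map W1.subtype := ⟨u, hu, rfl⟩
      rw [h, Submodule.mem_bot] at this
      rw [Submodule.mem_bot]
      exact Subtype.ext this
    · right
      rw [eq_top_iff]
      intro u _
      have : (u : V) ∈ U.map W1.subtype := by rw [h]; exact u.2
      obtain ⟨u', hu', hu'u⟩ := this
      have : u' = u := Subtype.ext hu'u
      rw [← this]; exact hu'
  obtain ⟨lam, hl1, hl2, hl3, hl4⟩ :=
    Cfsg.Agent.Helper66.OSP.exists_cyclic_centralizer (t.restrict hW1t) hsimple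
  -- the dichotomy
  have hRt : ∀ u ∈ W1 ⊓ perp Q W1, t u ∈ W1 ⊓ perp Q W1 := by
    intro u hu
    exact ⟨hW1t u hu.1, perp_invariant Q t ht hinj W1 hW1t u hu.2⟩
  rcases hmin _ inf_le_left hRt with hR | hR
  · -- nondegenerate case
    have hndW : ∀ w ∈ W1, (∀ u ∈ W1, polar Q u w = 0) → w = 0 := by
      intro w hw h
      have : w ∈ W1 ⊓ perp Q W1 := ⟨hw, h⟩
      rw [hR, Submodule.mem_bot] at this
      exact this
    have hc := isCompl_perp Q W1 hndW
    have horth : ∀ w ∈ W1, ∀ w' ∈ perp Q W1, polar Q w w' = 0 := fun w hw w' hw' => hw' w hw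
    refine ⟨W1, perp Q W1, hc, horth, ?_⟩
    apply block_of_restrict Q t W1 (perp Q W1) hc horth hW1t
      (perp_invariant Q t ht hinj W1 hW1t)
    apply Cfsg.Agent.Helper12.OSP.simple_nondeg_block h2 (Q.comp W1.subtype) ?_
      (t.restrict hW1t) ?_ ?_ lam hl1 hl2 hl3 hl4
    · intro w h
      apply Subtype.ext
      apply hndW w.1 w.2
      intro u hu
      have := h ⟨u, hu⟩
      rw [polar_comp_subtype, polar_comm] at this
      exact this
    · intro w
      rw [QuadraticMap.comp_apply, QuadraticMap.comp_apply]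
      exact ht _
    · by_contra hcon
      push Not at hcon
      obtain ⟨w, hw, hw0⟩ := (Submodule.ne_bot_iff W1).1 hW10
      have hsq : ∀ w ∈ W1, t (t w) = w := by
        intro w hw
        have := hcon ⟨w, hw⟩
        exact congrArg Subtype.val this
      obtain ⟨m, rfl⟩ := hodd
      have h1 : (t ^ (2 * m + 1)) w = w := by rw [htn]; rfl
      rw [pow_succ, Module.End.mul_apply, pow_two_mul_apply_of_sq t W1 hsq m _ (hW1t w hw)] at h1
      exact hw0 (hfix w h1)
  · -- totally isotropic case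
    have hiso : ∀ w ∈ W1, ∀ u ∈ W1, polar Q w u = 0 := by
      intro w hw u hu
      have : u ∈ W1 ⊓ perp Q W1 := by rw [hR]; exact hu
      exact this.2 w hw
    obtain ⟨W1', hW1't, hiso', hdisj, hp1, hp2⟩ :=
      Cfsg.Agent.Helper50.OSP.exists_isotropic_complement h2 Q hnd t ht n hn htn W1 hW1t hiso
    have hWt : ∀ w ∈ W1 ⊔ W1', t w ∈ W1 ⊔ W1' := by
      intro w hw
      obtain ⟨a, ha, b, hb, rfl⟩ := Submodule.mem_sup.1 hw
      rw [map_add]
      exact Submodule.add_mem _ (Submodule.mem_sup_left (hW1t a ha))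
        (Submodule.mem_sup_right (hW1't b hb))
    have hndW : ∀ w ∈ W1 ⊔ W1', (∀ u ∈ W1 ⊔ W1', polar Q u w = 0) → w = 0 := by
      intro w hw h
      obtain ⟨a, ha, b, hb, rfl⟩ := Submodule.mem_sup.1 hw
      have hb0 : b = 0 := by
        apply hp2 b hb
        intro w1 hw1
        have := h w1 (Submodule.mem_sup_left hw1)
        rw [polar_add_right, hiso w1 hw1 a ha, zero_add] at this
        exact this
      subst hb0
      have ha0 : a = 0 := by
        apply hp1 a ha
        intro u hu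
        have := h u (Submodule.mem_sup_right hu)
        rw [add_zero, polar_comm] at this
        exact this
      rw [ha0, add_zero]
    have hc := isCompl_perp Q (W1 ⊔ W1') hndW
    have horth : ∀ w ∈ W1 ⊔ W1', ∀ w' ∈ perp Q (W1 ⊔ W1'), polar Q w w' = 0 :=
      fun w hw w' hw' => hw' w hw
    refine ⟨W1 ⊔ W1', perp Q (W1 ⊔ W1'), hc, horth, ?_⟩
    exact Cfsg.Agent.Helper41.OSP.hyperbolic_block h2 Q t ht W1 W1' (perp Q (W1 ⊔ W1'))
      hW1t hW1't (perp_invariant Q t ht hinj _ hWt) hiso hiso' hdisj hc horth hp1 hp2 hW10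
      lam hl1 hl2 hl4


/-- passage to `V × F` with the form `Q x + τ²`, and the sign -/
theorem exists_odd_isometry [Finite F] [Finite V] [Nontrivial V] (h2 : (2 : F) ≠ 0)
    (Q : QuadraticForm F V) (hnd : ∀ v, (∀ u, polar Q v u = 0) → v = 0) (t : V →ₗ[F] V)
    (ht : ∀ v, Q (t v) = Q v) (n : ℕ) (hodd : Odd n) (hn : (n : F) ≠ 0) (htn : t ^ n = 1)
    (hfix : ∀ v, t v = v → v = 0) :
    ∃ s : V ≃ₗ[F] V, (∀ v, Q (s v) = Q v) ∧ (∀ v, s (t v) = t (s v)) ∧
      ∀ [Fintype {p : V × F // (Q.prod QuadraticMap.sq) p = 1}]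
        [DecidableEq {p : V × F // (Q.prod QuadraticMap.sq) p = 1}]
        (σ : Equiv.Perm {p : V × F // (Q.prod QuadraticMap.sq) p = 1}),
        (∀ p, ((σ p : {p : V × F // (Q.prod QuadraticMap.sq) p = 1}) : V × F) =
          (s p.1.1, p.1.2)) → Equiv.Perm.sign σ = -1 := by
  obtain ⟨W, W', hc, horth, s, N, k, hs, hst, hsW, hsW', hN0, hN, hk, hsN, hfree, hcount⟩ :=
    exists_block h2 Q hnd t ht n hodd hn htn hfix
  refine ⟨s, hs, hst, ?_⟩
  intro _ _ σ hσ
  set sx : (V × F) ≃ₗ[F] (V × F) := s.prodCongr (LinearEquiv.refl F F) with hsx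
  have hpow : ∀ (j : ℕ) (p : V × F), (sx ^ j) p = ((s ^ j) p.1, p.2) := by
    intro j
    induction j with
    | zero => intro p; simp
    | succ j ih =>
      intro p
      rw [pow_succ, pow_succ, LinearEquiv.mul_apply, LinearEquiv.mul_apply]
      rw [show sx p = (s p.1, p.2) from rfl, ih]
  have hcx : IsCompl (W.prod (⊥ : Submodule F F)) (W'.prod (⊤ : Submodule F F)) := by
    constructor
    · rw [disjoint_iff, Submodule.prod_inf_prod, hc.inf_eq_bot, bot_inf_eq, Submodule.prod_bot]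
    · rw [codisjoint_iff, Submodule.prod_sup_prod, hc.sup_eq_top, bot_sup_eq, Submodule.prod_top]
  apply Cfsg.Agent.Helper90.OSP.sign_eq_neg_one (V := V × F) h2 (Q.prod QuadraticMap.sq)
    (W.prod ⊥) (W'.prod ⊤) hcx ?_ sx N k ?_ ?_ ?_ hN0 hN hk ?_ ?_ ?_ σ ?_
  · rintro ⟨w, a⟩ ⟨hw, ha⟩ ⟨w', a'⟩ ⟨hw', _⟩
    have ha' : a = 0 := (Submodule.mem_bot F).1 ha
    subst ha'
    have h1 := horth w hw w' hw'
    unfold polar at h1 ⊢
    simp only [QuadraticMap.prod_apply, Prod.fst_add, Prod.snd_add, QuadraticMap.sq_apply,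
      zero_add, mul_zero]
    linear_combination h1
  · rintro ⟨v, a⟩
    show (Q.prod QuadraticMap.sq) (s v, a) = _
    rw [QuadraticMap.prod_apply, QuadraticMap.prod_apply, hs]
  · rintro ⟨w, a⟩ ⟨hw, ha⟩
    exact ⟨hsW w hw, ha⟩
  · rintro ⟨w', a⟩ ⟨hw', _⟩
    show (s w', a) = (w', a)
    rw [hsW' w' hw']
  · apply LinearEquiv.ext
    intro p
    rw [hpow, hsN]
    rfl
  · rintro ⟨w, a⟩ ⟨hw, ha⟩ hne j hj
    have ha' : a = 0 := (Submodule.mem_bot F).1 ha
    subst ha'
    rw [hpow] at hj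
    apply hfree w hw _ j (congrArg Prod.fst hj)
    rintro rfl
    exact hne rfl
  · rw [← hcount]
    apply Nat.card_congr
    refine ⟨fun p => ⟨p.1.1, p.2.1.1, ?_⟩, fun w => ⟨(w.1, 0), ⟨w.2.1, Submodule.mem_bot F |>.2 rfl⟩, ?_⟩,
      ?_, ?_⟩
    · have h1 := p.2.2
      have h3 : p.1.2 = 0 := (Submodule.mem_bot F).1 p.2.1.2
      rw [QuadraticMap.prod_apply, h3, QuadraticMap.sq_apply, mul_zero, add_zero] at h1
      exact h1
    · rw [QuadraticMap.prod_apply, QuadraticMap.sq_apply, mul_zero, add_zero]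
      exact w.2.2
    · rintro ⟨⟨v, a⟩, ⟨hv, ha⟩, hq⟩
      have ha' : a = 0 := (Submodule.mem_bot F).1 ha
      subst ha'
      rfl
    · intro w; rfl
  · intro p
    rw [hσ p]
    rfl

end Cfsg.Agent.Helper79.OSP
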