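import Mathlib
import Cfsg.Agent.Lib.Helper79.OSPGlue
import Cfsg.Agent.Lib.Helper43.SpinorNorm
import Cfsg.Agent.Lib.Helper5.OrthAut

/-!
# S2720 (helper79): bridge from the abstract theorem to matrices and helper43's `theta`
-/

set_option autoImplicit false

namespace Cfsg.Agent.Helper79.OSP

open Matrix QuadraticMap Cfsg.Agent.Helper43 Cfsg.Agent.Helper5.OrthAut

variable {F : Type*} [Field F] [Fintype F] [DecidableEq F] {ι : Type} [Fintype ι] [DecidableEq ι]

/-- a semisimple isometry of odd order without nonzero fixed vectors commutes with an isometry of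
spinor character `-1` -/
theorem exists_theta_neg_of_no_fixed [Nonempty ι] (h2 : (2 : F) ≠ 0)
    (Q : QuadraticForm F (ι → F)) (hQ : (polarBilin Q).Nondegenerate)
    (t : GL ι F) (ht : t ∈ Cfsg.isometryGroup F ⇑Q) (n : ℕ) (hodd : Odd n) (hn : (n : F) ≠ 0)
    (htn : t ^ n = 1) (hfix : ∀ v : ι → F, (t : Matrix ι ι F) *ᵥ v = v → v = 0) :
    ∃ (g : GL ι F) (hg : g ∈ Cfsg.isometryGroup F ⇑Q), g * t = t * g ∧
      theta Q ⟨g, hg⟩ = -1 := by
  have hNT : Nontrivial (ι → F) := inferInstance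
  set tL : (ι → F) →ₗ[F] (ι → F) := Matrix.toLin' (t : Matrix ι ι F) with htL
  have htL' : ∀ v, tL v = (t : Matrix ι ι F) *ᵥ v := fun v => Matrix.toLin'_apply _ v
  have htiso : ∀ v, Q (tL v) = Q v := by
    intro v
    rw [htL']
    exact (mem_iso_iff (⇑Q) t).1 ht v
  have htLn : tL ^ n = 1 := by
    rw [htL, ← Matrix.toLin'_pow, ← Units.val_pow_eq_pow_val, htn, Units.val_one, Matrix.toLin'_one]
    rfl
  obtain ⟨s, hs, hst, hsign⟩ := exists_odd_isometry h2 Q (fun v h => hQ.1 v h) tL htiso n hodd hn htLn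
    (fun v hv => hfix v (by rw [← htL']; exact hv))
  -- the matrix of `s`
  have h1 : LinearMap.toMatrix' (s : (ι → F) →ₗ[F] (ι → F)) *
      LinearMap.toMatrix' (s.symm : (ι → F) →ₗ[F] (ι → F)) = 1 := by
    rw [← LinearMap.toMatrix'_comp]
    have : (s : (ι → F) →ₗ[F] (ι → F)) ∘ₗ (s.symm : (ι → F) →ₗ[F] (ι → F)) = LinearMap.id := by
      ext v : 1
      simp
    rw [this, LinearMap.toMatrix'_id]
  have h1' : LinearMap.toMatrix' (s.symm : (ι → F) →ₗ[F] (ι → F)) *
      LinearMap.toMatrix' (s : (ι → F) →ₗ[F] (ι → F)) = 1 := by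
    rw [← LinearMap.toMatrix'_comp]
    have : (s.symm : (ι → F) →ₗ[F] (ι → F)) ∘ₗ (s : (ι → F) →ₗ[F] (ι → F)) = LinearMap.id := by
      ext v : 1
      simp
    rw [this, LinearMap.toMatrix'_id]
  set g : GL ι F := ⟨LinearMap.toMatrix' (s : (ι → F) →ₗ[F] (ι → F)),
    LinearMap.toMatrix' (s.symm : (ι → F) →ₗ[F] (ι → F)), h1, h1'⟩ with hg
  have hgv : ∀ v : ι → F, (g : Matrix ι ι F) *ᵥ v = s v := by
    intro v
    show LinearMap.toMatrix' (s : (ι → F) →ₗ[F] (ι → F)) *ᵥ v = _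
    rw [LinearMap.toMatrix'_mulVec]
    rfl
  have hgiso : g ∈ Cfsg.isometryGroup F ⇑Q := by
    rw [mem_iso_iff]
    intro v
    rw [hgv, hs]
  refine ⟨g, hgiso, ?_, ?_⟩
  · apply Units.ext
    rw [Units.val_mul, Units.val_mul]
    apply Matrix.toLin'.injective
    apply LinearMap.ext
    intro v
    rw [Matrix.toLin'_mul, Matrix.toLin'_mul, LinearMap.comp_apply, LinearMap.comp_apply,
      Matrix.toLin'_apply, Matrix.toLin'_apply, Matrix.toLin'_apply, Matrix.toLin'_apply,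
      hgv, hgv, ← htL', ← htL', hst]
  · show Equiv.Perm.sign (lvlHom Q ⟨g, hgiso⟩) = -1
    apply hsign (lvlPerm Q ⟨g, hgiso⟩)
    intro p
    apply Prod.ext
    · exact hgv _
    · rfl

end Cfsg.Agent.Helper79.OSP
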