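import Mathlib
import Cfsg.Agent.Lib.Helper79.OSPMat
import Cfsg.Agent.Lib.Helper13.OSSMain
import Cfsg.Agent.Lib.Helper5.OrthLag8

/-!
# S2720 (helper79): class fusion of semisimple elements of odd prime order in `PΩ⁺_{2m}(q)`
-/

set_option autoImplicit false
set_option linter.unusedSectionVars false

namespace Cfsg.Agent.Helper79.OSP

open Matrix QuadraticMap Cfsg.Agent.Helper5.OrthAut Cfsg.Agent.Helper43 Cfsg.Agent.Helper13.OSS

section abstract

theorem klein_cases (a b : Multiplicative (ZMod 2 × ZMod 2)) (ha : a ≠ 1) (hb : b ≠ 1)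
    (hab : a ≠ b) (z : Multiplicative (ZMod 2 × ZMod 2)) :
    z = 1 ∨ z = a ∨ z = b ∨ z = a * b := by
  have h : ∀ a b z : ZMod 2 × ZMod 2, a = 0 ∨ b = 0 ∨ a = b ∨
      z = 0 ∨ z = a ∨ z = b ∨ z = a + b := by decide
  have h1 := h (Multiplicative.toAdd a) (Multiplicative.toAdd b) (Multiplicative.toAdd z)
  rcases h1 with h1 | h1 | h1 | h1 | h1 | h1 | h1
  · exact absurd (Multiplicative.toAdd.injective h1) ha
  · exact absurd (Multiplicative.toAdd.injective h1) hb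
  · exact absurd (Multiplicative.toAdd.injective h1) hab
  · exact Or.inl (Multiplicative.toAdd.injective h1)
  · exact Or.inr (Or.inl (Multiplicative.toAdd.injective h1))
  · exact Or.inr (Or.inr (Or.inl (Multiplicative.toAdd.injective h1)))
  · exact Or.inr (Or.inr (Or.inr (Multiplicative.toAdd.injective h1)))

/-- if `D / I` is a four-group and `c, s ∈ D` commute with `x` and generate `D` modulo `I`, then
`D`-conjugacy of `x` is `I`-conjugacy -/
theorem conj_of_klein {A : Type*} [Group A] (I D : Subgroup A)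
    (φ : ↥D →* Multiplicative (ZMod 2 × ZMod 2)) (hker : φ.ker = I.subgroupOf D)
    (c s : A) (hc : c ∈ D) (hs : s ∈ D) (hcI : c ∉ I) (hsI : s ∉ I) (hcs : c * s⁻¹ ∉ I)
    (x : A) (hcx : c * x = x * c) (hsx : s * x = x * s) (y : A)
    (hy : Cfsg.IsConjUnder D x y) : Cfsg.IsConjUnder I x y := by
  obtain ⟨h, hh, rfl⟩ := hy
  have hmem : ∀ d : ↥D, φ d = 1 ↔ (d : A) ∈ I := by
    intro d
    rw [← MonoidHom.mem_ker, hker, Subgroup.mem_subgroupOf]
  have hφc : φ ⟨c, hc⟩ ≠ 1 := fun h1 => hcI ((hmem _).1 h1)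
  have hφs : φ ⟨s, hs⟩ ≠ 1 := fun h1 => hsI ((hmem _).1 h1)
  have hφcs : φ ⟨c, hc⟩ ≠ φ ⟨s, hs⟩ := by
    intro h1
    apply hcs
    have : φ (⟨c, hc⟩ * ⟨s, hs⟩⁻¹) = 1 := by rw [map_mul, map_inv, h1, mul_inv_cancel]
    exact (hmem _).1 this
  -- a general reduction: if `h w⁻¹ ∈ I` with `w` commuting with `x`
  have key : ∀ (w : A) (hw : w ∈ D), w * x = x * w → φ ⟨h, hh⟩ = φ ⟨w, hw⟩ →
      Cfsg.IsConjUnder I (x) (h * x * h⁻¹) := by
    intro w hw hwx hφ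
    have h1 : φ (⟨h, hh⟩ * ⟨w, hw⟩⁻¹) = 1 := by rw [map_mul, map_inv, hφ, mul_inv_cancel]
    have h1' : h * w⁻¹ ∈ I := (hmem _).1 h1
    refine ⟨h * w⁻¹, h1', ?_⟩
    have : w⁻¹ * x * w = x := by
      rw [mul_assoc, ← hwx, ← mul_assoc, inv_mul_cancel, one_mul]
    calc h * x * h⁻¹ = h * (w⁻¹ * x * w) * h⁻¹ := by rw [this]
      _ = h * w⁻¹ * x * (h * w⁻¹)⁻¹ := by group
  rcases klein_cases _ _ hφc hφs hφcs (φ ⟨h, hh⟩) with h1 | h1 | h1 | h1
  · apply key 1 (one_mem _) (by simp)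
    rw [h1]
    exact (map_one φ).symm
  · exact key c hc hcx h1
  · exact key s hs hsx h1
  · apply key (c * s) (mul_mem hc hs) ?_ ?_
    · rw [mul_assoc, hsx, ← mul_assoc, hcx, mul_assoc]
    · rw [h1, ← map_mul]
      rfl

end abstract

section main

variable {F : Type*} [Field F] [Fintype F] [DecidableEq F] {ι : Type} [Fintype ι] [DecidableEq ι]
  (Q : QuadraticForm F (ι → F))
  (hperf : commutator ↥(Cfsg.Omega F ⇑Q) = ⊤)
  (hcent : ∀ Z : Matrix ι ι F, (∀ s : ↥(Cfsg.Omega F ⇑Q), Z * omat (⇑Q) s = omat (⇑Q) s * Z) →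
    ∃ c : F, Z = c • (1 : Matrix ι ι F))
  (hQ0 : ∃ v : ι → F, Q v ≠ 0)

include hperf hcent hQ0 in
/-- the key lemma: a semisimple isometry of odd prime order commutes with an element of `SO ∖ Ω` -/
theorem exists_commuting_not_inn {p : ℕ} [Fact p.Prime] [CharP F p] (hp : p ≠ 2)
    (hQ : (polarBilin Q).Nondegenerate) (k : ℕ) (hcard : Fintype.card ι = 2 * k)
    (hneg : ∃ g : ↥(Cfsg.isometryGroup F ⇑Q), g ∈ Cfsg.Omega F ⇑Q ∧
        ((g : GL ι F) : Matrix ι ι F) = -1)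
    (t : GL ι F) (ht : t ∈ Cfsg.isometryGroup F ⇑Q) (r : ℕ) (hr : r.Prime) (hro : Odd r)
    (hrp : r ≠ p) (htr : t ^ r = 1)
    (g : GL ι F) (hg : g ∈ GO Q) (hgt : g * t = t * g)
    (hns : ¬ IsSquare ((mult Q ⟨g, hg⟩ : Fˣ) : F)) :
    ∃ (s : GL ι F) (hs : s ∈ SOG Q), s * t = t * s ∧
      Phi (⇑Q) ⟨s, Subgroup.le_normalizer (SOG_le_OG Q hs)⟩ ∉ Cfsg.Inn (Cfsg.POmega F ⇑Q) := by
  classical
  have h2 : (2 : F) ≠ 0 := by
    intro h
    have h3 : ((2 : ℕ) : F) = 0 := by exact_mod_cast h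
    rw [CharP.cast_eq_zero_iff F p] at h3
    exact hp ((Nat.prime_dvd_prime_iff_eq (Fact.out) Nat.prime_two).1 h3)
  have hrF : (r : F) ≠ 0 := by
    intro h
    rw [CharP.cast_eq_zero_iff F p] at h
    exact hrp ((Nat.prime_dvd_prime_iff_eq (Fact.out) hr).1 h).symm
  obtain ⟨v00, hv00⟩ := hQ0
  have hn2 : 2 ≤ Fintype.card ι := by
    rcases Nat.eq_zero_or_pos k with rfl | hk
    · exfalso
      rw [mul_zero, Fintype.card_eq_zero_iff] at hcard
      apply hv00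
      have : v00 = 0 := Subsingleton.elim _ _
      rw [this, QuadraticMap.map_zero]
    · omega
  by_cases hfix : ∀ v : ι → F, (t : Matrix ι ι F) *ᵥ v = v → v = 0
  · -- no fixed vector
    have hne : Nonempty ι := by
      rw [← Fintype.card_pos_iff]; omega
    obtain ⟨s, hs, hst, hθ⟩ := exists_theta_neg_of_no_fixed h2 Q hQ t ht r hro hrF htr hfix
    obtain ⟨β, hA, hnd, hβ⟩ := Cfsg.Agent.Helper50.OSS.exists_alt_form Q hQ h2 t ht r hro htr hfix
    have hdet := Cfsg.Agent.Helper91.OSS.det_of_alt_sim β hA hnd k hcard (s : Matrix ι ι F) 1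
      one_ne_zero (hβ s 1 hst (fun v => by rw [one_mul]; exact (mem_iso_iff (⇑Q) s).1 hs v))
    rw [one_pow] at hdet
    have hsSO : s ∈ SOG Q := (mem_SOG_iff Q s).2 ⟨hs, hdet⟩
    refine ⟨s, hsSO, hst, ?_⟩
    intro hinn
    have hOm := mem_OmGL_of_Phi_mem_inn Q hperf hcent ⟨v00, hv00⟩ hneg s hs hinn
    obtain ⟨w, hw⟩ := (mem_OmGL (⇑Q) _).1 hOm
    have hw' : (w : ↥(Cfsg.isometryGroup F ⇑Q)) = ⟨s, hs⟩ := Subtype.ext hw
    have hθ1 : theta Q (w : ↥(Cfsg.isometryGroup F ⇑Q)) = 1 :=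
      MonoidHom.mem_ker.1 (Abelianization.commutator_subset_ker (theta Q) w.2)
    rw [hw', hθ] at hθ1
    exact absurd hθ1 (by decide)
  · -- a fixed vector
    push Not at hfix
    obtain ⟨v₀, hv₀fix, hv₀⟩ := hfix
    obtain ⟨v, hv, hvfix, hvcomm⟩ :=
      Cfsg.Agent.Helper13.OSSP4.exists_fixed_refl Q hQ t ht r hrF htr v₀ hv₀ hv₀fix
    have hu : Q ((g : Matrix ι ι F) *ᵥ v) ≠ 0 := Q_sim_ne_zero Q g hg v hv
    have hns' := not_isSquare_Q_mul Q g hg hns v hv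
    have hconj := sim_conj_refl Q ⟨g, hg⟩ v hv hu
    have hρt : rGL Q hv * t = t * rGL Q hv := by
      apply Units.ext
      show Cfsg.reflectionMatrix (⇑Q) v * (t : Matrix ι ι F) =
        (t : Matrix ι ι F) * Cfsg.reflectionMatrix (⇑Q) v
      exact hvcomm
    have hρ't : rGL Q hu * t = t * rGL Q hu := by
      have e : rGL Q hu = g * rGL Q hv * g⁻¹ := hconj.symm
      have hgi : g⁻¹ * t = t * g⁻¹ := (Commute.inv_left (show Commute g t from hgt)).eq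
      rw [e]
      calc g * rGL Q hv * g⁻¹ * t = g * rGL Q hv * (g⁻¹ * t) := by group
        _ = g * rGL Q hv * (t * g⁻¹) := by rw [hgi]
        _ = g * (rGL Q hv * t) * g⁻¹ := by group
        _ = g * (t * rGL Q hv) * g⁻¹ := by rw [hρt]
        _ = (g * t) * rGL Q hv * g⁻¹ := by group
        _ = (t * g) * rGL Q hv * g⁻¹ := by rw [hgt]
        _ = t * (g * rGL Q hv * g⁻¹) := by group
    have hsSO : rGL Q hv * rGL Q hu ∈ SOG Q := rGL_mul_mem_SOG Q hv hu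
    refine ⟨rGL Q hv * rGL Q hu, hsSO, ?_, ?_⟩
    · rw [mul_assoc, hρ't, ← mul_assoc, hρt, mul_assoc]
    · exact refl_pair_not_inn Q hperf hcent hQ h2 hn2 hneg hv hu hns' _

end main

end Cfsg.Agent.Helper79.OSP
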