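import Mathlib
import Cfsg.Agent.Lib.Helper79.OSPMain
import Cfsg.Agent.S0790

/-!
# S2720 (helper79): the top layer (Klein case of the class fusion theorem, plus-type instance)
-/

set_option autoImplicit false
set_option linter.unusedSectionVars false

namespace Cfsg.Agent.Helper79.OSP

open Matrix QuadraticMap Cfsg.Agent.Helper5.OrthAut Cfsg.Agent.Helper43 Cfsg.Agent.Helper13.OSS
  Cfsg.Agent.Helper5.OrthLag

section main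

variable {F : Type*} [Field F] [Fintype F] [DecidableEq F] {ι : Type} [Fintype ι] [DecidableEq ι]
  (Q : QuadraticForm F (ι → F))
  (hperf : commutator ↥(Cfsg.Omega F ⇑Q) = ⊤)
  (hcent : ∀ Z : Matrix ι ι F, (∀ s : ↥(Cfsg.Omega F ⇑Q), Z * omat (⇑Q) s = omat (⇑Q) s * Z) →
    ∃ c : F, Z = c • (1 : Matrix ι ι F))
  (hQ0 : ∃ v : ι → F, Q v ≠ 0)

include hperf hcent in
/-- generic form of S2720 when `inD / Inn` is a four-group and `-1 ∈ Ω` -/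
theorem class_fusion_klein {p : ℕ} [Fact p.Prime] [CharP F p] (hp : p ≠ 2)
    (hQ : (polarBilin Q).Nondegenerate) (k : ℕ) (hcard : Fintype.card ι = 2 * k)
    (hkl : ∃ φ : ↥(inD Q hQ0 k) →* Multiplicative (ZMod 2 × ZMod 2),
        φ.ker = (Cfsg.Inn (Cfsg.POmega F ⇑Q)).subgroupOf (inD Q hQ0 k))
    (hneg : ∃ g : ↥(Cfsg.isometryGroup F ⇑Q), g ∈ Cfsg.Omega F ⇑Q ∧
        ((g : GL ι F) : Matrix ι ι F) = -1)
    (δ : GL ι F) (hδ : δ ∈ GO Q) (hδ1 : ¬ IsSquare ((mult Q ⟨δ, hδ⟩ : Fˣ) : F))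
    (x : MulAut (Cfsg.POmega F ⇑Q)) (hx : x ∈ Cfsg.pgoAut F ⇑Q) {r : ℕ} (hr : r.Prime)
    (hro : Odd r) (hrp : r ≠ p) (hxr : orderOf x = r) :
    (∀ y : MulAut (Cfsg.POmega F ⇑Q),
      (Cfsg.IsConjUnder (Cfsg.Inn (Cfsg.POmega F ⇑Q)) x y ↔
        Cfsg.IsConjUnder (inD Q hQ0 k) x y) ∧
      (Cfsg.IsConjUnder (Cfsg.psoAut F ⇑Q) x y ↔ Cfsg.IsConjUnder (inD Q hQ0 k) x y)) ∧
    (∀ y : MulAut (Cfsg.POmega F ⇑Q),
      Cfsg.IsConjUnder (Cfsg.poAut F ⇑Q) x y ↔ Cfsg.IsConjUnder (Cfsg.pgoAut F ⇑Q) x y) := by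
  classical
  obtain ⟨t, ht, htr, hPhit⟩ := Cfsg.Agent.Helper41.OSS.exists_iso_lift Q hperf hcent hQ0 x hx r hro
    (by rw [← hxr]; exact pow_orderOf_eq_one x)
  obtain ⟨g, hg, hcomm, hns, hd⟩ :=
    exists_commuting_sim hp Q hQ hQ0 k hcard t ht r hr hro hrp htr δ hδ hδ1
  obtain ⟨s, hsSO, hst, hsinn⟩ := exists_commuting_not_inn Q hperf hcent hQ0 hp hQ k hcard hneg
    t ht r hr hro hrp htr g hg hcomm hns
  set c : MulAut (Cfsg.POmega F ⇑Q) := Phi (⇑Q) ⟨g, sim_le_NO (⇑Q) hg⟩ with hc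
  set σ : MulAut (Cfsg.POmega F ⇑Q) :=
    Phi (⇑Q) ⟨s, Subgroup.le_normalizer (SOG_le_OG Q hsSO)⟩ with hσ
  have hcx : c * x = x * c := by
    rw [← hPhit, hc, ← map_mul, ← map_mul]
    congr 1
    exact Subtype.ext hcomm
  have hσx : σ * x = x * σ := by
    rw [← hPhit, hσ, ← map_mul, ← map_mul]
    congr 1
    exact Subtype.ext hst
  have hcD : c ∈ inD Q hQ0 k :=
    ⟨⟨g, sim_le_NO (⇑Q) hg⟩, Subgroup.mem_subgroupOf.2 ((mem_GO1 Q hQ0 k g).2 ⟨hg, hd⟩), rfl⟩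
  have hcP : c ∈ Cfsg.pgoAut F ⇑Q := (pP Q g hg).2
  have hσpso : σ ∈ Cfsg.psoAut F ⇑Q := by
    rw [psoAut_eq]
    exact ⟨⟨s, Subgroup.le_normalizer (SOG_le_OG Q hsSO)⟩, Subgroup.mem_subgroupOf.2 hsSO, rfl⟩
  have hσD : σ ∈ inD Q hQ0 k := psoAut_le_inD Q hQ0 k hσpso
  have hσpo : σ ∈ Cfsg.poAut F ⇑Q := psoAut_le_poAut Q hσpso
  have hσP : σ ∈ Cfsg.pgoAut F ⇑Q := poAut_le_pgoAut Q hσpo
  obtain ⟨ψ, hψ⟩ := exists_chi Q hperf hcent hQ0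
  have hψc : ψ ⟨c, hcP⟩ = -1 := by
    have h1 : ψ ⟨c, hcP⟩ = chiHom Q hQ0 ⟨g, hg⟩ := hψ g hg
    rcases Int.units_eq_one_or (ψ ⟨c, hcP⟩) with h | h
    · exfalso
      rw [h1, chiHom_eq_one_iff] at h
      exact hns h
    · exact h
  have hψpo : ∀ (h : MulAut (Cfsg.POmega F ⇑Q)) (hh : h ∈ Cfsg.pgoAut F ⇑Q),
      ψ ⟨h, hh⟩ = 1 → h ∈ Cfsg.poAut F ⇑Q := by
    intro h hh h1
    have hh' := hh
    rw [pgoAut_eq] at hh'
    obtain ⟨n, hn, rfl⟩ := hh'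
    have hn' : (n : GL ι F) ∈ GO Q := hn
    have h2 : ψ ⟨Phi (⇑Q) n, hh⟩ = chiHom Q hQ0 ⟨(n : GL ι F), hn'⟩ := hψ (n : GL ι F) hn'
    rw [h2, chiHom_eq_one_iff] at h1
    exact mem_poAut_of_sq Q hperf hcent (n : GL ι F) hn' h1
  have hpoψ : ∀ (h : MulAut (Cfsg.POmega F ⇑Q)) (hh : h ∈ Cfsg.pgoAut F ⇑Q),
      h ∈ Cfsg.poAut F ⇑Q → ψ ⟨h, hh⟩ = 1 := by
    intro h hh hpo
    rw [poAut_eq] at hpo
    obtain ⟨n, hn, rfl⟩ := hpo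
    have hn' : (n : GL ι F) ∈ Cfsg.isometryGroup F ⇑Q := hn
    have h2 : ψ ⟨Phi (⇑Q) n, hh⟩ = chiHom Q hQ0 ⟨(n : GL ι F), iso_le_sim (⇑Q) hn'⟩ :=
      hψ (n : GL ι F) (iso_le_sim (⇑Q) hn')
    rw [h2, chiHom_eq_one_iff]
    have : mult Q ⟨(n : GL ι F), iso_le_sim (⇑Q) hn'⟩ = 1 := mult_isoGO Q hQ0 ⟨(n : GL ι F), hn'⟩
    rw [this, Units.val_one]
    exact ⟨1, by simp⟩
  have hcinv : c⁻¹ * x * c = x := by
    rw [mul_assoc, ← hcx, ← mul_assoc, inv_mul_cancel, one_mul]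
  have hinnP : ∀ i ∈ Cfsg.Inn (Cfsg.POmega F ⇑Q), i ∈ Cfsg.poAut F ⇑Q := fun i hi =>
    psoAut_le_poAut Q (inn_le_psoAut Q hi)
  -- the first part
  have hA : ∀ y : MulAut (Cfsg.POmega F ⇑Q), Cfsg.IsConjUnder (inD Q hQ0 k) x y →
      Cfsg.IsConjUnder (Cfsg.Inn (Cfsg.POmega F ⇑Q)) x y := by
    intro y hy
    obtain ⟨φ, hker⟩ := hkl
    have hcI : c ∉ Cfsg.Inn (Cfsg.POmega F ⇑Q) := by
      intro hi
      have := hpoψ c hcP (hinnP c hi)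
      rw [hψc] at this
      exact absurd this (by decide)
    have hcσI : c * σ⁻¹ ∉ Cfsg.Inn (Cfsg.POmega F ⇑Q) := by
      intro hi
      have hP : c * σ⁻¹ ∈ Cfsg.pgoAut F ⇑Q := mul_mem hcP (inv_mem hσP)
      have h1 := hpoψ (c * σ⁻¹) hP (hinnP _ hi)
      have h2 : (⟨c * σ⁻¹, hP⟩ : ↥(Cfsg.pgoAut F ⇑Q)) = ⟨c, hcP⟩ * ⟨σ, hσP⟩⁻¹ := rfl
      rw [h2, map_mul, map_inv, hψc, hpoψ σ hσP hσpo] at h1
      exact absurd h1 (by decide)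
    exact conj_of_klein _ _ φ hker c σ hcD hσD hcI hsinn hcσI x hcx hσx y hy
  refine ⟨fun y => ⟨⟨?_, hA y⟩, ⟨?_, ?_⟩⟩, fun y => ⟨?_, ?_⟩⟩
  · rintro ⟨h, hh, rfl⟩
    exact ⟨h, inn_le_inD Q hQ0 k hh, rfl⟩
  · rintro ⟨h, hh, rfl⟩
    exact ⟨h, psoAut_le_inD Q hQ0 k hh, rfl⟩
  · intro hy
    obtain ⟨h, hh, rfl⟩ := hA y hy
    exact ⟨h, inn_le_psoAut Q hh, rfl⟩
  · rintro ⟨h, hh, rfl⟩
    exact ⟨h, poAut_le_pgoAut Q hh, rfl⟩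
  · rintro ⟨h, hh, rfl⟩
    rcases Int.units_eq_one_or (ψ ⟨h, hh⟩) with h1 | h1
    · exact ⟨h, hψpo h hh h1, rfl⟩
    · have hhc : h * c⁻¹ ∈ Cfsg.pgoAut F ⇑Q := Subgroup.mul_mem _ hh (Subgroup.inv_mem _ hcP)
      have h2 : ψ ⟨h * c⁻¹, hhc⟩ = 1 := by
        have : (⟨h * c⁻¹, hhc⟩ : ↥(Cfsg.pgoAut F ⇑Q)) = ⟨h, hh⟩ * ⟨c, hcP⟩⁻¹ := rfl
        rw [this, map_mul, map_inv, h1, hψc]
        decide
      refine ⟨h * c⁻¹, hψpo _ hhc h2, ?_⟩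
      calc h * x * h⁻¹ = h * (c⁻¹ * x * c) * h⁻¹ := by rw [hcinv]
        _ = h * c⁻¹ * x * (h * c⁻¹)⁻¹ := by group

end main


section plus

universe u

variable {F : Type u} [Field F] [Fintype F]

/-- S2720 -/
theorem plus_class_fusion {p : ℕ} [Fact p.Prime] [CharP F p] (hp : p ≠ 2) {m : ℕ} (hm : 4 ≤ m)
    (x : MulAut (Cfsg.POmega F (Cfsg.quadFormPlus m F)))
    (hx : x ∈ Cfsg.pgoAut F (Cfsg.quadFormPlus m F)) {r : ℕ} (hr : r.Prime) (hro : Odd r)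
    (hrp : r ≠ p) (hxr : orderOf x = r) :
    (∀ y : MulAut (Cfsg.POmega F (Cfsg.quadFormPlus m F)),
      (Cfsg.IsConjUnder (Cfsg.Inn (Cfsg.POmega F (Cfsg.quadFormPlus m F))) x y ↔
        Cfsg.IsConjUnder (Cfsg.inndiagPOmegaPlus m F) x y) ∧
      (Cfsg.IsConjUnder (Cfsg.psoAut F (Cfsg.quadFormPlus m F)) x y ↔
        Cfsg.IsConjUnder (Cfsg.inndiagPOmegaPlus m F) x y)) ∧
    (∀ y : MulAut (Cfsg.POmega F (Cfsg.quadFormPlus m F)),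
      Cfsg.IsConjUnder (Cfsg.poAut F (Cfsg.quadFormPlus m F)) x y ↔
        Cfsg.IsConjUnder (Cfsg.pgoAut F (Cfsg.quadFormPlus m F)) x y) := by
  classical
  have hodd : Odd (Fintype.card F) := by
    obtain ⟨n, -, hn⟩ := FiniteField.card F p
    rw [hn]
    exact ((Fact.out : p.Prime).eq_two_or_odd'.resolve_left hp).pow
  have h2 := two_ne_zero_of_odd_card hodd
  have hfam := stdPlus_isHypFamily F m
  have hnd := stdPlus_nondegenerate F m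
  have hcard : Fintype.card (Fin m ⊕ Fin m) = 2 * m := by simp; ring
  have hQ0 := hQ0_of_hyp (stdPlus F m) hfam (by omega)
  have hperf := hperf_of_hyp (stdPlus F m) hnd _ _ hfam (by omega) (by rw [hcard]; omega)
  have hcent := hcent_of_hyp (stdPlus F m) hfam (by omega)
    (Cfsg.Agent.Lead.POmegaCard.hspan_plus m)
  have hq : Fintype.card F % 2 = 1 := Nat.odd_iff.1 hodd
  have hnegiff := Cfsg.Agent.S0790.result (F := F) rfl hodd m (by omega)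
  obtain ⟨ν, hν⟩ := exists_nonsquare_unit h2
  obtain ⟨v, hv⟩ := hQ0
  have hmu : mult (stdPlus F m) ⟨deltaPlus m ν, deltaPlus_mem m ν⟩ = ν :=
    mult_unique _ ⟨v, hv⟩ _ _ (deltaPlus_sim m ν)
  have hstr := inndiag_mod_inn_plus hodd hm
  rw [inndiag_eq_inD_plus m h2 ⟨v, hv⟩] at hstr ⊢
  by_cases hev : Even m
  · -- the four-group case
    obtain ⟨φ, -, hker⟩ := hstr.2.2 hev
    have hneg : ∃ g : ↥(Cfsg.isometryGroup F ⇑(stdPlus F m)), g ∈ Cfsg.Omega F ⇑(stdPlus F m) ∧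
        ((g : GL (Fin m ⊕ Fin m) F) : Matrix (Fin m ⊕ Fin m) (Fin m ⊕ Fin m) F) = -1 := by
      apply hnegiff.2
      rw [pow_mod_four_eq_one_iff _ _ hq]
      rintro ⟨h3, _⟩
      exact (Nat.not_even_iff_odd.2 h3) hev
    exact class_fusion_klein (stdPlus F m) hperf hcent ⟨v, hv⟩ hp hnd m hcard ⟨φ, hker⟩ hneg
      (deltaPlus m ν) (deltaPlus_mem m ν) (by rw [hmu]; exact hν) x hx hr hro hrp hxr
  · -- the cyclic cases
    have hoddm : Odd m := Nat.not_even_iff_odd.1 hev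
    have hcyc : (∃ φ : ↥(inD (stdPlus F m) ⟨v, hv⟩ m) →* Multiplicative (ZMod 4),
          Function.Surjective φ ∧
          φ.ker = (Cfsg.Inn (Cfsg.POmega F ⇑(stdPlus F m))).subgroupOf
            (inD (stdPlus F m) ⟨v, hv⟩ m)) ∨
        (∃ φ : ↥(inD (stdPlus F m) ⟨v, hv⟩ m) →* Multiplicative (ZMod 2),
          Function.Surjective φ ∧
          φ.ker = (Cfsg.Inn (Cfsg.POmega F ⇑(stdPlus F m))).subgroupOf
            (inD (stdPlus F m) ⟨v, hv⟩ m)) := by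
      have h4 : Fintype.card F % 4 = 1 ∨ Fintype.card F % 4 = 3 := by omega
      rcases h4 with h4 | h4
      · exact Or.inl (hstr.2.1 ⟨hoddm, h4⟩)
      · exact Or.inr (hstr.1 ⟨hoddm, h4⟩)
    exact class_fusion (stdPlus F m) hperf hcent ⟨v, hv⟩ hp hnd m hcard hcyc
      (deltaPlus m ν) (deltaPlus_mem m ν) (by rw [hmu]; exact hν) x hx hr hro hrp hxr

end plus

end Cfsg.Agent.Helper79.OSP
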