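import Mathlib
import Cfsg.Prelude.Def_FusionSystem
import Cfsg.Agent.Lib.Helper87.Om7Defs
import Cfsg.Agent.Lib.Helper77.Om7API1
import Cfsg.Agent.Lib.Helper8.Om7API2a
import Cfsg.Agent.Lib.Helper46.Om7API2b

/-!
# OM7 server (helper87, S2647), piece (C2): `center_cases`

The centre of `S0 = Ω ∩ mono` is `{1, D0123, D45, D012345}`.
-/

set_option autoImplicit false

namespace Cfsg.Agent.Helper79.Om7

open Matrix QuadraticMap Cfsg.Agent.Helper36.QuadInv Cfsg.Agent.Helper36.OmegaTrans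
  Cfsg.Agent.Helper43 Cfsg.Agent.Helper87.Om7
open Cfsg.Agent.Helper77.Om7 Cfsg.Agent.Helper8.Om7 Cfsg.Agent.Helper46.Om7

variable {F : Type*} [Field F] [Fintype F] [DecidableEq F] {ι : Type} [Fintype ι] [DecidableEq ι]
variable {Q : QuadraticForm F (ι → F)} {c : F} {f : Fin 7 → ι → F}

theorem c2_fin7 {P : Fin 7 → Prop} (h0 : P 0) (h1 : P 1) (h2 : P 2) (h3 : P 3) (h4 : P 4)
    (h5 : P 5) (h6 : P 6) : ∀ i, P i := by
  intro i
  fin_cases i <;> assumption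

theorem c2_ne_neg (hF : Frame Q c f) (k : Fin 7) : f k ≠ - f k := by
  intro h
  have h1 : (2 : F) • f k = 0 := by
    rw [two_smul]
    nth_rewrite 1 [h]
    exact neg_add_cancel _
  have h2 : f k = 0 := by
    rcases smul_eq_zero.1 h1 with h3 | h3
    · exact absurd h3 hF.two
    · exact h3
  have h3 : Q (f k) = c := hF.norm k
  rw [h2, map_zero] at h3
  exact hF.c0 h3.symm

/-- an element commuting with all `D i j` is diagonal -/
theorem c2_perm_eq_one (hF : Frame Q c f) (z : OG F ⇑Q) (σ : Equiv.Perm (Fin 7))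
    (hm : IsMono Q f z σ)
    (hc : ∀ i j : Fin 7, i ≠ j → D Q f i j * z = z * D Q f i j) : σ = 1 := by
  have key : ∀ i j : Fin 7, i ≠ j → σ i = i ∨ σ i = j := by
    intro i j hij
    have h1 : actHom (⇑Q) (D Q f i j) (actHom (⇑Q) z (f i)) = - actHom (⇑Q) z (f i) := by
      rw [← act_mul, hc i j hij, act_mul, D_act hF hij i, if_pos (Or.inl rfl), map_neg]
    by_contra hcon
    rcases hm i with h | h
    · rw [h, D_act hF hij (σ i), if_neg hcon] at h1
      exact c2_ne_neg hF _ h1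
    · rw [h, map_neg, D_act hF hij (σ i), if_neg hcon, neg_neg] at h1
      exact c2_ne_neg hF _ h1.symm
  have hne : ∀ i : Fin 7, i ≠ i + 1 ∧ i ≠ i + 2 ∧ i + 1 ≠ i + 2 := by decide
  refine Equiv.Perm.ext (fun i => ?_)
  rw [Equiv.Perm.one_apply]
  by_contra h
  obtain ⟨n1, n2, n3⟩ := hne i
  have e1 : σ i = i + 1 := by
    rcases key i (i + 1) n1 with a | a
    · exact absurd a h
    · exact a
  have e2 : σ i = i + 2 := by
    rcases key i (i + 2) n2 with a | a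
    · exact absurd a h
    · exact a
  exact n3 (e1.symm.trans e2)

/-- a reflection fixes the vectors orthogonal to its root -/
theorem c2_refl_fix {v : ι → F} (hv : Q v ≠ 0) {x : ι → F} (hx : polar Q v x = 0) :
    actHom (⇑Q) (reflIso' Q v) x = x := by
  rw [act_reflIso' hv, hx, mul_zero, zero_smul, sub_zero]

theorem c2_refl_self {v : ι → F} (hv : Q v ≠ 0) :
    actHom (⇑Q) (reflIso' Q v) v = - v := by
  rw [act_reflIso' hv, polar_self]
  have : (Q v)⁻¹ * (2 • Q v) = 2 := by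
    rw [nsmul_eq_mul, Nat.cast_ofNat]; field_simp
  rw [this, two_smul]
  abel

/-- `z ∈ Ω` agreeing with `d ∈ Ω` on `f 0, …, f 5` up to a sign on `f 6` equals `d` -/
theorem c2_finish (hF : Frame Q c f) (z d : OG F ⇑Q) (hz : z ∈ Cfsg.Omega F ⇑Q)
    (hd : d ∈ Cfsg.Omega F ⇑Q)
    (e0 : actHom (⇑Q) z (f 0) = actHom (⇑Q) d (f 0))
    (e1 : actHom (⇑Q) z (f 1) = actHom (⇑Q) d (f 1))
    (e2 : actHom (⇑Q) z (f 2) = actHom (⇑Q) d (f 2))
    (e3 : actHom (⇑Q) z (f 3) = actHom (⇑Q) d (f 3))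
    (e4 : actHom (⇑Q) z (f 4) = actHom (⇑Q) d (f 4))
    (e5 : actHom (⇑Q) z (f 5) = actHom (⇑Q) d (f 5))
    (hd6 : actHom (⇑Q) d (f 6) = f 6)
    (h6 : actHom (⇑Q) z (f 6) = f 6 ∨ actHom (⇑Q) z (f 6) = - f 6) : z = d := by
  rcases h6 with h6 | h6
  · exact frame_ext hF z d (c2_fin7 e0 e1 e2 e3 e4 e5 (h6.trans hd6.symm))
  · exfalso
    apply refl_not_mem_Omega hF 6
    have hQ6 : Q (f 6) ≠ 0 := frame_Q_ne hF 6
    have hinv : ∀ v, actHom (⇑Q) d⁻¹ (actHom (⇑Q) d v) = v := fun v => by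
      rw [← act_mul, inv_mul_cancel, act_one]
    have hfix : ∀ i : Fin 7, i ≠ 6 → actHom (⇑Q) (reflIso' Q (f 6)) (f i) = f i := by
      intro i hi
      exact c2_refl_fix hQ6 (hF.orth 6 i (Ne.symm hi))
    have heq : reflIso' Q (f 6) = d⁻¹ * z := by
      refine frame_ext hF _ _ (c2_fin7 ?_ ?_ ?_ ?_ ?_ ?_ ?_)
      · rw [hfix 0 (by decide), act_mul, e0, hinv]
      · rw [hfix 1 (by decide), act_mul, e1, hinv]
      · rw [hfix 2 (by decide), act_mul, e2, hinv]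
      · rw [hfix 3 (by decide), act_mul, e3, hinv]
      · rw [hfix 4 (by decide), act_mul, e4, hinv]
      · rw [hfix 5 (by decide), act_mul, e5, hinv]
      · have hd6' : actHom (⇑Q) d⁻¹ (f 6) = f 6 := by
          have := hinv (f 6)
          rwa [hd6] at this
        rw [c2_refl_self hQ6, act_mul, h6, map_neg, hd6']
    rw [heq]
    exact mul_mem (inv_mem hd) hz

theorem c2_transfer {s z : OG F ⇑Q} {τ : Equiv.Perm (Fin 7)}
    (hs : ∀ k, actHom (⇑Q) s (f k) = f (τ k)) (hcomm : s * z = z * s) (k : Fin 7) :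
    actHom (⇑Q) z (f (τ k)) = actHom (⇑Q) s (actHom (⇑Q) z (f k)) := by
  rw [← hs k, ← act_mul, ← act_mul, hcomm]

/-- (C2) the centre of `S0` -/
theorem center_cases (hF : Frame Q c f) (z : OG F ⇑Q) (hz : z ∈ Cfsg.Omega F ⇑Q)
    (hzm : z ∈ mono Q f)
    (hc : ∀ s, s ∈ Cfsg.Omega F ⇑Q → s ∈ mono Q f → s * z = z * s) :
    z = 1 ∨ z = D Q f 0 1 * D Q f 2 3 ∨ z = D Q f 4 5 ∨
      z = D Q f 0 1 * D Q f 2 3 * D Q f 4 5 := by
  obtain ⟨σ, hσ, hm⟩ := hzm
  have hDm : ∀ i j : Fin 7, i ≠ j → D Q f i j ∈ mono Q f := fun i j hij =>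
    ⟨1, P16.one_mem, D_isMono hF hij⟩
  have hσ1 : σ = 1 := c2_perm_eq_one hF z σ hm
    (fun i j hij => hc _ (D_mem_Omega hF hij) (hDm i j hij))
  subst hσ1
  have hsa : sa ∈ P16 := Subgroup.subset_closure (by simp)
  have hsb : sb ∈ P16 := by
    unfold sb P16
    exact Subgroup.mul_mem _ (Subgroup.subset_closure (by simp)) (Subgroup.subset_closure (by simp))
  have hW1Ω : W Q f 0 1 2 3 ∈ Cfsg.Omega F ⇑Q := W_mem_Omega hF (by decide) (by decide)
  have hW2Ω : W Q f 0 2 4 5 ∈ Cfsg.Omega F ⇑Q := W_mem_Omega hF (by decide) (by decide)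
  have hW1m : W Q f 0 1 2 3 ∈ mono Q f :=
    ⟨sa, hsa, W_isMono hF (by decide) (by decide) (by decide) (by decide) (by decide) (by decide)⟩
  have hW2m : W Q f 0 2 4 5 ∈ mono Q f :=
    ⟨sb, hsb, W_isMono hF (by decide) (by decide) (by decide) (by decide) (by decide) (by decide)⟩
  have hW1 : ∀ k, actHom (⇑Q) (W Q f 0 1 2 3) (f k) = f (sa k) := fun k =>
    W_act hF (by decide) (by decide) (by decide) (by decide) (by decide) (by decide) k
  have hW2 : ∀ k, actHom (⇑Q) (W Q f 0 2 4 5) (f k) = f (sb k) := fun k =>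
    W_act hF (by decide) (by decide) (by decide) (by decide) (by decide) (by decide) k
  have c1 := hc _ hW1Ω hW1m
  have c2 := hc _ hW2Ω hW2m
  have sa0 : sa 0 = 1 := by decide
  have sa2 : sa 2 = 3 := by decide
  have sb0 : sb 0 = 2 := by decide
  have sb4 : sb 4 = 5 := by decide
  have t1 : actHom (⇑Q) z (f 1) = actHom (⇑Q) (W Q f 0 1 2 3) (actHom (⇑Q) z (f 0)) := by
    have := c2_transfer hW1 c1 0
    rwa [sa0] at this
  have t2 : actHom (⇑Q) z (f 2) = actHom (⇑Q) (W Q f 0 2 4 5) (actHom (⇑Q) z (f 0)) := by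
    have := c2_transfer hW2 c2 0
    rwa [sb0] at this
  have t3 : actHom (⇑Q) z (f 3) = actHom (⇑Q) (W Q f 0 1 2 3) (actHom (⇑Q) z (f 2)) := by
    have := c2_transfer hW1 c1 2
    rwa [sa2] at this
  have t5 : actHom (⇑Q) z (f 5) = actHom (⇑Q) (W Q f 0 2 4 5) (actHom (⇑Q) z (f 4)) := by
    have := c2_transfer hW2 c2 4
    rwa [sb4] at this
  have hD01 : ∀ k, actHom (⇑Q) (D Q f 0 1) (f k) = if k = 0 ∨ k = 1 then - f k else f k :=
    D_act hF (by decide)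
  have hD23 : ∀ k, actHom (⇑Q) (D Q f 2 3) (f k) = if k = 2 ∨ k = 3 then - f k else f k :=
    D_act hF (by decide)
  have hD45 : ∀ k, actHom (⇑Q) (D Q f 4 5) (f k) = if k = 4 ∨ k = 5 then - f k else f k :=
    D_act hF (by decide)
  have hD01Ω : D Q f 0 1 ∈ Cfsg.Omega F ⇑Q := D_mem_Omega hF (by decide)
  have hD23Ω : D Q f 2 3 ∈ Cfsg.Omega F ⇑Q := D_mem_Omega hF (by decide)
  have hD45Ω : D Q f 4 5 ∈ Cfsg.Omega F ⇑Q := D_mem_Omega hF (by decide)
  have h6 : actHom (⇑Q) z (f 6) = f 6 ∨ actHom (⇑Q) z (f 6) = - f 6 := hm 6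
  rcases hm 0 with a0 | a0 <;> rcases hm 4 with a4 | a4
  · -- `+ +`
    left
    have a0' : actHom (⇑Q) z (f 0) = f 0 := a0
    have a4' : actHom (⇑Q) z (f 4) = f 4 := a4
    have a1 : actHom (⇑Q) z (f 1) = f 1 := by rw [t1, a0', hW1, sa0]
    have a2 : actHom (⇑Q) z (f 2) = f 2 := by rw [t2, a0', hW2, sb0]
    have a3 : actHom (⇑Q) z (f 3) = f 3 := by rw [t3, a2, hW1, sa2]
    have a5 : actHom (⇑Q) z (f 5) = f 5 := by rw [t5, a4', hW2, sb4]
    refine c2_finish hF z 1 hz (Subgroup.one_mem _) ?_ ?_ ?_ ?_ ?_ ?_ (act_one _) h6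
    all_goals rw [act_one]; assumption
  · -- `+ -`
    right; right; left
    have a0' : actHom (⇑Q) z (f 0) = f 0 := a0
    have a4' : actHom (⇑Q) z (f 4) = - f 4 := a4
    have a1 : actHom (⇑Q) z (f 1) = f 1 := by rw [t1, a0', hW1, sa0]
    have a2 : actHom (⇑Q) z (f 2) = f 2 := by rw [t2, a0', hW2, sb0]
    have a3 : actHom (⇑Q) z (f 3) = f 3 := by rw [t3, a2, hW1, sa2]
    have a5 : actHom (⇑Q) z (f 5) = - f 5 := by rw [t5, a4', map_neg, hW2, sb4]
    refine c2_finish hF z _ hz hD45Ω ?_ ?_ ?_ ?_ ?_ ?_ ?_ h6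
    · rw [a0', hD45]; simp
    · rw [a1, hD45]; simp
    · rw [a2, hD45]; simp
    · rw [a3, hD45]; simp
    · rw [a4', hD45]; simp
    · rw [a5, hD45]; simp
    · rw [hD45]; simp
  · -- `- +`
    right; left
    have a0' : actHom (⇑Q) z (f 0) = - f 0 := a0
    have a4' : actHom (⇑Q) z (f 4) = f 4 := a4
    have a1 : actHom (⇑Q) z (f 1) = - f 1 := by rw [t1, a0', map_neg, hW1, sa0]
    have a2 : actHom (⇑Q) z (f 2) = - f 2 := by rw [t2, a0', map_neg, hW2, sb0]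
    have a3 : actHom (⇑Q) z (f 3) = - f 3 := by rw [t3, a2, map_neg, hW1, sa2]
    have a5 : actHom (⇑Q) z (f 5) = f 5 := by rw [t5, a4', hW2, sb4]
    refine c2_finish hF z _ hz (mul_mem hD01Ω hD23Ω) ?_ ?_ ?_ ?_ ?_ ?_ ?_ h6
    · rw [a0', act_mul, hD23]; simp [hD01]
    · rw [a1, act_mul, hD23]; simp [hD01]
    · rw [a2, act_mul, hD23]; simp [hD01]
    · rw [a3, act_mul, hD23]; simp [hD01]
    · rw [a4', act_mul, hD23]; simp [hD01]
    · rw [a5, act_mul, hD23]; simp [hD01]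
    · rw [act_mul, hD23]; simp [hD01]
  · -- `- -`
    right; right; right
    have a0' : actHom (⇑Q) z (f 0) = - f 0 := a0
    have a4' : actHom (⇑Q) z (f 4) = - f 4 := a4
    have a1 : actHom (⇑Q) z (f 1) = - f 1 := by rw [t1, a0', map_neg, hW1, sa0]
    have a2 : actHom (⇑Q) z (f 2) = - f 2 := by rw [t2, a0', map_neg, hW2, sb0]
    have a3 : actHom (⇑Q) z (f 3) = - f 3 := by rw [t3, a2, map_neg, hW1, sa2]
    have a5 : actHom (⇑Q) z (f 5) = - f 5 := by rw [t5, a4', map_neg, hW2, sb4]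
    refine c2_finish hF z _ hz (mul_mem (mul_mem hD01Ω hD23Ω) hD45Ω) ?_ ?_ ?_ ?_ ?_ ?_ ?_ h6
    · rw [a0', act_mul, act_mul, hD45]; simp [hD01, hD23]
    · rw [a1, act_mul, act_mul, hD45]; simp [hD01, hD23]
    · rw [a2, act_mul, act_mul, hD45]; simp [hD01, hD23]
    · rw [a3, act_mul, act_mul, hD45]; simp [hD01, hD23]
    · rw [a4', act_mul, act_mul, hD45]; simp [hD01, hD23]
    · rw [a5, act_mul, act_mul, hD45]; simp [hD01, hD23]
    · rw [act_mul, act_mul, hD45]; simp [hD01, hD23]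

end Cfsg.Agent.Helper79.Om7
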