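import Mathlib
import Cfsg.Prelude.Def_FusionSystem
import Cfsg.Agent.Lib.Helper87.Om7Defs
import Cfsg.Agent.Lib.Helper77.Om7API1
import Cfsg.Agent.Lib.Helper8.Om7API2a
import Cfsg.Agent.Lib.Helper46.Om7API2b
import Cfsg.Agent.Lib.Helper41.Om7DIAG

/-!
# OM7 server (helper87, S2647), piece (EVEN): `perm_mem_P8`

The permutation of a monomial element of `Ω₇(q)` (`2` a nonsquare) is even.
-/

set_option autoImplicit false

namespace Cfsg.Agent.Helper79.Om7

open Matrix QuadraticMap Cfsg.Agent.Helper36.QuadInv Cfsg.Agent.Helper36.OmegaTrans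
  Cfsg.Agent.Helper43 Cfsg.Agent.Helper87.Om7
open Cfsg.Agent.Helper77.Om7 Cfsg.Agent.Helper8.Om7 Cfsg.Agent.Helper46.Om7 Cfsg.Agent.Helper41.Om7

variable {F : Type*} [Field F] [Fintype F] [DecidableEq F] {ι : Type} [Fintype ι] [DecidableEq ι]
variable {Q : QuadraticForm F (ι → F)} {c : F} {f : Fin 7 → ι → F}

/-! ### `P16 = P8 ∪ P8 (4 5)` -/

theorem even_sa_mem_P8 : sa ∈ P8 := Subgroup.subset_closure (by simp)
theorem even_sb_mem_P8 : sb ∈ P8 := Subgroup.subset_closure (by simp)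

theorem even_s_comm_P8 {y : Equiv.Perm (Fin 7)} (hy : y ∈ P8) :
    Commute (Equiv.swap (4 : Fin 7) 5) y := by
  unfold P8 at hy
  induction hy using Subgroup.closure_induction with
  | mem x hx =>
    rcases hx with rfl | rfl
    · show Equiv.swap (4 : Fin 7) 5 * sa = sa * Equiv.swap (4 : Fin 7) 5
      decide
    · show Equiv.swap (4 : Fin 7) 5 * sb = sb * Equiv.swap (4 : Fin 7) 5
      decide
  | one => exact Commute.one_right _
  | mul x y _ _ hx hy => exact Commute.mul_right hx hy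
  | inv x _ hx => exact Commute.inv_right hx

theorem even_P16_cases {σ : Equiv.Perm (Fin 7)} (h : σ ∈ P16) :
    σ ∈ P8 ∨ σ * Equiv.swap 4 5 ∈ P8 := by
  have hs2 : Equiv.swap (4 : Fin 7) 5 * Equiv.swap (4 : Fin 7) 5 = 1 := Equiv.swap_mul_self 4 5
  have hsinv : (Equiv.swap (4 : Fin 7) 5)⁻¹ = Equiv.swap (4 : Fin 7) 5 := Equiv.swap_inv 4 5
  -- `s` commutes with `y` as soon as `y ∈ P8` or `y * s ∈ P8`
  have hcomm : ∀ y : Equiv.Perm (Fin 7), y * Equiv.swap 4 5 ∈ P8 →
      Commute (Equiv.swap (4 : Fin 7) 5) y := by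
    intro y hy
    have h1 : Commute (Equiv.swap (4 : Fin 7) 5) (y * Equiv.swap 4 5) := even_s_comm_P8 hy
    have h2 : Commute (Equiv.swap (4 : Fin 7) 5) (Equiv.swap (4 : Fin 7) 5)⁻¹ :=
      (Commute.refl _).inv_right
    have h3 := h1.mul_right h2
    rwa [mul_assoc, mul_inv_cancel, mul_one] at h3
  unfold P16 at h
  induction h using Subgroup.closure_induction with
  | mem x hx =>
    rcases hx with rfl | rfl | rfl
    · left; exact even_sa_mem_P8
    · right; exact even_sb_mem_P8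
    · right; rw [hs2]; exact P8.one_mem
  | one => left; exact P8.one_mem
  | mul x y _ _ hx hy =>
    rcases hx with hx | hx <;> rcases hy with hy | hy
    · left; exact P8.mul_mem hx hy
    · right; rw [mul_assoc]; exact P8.mul_mem hx hy
    · right
      have h1 : Equiv.swap (4 : Fin 7) 5 * y = y * Equiv.swap (4 : Fin 7) 5 := even_s_comm_P8 hy
      have : x * y * Equiv.swap 4 5 = (x * Equiv.swap 4 5) * y := by
        rw [mul_assoc, ← h1, ← mul_assoc]
      rw [this]; exact P8.mul_mem hx hy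
    · left
      have h1 : Equiv.swap (4 : Fin 7) 5 * y = y * Equiv.swap (4 : Fin 7) 5 := hcomm y hy
      have : x * y = (x * Equiv.swap 4 5) * (y * Equiv.swap 4 5) := by
        rw [← h1, mul_assoc, ← mul_assoc (Equiv.swap (4 : Fin 7) 5), hs2, one_mul]
      rw [this]; exact P8.mul_mem hx hy
  | inv x _ hx =>
    rcases hx with hx | hx
    · left; exact P8.inv_mem hx
    · right
      have h1 : Equiv.swap (4 : Fin 7) 5 * x = x * Equiv.swap (4 : Fin 7) 5 := hcomm x hx
      have h2 : x⁻¹ * Equiv.swap 4 5 = (x * Equiv.swap 4 5)⁻¹ := by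
        rw [← h1, _root_.mul_inv_rev, hsinv]
      rw [h2]; exact P8.inv_mem hx

/-- the determinant as a homomorphism on the isometry group -/
noncomputable def evenDet (Q : QuadraticForm F (ι → F)) : OG F ⇑Q →* Fˣ :=
  Matrix.GeneralLinearGroup.det.comp (Subgroup.subtype _)

theorem evenDet_eq_one_iff (x : OG F ⇑Q) :
    evenDet Q x = 1 ↔ ((x : GL ι F) : Matrix ι ι F).det = 1 := by
  rw [← Units.val_inj]
  rfl

/-- lift of a permutation in `P8` to a word in `W 0 1 2 3`, `W 0 2 4 5` -/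
theorem even_exists_lift (hF : Frame Q c f) {τ : Equiv.Perm (Fin 7)} (hτ : τ ∈ P8) :
    ∃ w ∈ Subgroup.closure ({W Q f 0 1 2 3, W Q f 0 2 4 5} : Set (OG F ⇑Q)),
      IsMono Q f w τ := by
  unfold P8 at hτ
  induction hτ using Subgroup.closure_induction with
  | mem x hx =>
    rcases hx with rfl | rfl
    · exact ⟨W Q f 0 1 2 3, Subgroup.subset_closure (by simp),
        W_isMono hF (by decide) (by decide) (by decide) (by decide) (by decide) (by decide)⟩
    · exact ⟨W Q f 0 2 4 5, Subgroup.subset_closure (by simp),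
        W_isMono hF (by decide) (by decide) (by decide) (by decide) (by decide) (by decide)⟩
  | one => exact ⟨1, Subgroup.one_mem _, isMono_one f⟩
  | mul x y _ _ hx hy =>
    obtain ⟨w1, h1, m1⟩ := hx
    obtain ⟨w2, h2, m2⟩ := hy
    exact ⟨w1 * w2, Subgroup.mul_mem _ h1 h2, isMono_mul m1 m2⟩
  | inv x _ hx =>
    obtain ⟨w, h, m⟩ := hx
    exact ⟨w⁻¹, Subgroup.inv_mem _ h, isMono_inv m⟩

theorem even_lift_le_Omega (hF : Frame Q c f) :
    Subgroup.closure ({W Q f 0 1 2 3, W Q f 0 2 4 5} : Set (OG F ⇑Q)) ≤ Cfsg.Omega F ⇑Q := by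
  rw [Subgroup.closure_le]
  rintro _ (rfl | rfl)
  · exact W_mem_Omega hF (by decide) (by decide)
  · exact W_mem_Omega hF (by decide) (by decide)

/-- a monomial element over `P8` of determinant `1` is a word in `W 0 1 2 3`, `W 0 2 4 5` times a
product of `D i j`'s -/
theorem even_decomp (hF : Frame Q c f) (y : OG F ⇑Q)
    (hdet : ((y : GL ι F) : Matrix ι ι F).det = 1) {τ : Equiv.Perm (Fin 7)} (hτ : τ ∈ P8)
    (hm : IsMono Q f y τ) :
    ∃ w ∈ Subgroup.closure ({W Q f 0 1 2 3, W Q f 0 2 4 5} : Set (OG F ⇑Q)),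
      w⁻¹ * y ∈ Subgroup.closure {y : OG F ⇑Q | ∃ i j : Fin 7, i ≠ j ∧ y = D Q f i j} := by
  obtain ⟨w, hw, hwm⟩ := even_exists_lift hF hτ
  refine ⟨w, hw, ?_⟩
  have hwΩ : w ∈ Cfsg.Omega F ⇑Q := even_lift_le_Omega hF hw
  have hd : IsMono Q f (w⁻¹ * y) 1 := by
    have := isMono_mul (isMono_inv hwm) hm
    rwa [inv_mul_cancel] at this
  have hdet' : ((((w⁻¹ * y : OG F ⇑Q)) : GL ι F) : Matrix ι ι F).det = 1 := by
    rw [← evenDet_eq_one_iff, map_mul, map_inv, (evenDet_eq_one_iff w).2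
      (det_eq_one_of_mem_Omega hwΩ), (evenDet_eq_one_iff y).2 hdet]
    simp
  exact diag_mem_closure hF (w⁻¹ * y) hdet' hd

theorem even_diag_le_Omega (hF : Frame Q c f) :
    Subgroup.closure {y : OG F ⇑Q | ∃ i j : Fin 7, i ≠ j ∧ y = D Q f i j} ≤
      Cfsg.Omega F ⇑Q := by
  rw [Subgroup.closure_le]
  rintro _ ⟨i, j, hij, rfl⟩
  exact D_mem_Omega hF hij

theorem even_mem_Omega_of_P8 (hF : Frame Q c f) (y : OG F ⇑Q)
    (hdet : ((y : GL ι F) : Matrix ι ι F).det = 1) {τ : Equiv.Perm (Fin 7)} (hτ : τ ∈ P8)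
    (hm : IsMono Q f y τ) : y ∈ Cfsg.Omega F ⇑Q := by
  obtain ⟨w, hw, hwy⟩ := even_decomp hF y hdet hτ hm
  have h1 : w ∈ Cfsg.Omega F ⇑Q := even_lift_le_Omega hF hw
  have h2 : w⁻¹ * y ∈ Cfsg.Omega F ⇑Q := even_diag_le_Omega hF hwy
  have : y = w * (w⁻¹ * y) := by group
  rw [this]
  exact mul_mem h1 h2

/-- a reflection fixes the vectors orthogonal to its root -/
theorem even_refl_fix {v : ι → F} (hv : Q v ≠ 0) {x : ι → F} (hx : polar Q v x = 0) :
    actHom (⇑Q) (reflIso' Q v) x = x := by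
  rw [act_reflIso' hv, hx, mul_zero, zero_smul, sub_zero]

theorem even_refl_self {v : ι → F} (hv : Q v ≠ 0) :
    actHom (⇑Q) (reflIso' Q v) v = - v := by
  rw [act_reflIso' hv, polar_self]
  have : (Q v)⁻¹ * (2 • Q v) = 2 := by
    rw [nsmul_eq_mul, Nat.cast_ofNat]; field_simp
  rw [this, two_smul]
  abel

theorem even_polar_frame (hF : Frame Q c f) (i j : Fin 7) :
    polar Q (f i) (f j) = if i = j then 2 * c else 0 := by
  split_ifs with h
  · subst h; exact frame_polar_self hF i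
  · exact hF.orth i j h

theorem even_R_isMono (hF : Frame Q c f) :
    IsMono Q f (reflIso' Q (f 4 - f 5) * reflIso' Q (f 6)) (Equiv.swap 4 5) := by
  have h6 : Q (f 6) ≠ 0 := frame_Q_ne hF 6
  have h45 : Q (f 4 - f 5) ≠ 0 := frame_Q_sub_ne hF (by decide)
  have hQ45 : Q (f 4 - f 5) = 2 * c := frame_Q_sub hF (by decide)
  have h2c : (2 * c : F) ≠ 0 := mul_ne_zero hF.two hF.c0
  have hfix6 : ∀ i : Fin 7, i ≠ 6 → actHom (⇑Q) (reflIso' Q (f 6)) (f i) = f i := by
    intro i hi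
    exact even_refl_fix h6 (hF.orth 6 i (Ne.symm hi))
  have hfix45 : ∀ i : Fin 7, i ≠ 4 → i ≠ 5 →
      actHom (⇑Q) (reflIso' Q (f 4 - f 5)) (f i) = f i := by
    intro i hi4 hi5
    apply even_refl_fix h45
    rw [polar_sub_left, hF.orth 4 i (Ne.symm hi4), hF.orth 5 i (Ne.symm hi5), sub_zero]
  have h4 : actHom (⇑Q) (reflIso' Q (f 4 - f 5)) (f 4) = f 5 := by
    rw [act_reflIso' h45, polar_sub_left, frame_polar_self hF 4, hF.orth 5 4 (by decide), hQ45,
      sub_zero, inv_mul_cancel₀ h2c, one_smul]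
    abel
  have h5 : actHom (⇑Q) (reflIso' Q (f 4 - f 5)) (f 5) = f 4 := by
    rw [act_reflIso' h45, polar_sub_left, frame_polar_self hF 5, hF.orth 4 5 (by decide), hQ45,
      zero_sub, mul_neg, inv_mul_cancel₀ h2c, neg_smul, one_smul]
    abel
  intro i
  rw [act_mul]
  fin_cases i
  · left
    rw [hfix6 _ (by decide), hfix45 _ (by decide) (by decide)]
    congr 1
  · left
    rw [hfix6 _ (by decide), hfix45 _ (by decide) (by decide)]
    congr 1
  · left
    rw [hfix6 _ (by decide), hfix45 _ (by decide) (by decide)]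
    congr 1
  · left
    rw [hfix6 _ (by decide), hfix45 _ (by decide) (by decide)]
    congr 1
  · left
    rw [hfix6 _ (by decide)]
    exact h4
  · left
    rw [hfix6 _ (by decide)]
    exact h5
  · right
    show actHom (⇑Q) (reflIso' Q (f 4 - f 5)) (actHom (⇑Q) (reflIso' Q (f 6)) (f 6)) = _
    rw [even_refl_self h6, map_neg, hfix45 _ (by decide) (by decide)]
    congr 1

theorem even_R_det (hF : Frame Q c f) :
    (((reflIso' Q (f 4 - f 5) * reflIso' Q (f 6) : OG F ⇑Q) : GL ι F) : Matrix ι ι F).det = 1 := by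
  have h6 : Q (f 6) ≠ 0 := frame_Q_ne hF 6
  have h45 : Q (f 4 - f 5) ≠ 0 := frame_Q_sub_ne hF (by decide)
  have : (((reflIso' Q (f 4 - f 5) * reflIso' Q (f 6) : OG F ⇑Q) : GL ι F) : Matrix ι ι F) =
      Cfsg.reflectionMatrix (⇑Q) (f 4 - f 5) * Cfsg.reflectionMatrix (⇑Q) (f 6) := by
    rw [← reflIso'_coe Q h45, ← reflIso'_coe Q h6]
    rfl
  rw [this, Matrix.det_mul, reflectionMatrix_det Q h45, reflectionMatrix_det Q h6]
  norm_num

/-- (EVEN) the permutation of a monomial element of `Ω` is even. -/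
theorem perm_mem_P8 (hF : Frame Q c f) (h2 : ¬ IsSquare (2 : F)) (x : OG F ⇑Q)
    (hx : x ∈ Cfsg.Omega F ⇑Q) (σ : Equiv.Perm (Fin 7)) (hσ : σ ∈ P16) (hm : IsMono Q f x σ) :
    σ ∈ P8 := by
  rcases even_P16_cases hσ with h | h
  · exact h
  · exfalso
    apply R_not_mem_Omega hF h2
    set R : OG F ⇑Q := reflIso' Q (f 4 - f 5) * reflIso' Q (f 6) with hR
    have hy : IsMono Q f (x * R) (σ * Equiv.swap 4 5) := isMono_mul hm (even_R_isMono hF)
    have hdet : (((x * R : OG F ⇑Q) : GL ι F) : Matrix ι ι F).det = 1 := by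
      rw [← evenDet_eq_one_iff, map_mul, (evenDet_eq_one_iff x).2 (det_eq_one_of_mem_Omega hx),
        (evenDet_eq_one_iff R).2 (even_R_det hF), one_mul]
    have hyΩ : x * R ∈ Cfsg.Omega F ⇑Q := even_mem_Omega_of_P8 hF (x * R) hdet h hy
    have : R = x⁻¹ * (x * R) := by group
    rw [this]
    exact mul_mem (inv_mem hx) hyΩ

end Cfsg.Agent.Helper79.Om7
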