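import Mathlib
import Cfsg.Prelude.Def_FusionSystem
import Cfsg.Agent.Lib.Helper87.Om7Defs
import Cfsg.Agent.Lib.Helper46.Om7API2b
import Cfsg.Agent.Lib.Helper79.Om7EVEN

/-!
# OM7 server (helper87, S2647), piece (C5): `generate`

`S0 = Ω ∩ mono` is generated by the `D i j`, `W 0 1 2 3` and `W 0 2 4 5`.
-/

set_option autoImplicit false

namespace Cfsg.Agent.Helper79.Om7

open Matrix QuadraticMap Cfsg.Agent.Helper36.QuadInv Cfsg.Agent.Helper36.OmegaTrans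
  Cfsg.Agent.Helper43 Cfsg.Agent.Helper87.Om7
open Cfsg.Agent.Helper46.Om7

variable {F : Type*} [Field F] [Fintype F] [DecidableEq F] {ι : Type} [Fintype ι] [DecidableEq ι]
variable {Q : QuadraticForm F (ι → F)} {c : F} {f : Fin 7 → ι → F}

/-- (C5) -/
theorem generate (hF : Frame Q c f) (h2 : ¬ IsSquare (2 : F)) (T : Subgroup (OG F ⇑Q))
    (hE : ∀ i j : Fin 7, i ≠ j → D Q f i j ∈ T) (hW1 : W Q f 0 1 2 3 ∈ T)
    (hW2 : W Q f 0 2 4 5 ∈ T) (x : OG F ⇑Q) (hx : x ∈ Cfsg.Omega F ⇑Q) (hxm : x ∈ mono Q f) :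
    x ∈ T := by
  obtain ⟨σ, hσ, hm⟩ := hxm
  have hσ8 : σ ∈ P8 := perm_mem_P8 hF h2 x hx σ hσ hm
  obtain ⟨w, hw, hwx⟩ := even_decomp hF x (det_eq_one_of_mem_Omega hx) hσ8 hm
  have h1 : w ∈ T := by
    refine (Subgroup.closure_le T).2 ?_ hw
    rintro _ (rfl | rfl)
    · exact hW1
    · exact hW2
  have h3 : w⁻¹ * x ∈ T := by
    refine (Subgroup.closure_le T).2 ?_ hwx
    rintro _ ⟨i, j, hij, rfl⟩
    exact hE i j hij
  have : x = w * (w⁻¹ * x) := by group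
  rw [this]
  exact mul_mem h1 h3

end Cfsg.Agent.Helper79.Om7
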