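import Mathlib
import Cfsg.Agent.Lib.Helper93.RU0
import Cfsg.Agent.Lib.Helper35.RJ0
import Cfsg.Agent.Lib.Helper82.RUA

/-!
# RJ (CM) for helper35's server (S2279): the general commutator rule for transvections
`[1 + aφᵀ, 1 + a'φ'ᵀ] = 1 - (φ'⬝a) a'φᵀ` when `φ⬝a' = 0`.
-/

set_option autoImplicit false

namespace Cfsg.Agent.Helper79.RJ

open Matrix Cfsg.Agent.Helper93.RU Cfsg.Agent.Helper35.RJ

variable {F : Type*} [Field F] {m : ℕ}

/-- (CM) general commutator rule. -/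
theorem comm_tvS (a a' φ φ' : Fin (m + 3) → F) (h1 : φ ⬝ᵥ a = 0) (h2 : φ' ⬝ᵥ a' = 0)
    (h3 : φ ⬝ᵥ a' = 0) :
    tvS a φ * tvS a' φ' * (tvS a φ)⁻¹ * (tvS a' φ')⁻¹ = tvS a' (-(φ' ⬝ᵥ a) • φ) := by
  have h4 : (-(φ' ⬝ᵥ a) • φ) ⬝ᵥ a' = 0 := by rw [smul_dotProduct, h3, smul_zero]
  have hn1 : (-φ) ⬝ᵥ a = 0 := by rw [neg_dotProduct, h1, neg_zero]
  have hn2 : (-φ') ⬝ᵥ a' = 0 := by rw [neg_dotProduct, h2, neg_zero]
  rw [Cfsg.Agent.Helper82.RU.tvS_inv a φ h1, Cfsg.Agent.Helper82.RU.tvS_inv a' φ' h2]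
  apply Subtype.ext
  simp only [Matrix.SpecialLinearGroup.coe_mul]
  rw [Cfsg.Agent.Helper82.RU.tvS_val a φ h1, Cfsg.Agent.Helper82.RU.tvS_val a' φ' h2,
    Cfsg.Agent.Helper82.RU.tvS_val a (-φ) hn1, Cfsg.Agent.Helper82.RU.tvS_val a' (-φ') hn2,
    Cfsg.Agent.Helper82.RU.tvS_val a' _ h4]
  unfold tvM
  have hAB : vecMulVec a φ * vecMulVec a' φ' = 0 := by
    rw [Matrix.vecMulVec_mul_vecMulVec, h3, zero_smul, Matrix.vecMulVec_zero]
  have hBA : vecMulVec a' φ' * vecMulVec a φ = vecMulVec a' ((φ' ⬝ᵥ a) • φ) := by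
    rw [Matrix.vecMulVec_mul_vecMulVec]
  have hAA : vecMulVec a φ * vecMulVec a φ = 0 := by
    rw [Matrix.vecMulVec_mul_vecMulVec, h1, zero_smul, Matrix.vecMulVec_zero]
  have hBB : vecMulVec a' φ' * vecMulVec a' φ' = 0 := by
    rw [Matrix.vecMulVec_mul_vecMulVec, h2, zero_smul, Matrix.vecMulVec_zero]
  rw [Matrix.vecMulVec_neg, Matrix.vecMulVec_neg, neg_smul, Matrix.vecMulVec_neg, ← hBA]
  generalize vecMulVec a φ = A at *
  generalize vecMulVec a' φ' = B at *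
  have e1 : (1 + A) * (1 + B) = 1 + A + B := by
    calc (1 + A) * (1 + B) = 1 + A + B + A * B := by noncomm_ring
      _ = 1 + A + B := by rw [hAB, add_zero]
  have e2 : (1 + A + B) * (1 + -A) = 1 + B - B * A := by
    calc (1 + A + B) * (1 + -A) = 1 + B - B * A - A * A := by noncomm_ring
      _ = 1 + B - B * A := by rw [hAA, sub_zero]
  have e3 : (1 + B - B * A) * (1 + -B) = 1 + -(B * A) := by
    calc (1 + B - B * A) * (1 + -B) = 1 + -(B * A) - B * B + B * (A * B) := by noncomm_ring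
      _ = 1 + -(B * A) := by rw [hBB, hAB, mul_zero, sub_zero, add_zero]
  rw [e1, e2, e3]

end Cfsg.Agent.Helper79.RJ
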