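import Mathlib
import Cfsg.Agent.Lib.Helper35.RJ1
import Cfsg.Agent.Lib.Helper29.RJF5

/-!
# RJ (F6) for helper35's server (S2279): the field argument fills every `L d`
(hypothesis-explicit core `h79_field_fill_of`, then the verbatim piece with helper29's (F5)).
-/

set_option autoImplicit false

namespace Cfsg.Agent.Helper79.RJ

open Cfsg.Agent.Helper35.RJ

variable {F : Type*} [Field F] {m : ℕ}

/-- (F1) reproved: `λ^(d+1) ∈ L d` for `2 ≤ d ≤ m + 1` -/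
theorem h79_pow_mem_L (lam : F) (L : ℕ → AddSubgroup F) (h1 : lam ^ 3 ∈ L 2)
    (h2 : ∀ d, d ≤ m → ∀ x ∈ L d, lam * x ∈ L (d + 1)) (d : ℕ) (hd2 : 2 ≤ d) (hd : d ≤ m + 1) :
    lam ^ (d + 1) ∈ L d := by
  induction d, hd2 using Nat.le_induction with
  | base => exact h1
  | succ d hd2 ih =>
    have := h2 d (by omega) _ (ih (by omega))
    rwa [← pow_succ'] at this

theorem h79_pow_mem_Mult (lam : F) (L : ℕ → AddSubgroup F) (hM : lam ∈ Mult m L) (k : ℕ) :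
    lam ^ k ∈ Mult m L := by
  induction k with
  | zero =>
    intro d _ x hx
    rwa [pow_zero, one_mul]
  | succ k ih =>
    intro d hd x hx
    rw [pow_succ, mul_assoc]
    exact ih d hd _ (hM d hd x hx)

/-- (F6), with (F5) as a hypothesis -/
theorem h79_field_fill_of (hm : 1 ≤ m) (lam : F) (hlam : lam ≠ 0)
    (hgen : ∀ a : F, a ≠ 0 → ∃ k : ℕ, a = lam ^ k) (L : ℕ → AddSubgroup F)
    (h1 : lam ^ 3 ∈ L 2) (h2 : ∀ d, d ≤ m → ∀ x ∈ L d, lam * x ∈ L (d + 1))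
    (h3 : ∀ d d' r, d ≤ m + 1 → d' ≤ m + 1 → m + 2 ≤ r → r ≤ d + d' → ∀ x ∈ L d, ∀ y ∈ L d',
      (Nat.choose r (m + 2) : F) * x * y ∈ L (d + d' - r))
    (hM : lam ∈ Mult m L) :
    ∀ d, d ≤ m + 1 → L d = ⊤ := by
  -- nonzero elements
  have hy : lam ^ (m + 2) ∈ L (m + 1) := h79_pow_mem_L lam L h1 h2 (m + 1) (by omega) le_rfl
  have hx1 : lam ^ 3 * lam ^ (m + 2) ∈ L 1 := by
    have := h3 2 (m + 1) (m + 2) (by omega) le_rfl le_rfl (by omega) _ h1 _ hy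
    have e : 2 + (m + 1) - (m + 2) = 1 := by omega
    rw [e, Nat.choose_self, Nat.cast_one, one_mul] at this
    exact this
  have hx0 : lam ^ 3 * lam ^ (m + 2) * lam ^ (m + 2) ∈ L 0 := by
    have := h3 1 (m + 1) (m + 2) (by omega) le_rfl le_rfl (by omega) _ hx1 _ hy
    have e : 1 + (m + 1) - (m + 2) = 0 := by omega
    rw [e, Nat.choose_self, Nat.cast_one, one_mul] at this
    exact this
  have hne : ∀ d, d ≤ m + 1 → ∃ x ∈ L d, x ≠ 0 := by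
    intro d hd
    rcases Nat.lt_or_ge d 2 with h | h
    · interval_cases d
      · exact ⟨_, hx0, mul_ne_zero (mul_ne_zero (pow_ne_zero _ hlam) (pow_ne_zero _ hlam))
          (pow_ne_zero _ hlam)⟩
      · exact ⟨_, hx1, mul_ne_zero (pow_ne_zero _ hlam) (pow_ne_zero _ hlam)⟩
    · exact ⟨_, h79_pow_mem_L lam L h1 h2 d h hd, pow_ne_zero _ hlam⟩
  intro d hd
  obtain ⟨x, hx, hx0'⟩ := hne d hd
  rw [eq_top_iff]
  intro y _
  by_cases hy0 : y = 0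
  · rw [hy0]; exact (L d).zero_mem
  · obtain ⟨k, hk⟩ := hgen (y * x⁻¹) (mul_ne_zero hy0 (inv_ne_zero hx0'))
    have := h79_pow_mem_Mult lam L hM k d hd x hx
    rw [← hk, mul_assoc, inv_mul_cancel₀ hx0', mul_one] at this
    exact this

/-- (F6) -/
theorem field_fill [Fintype F] (hm : 1 ≤ m) (lam : F) (hlam : lam ≠ 0)
    (hgen : ∀ a : F, a ≠ 0 → ∃ k : ℕ, a = lam ^ k) (L : ℕ → AddSubgroup F)
    (h1 : lam ^ 3 ∈ L 2) (h2 : ∀ d, d ≤ m → ∀ x ∈ L d, lam * x ∈ L (d + 1))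
    (h3 : ∀ d d' r, d ≤ m + 1 → d' ≤ m + 1 → m + 2 ≤ r → r ≤ d + d' → ∀ x ∈ L d, ∀ y ∈ L d',
      (Nat.choose r (m + 2) : F) * x * y ∈ L (d + d' - r)) :
    ∀ d, d ≤ m + 1 → L d = ⊤ :=
  h79_field_fill_of hm lam hlam hgen L h1 h2 h3
    (Cfsg.Agent.Helper29.RJ.lam_mem_Mult hm lam hlam L h1 h2 h3)

end Cfsg.Agent.Helper79.RJ
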