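import Mathlib
import Cfsg.Prelude.Def_Characters
import Cfsg.Prelude.Def_Blocks
import Cfsg.Agent.Lib.Helper80.RMKDefs
import Cfsg.Agent.Lib.Helper80.RMKBasic
import Cfsg.Agent.Lib.Helper81.CharCorr
import Cfsg.Agent.Lib.Helper81.CharRam
import Cfsg.Agent.Lib.Helper79.CharBasic
import Cfsg.Agent.Lib.Helper79.Glaub.RealCorr

/-!
# RMK (CLIF), abstract part: the Clifford correspondence as a count of good characters
-/

set_option autoImplicit false
set_option linter.style.haveILetI false
set_option linter.unusedSectionVars false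

namespace Cfsg.Agent.Helper79.RMK

open Cfsg Cfsg.Agent.Helper80 Cfsg.Agent.Helper80.RMK Cfsg.Agent.Helper81
open scoped ComplexConjugate

universe u

section Abs

variable {𝓗 : Type u} [Group 𝓗] [Fintype 𝓗]

theorem h79_extendByZero_conj (T : Subgroup 𝓗) (η : T → ℂ) (y : 𝓗) :
    extendByZero T (fun t => conj (η t)) y = conj (extendByZero T η y) := by
  by_cases hy : y ∈ T
  · have : y = ((⟨y, hy⟩ : T) : 𝓗) := rfl
    rw [this, extendByZero_apply_coe, extendByZero_apply_coe]
  · rw [extendByZero_apply_not_mem T _ hy, extendByZero_apply_not_mem T _ hy, map_zero]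

theorem h79_indFun_conj (T : Subgroup 𝓗) (η : T → ℂ) (g : 𝓗) :
    indFun T (fun t => conj (η t)) g = conj (indFun T η g) := by
  rw [indFun_apply, indFun_apply, map_mul, map_inv₀, Complex.conj_natCast, map_sum]
  congr 1
  apply Finset.sum_congr rfl
  intro x _
  exact h79_extendByZero_conj T η _

theorem h79_charDegree_indFun (T : Subgroup 𝓗) (η : IrrCharacter T) :
    charDegree (indFun T (η : T → ℂ)) = T.index * charDegree (η : T → ℂ) := by
  have h1 : indFun T (η : T → ℂ) 1 = ((T.index * charDegree (η : T → ℂ) : ℕ) : ℂ) := by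
    rw [indFun_one, (Cfsg.Agent.Helper79.irr_one_eq η).1]
    push_cast
    ring
  unfold charDegree at h1 ⊢
  rw [h1, Complex.natCast_re, Nat.floor_natCast]

theorem h79_real_iff_conj {A : Type u} (f : A → ℂ) :
    (∀ a, (f a).im = 0) ↔ (fun a => conj (f a)) = f := by
  constructor
  · intro h
    funext a
    exact Complex.conj_eq_iff_im.2 (h a)
  · intro h a
    exact Complex.conj_eq_iff_im.1 (congrFun h a)

/-- the Clifford correspondence as a count -/
theorem h79_clifford_count_abs (r : Bool) (N T : Subgroup 𝓗) [Fintype N] [Fintype T]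
    (hN : N.Normal) (hNT : N ≤ T) {θ : N → ℂ} (hθ : IsIrrCharacter N θ)
    (hT : ∀ g : 𝓗, g ∈ T ↔ conjFun N hN θ g = θ)
    (hθr : r = true → ∀ n : N, (θ n).im = 0) (hodd : Odd T.index) :
    Nat.card {ψ : IrrCharacter 𝓗 // Good r ψ ∧
        classInner (fun n : N => (ψ : 𝓗 → ℂ) n) θ ≠ 0} =
    Nat.card {η : IrrCharacter T // Good r η ∧ classInner (resTo hNT (η : T → ℂ)) θ ≠ 0} := by
  classical
  symm
  -- conjugation of `resTo`
  have hres_conj : ∀ η : T → ℂ, resTo hNT (fun t => conj (η t)) = fun n => conj (resTo hNT η n) :=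
    fun η => rfl
  have hover_conj : r = true → ∀ η : T → ℂ, classInner (resTo hNT η) θ ≠ 0 →
      classInner (resTo hNT (fun t => conj (η t))) θ ≠ 0 := by
    intro hr η hne
    have hθc : (fun n => conj (θ n)) = θ := (h79_real_iff_conj θ).1 (hθr hr)
    rw [hres_conj, ← hθc, Cfsg.Agent.Helper79.Glaub.classInner_cconj]
    intro h0
    apply hne
    have := congrArg conj h0
    rw [Complex.conj_conj, map_zero] at this
    exact this
  -- goodness transfers
  have hgood : ∀ η : IrrCharacter T, classInner (resTo hNT (η : T → ℂ)) θ ≠ 0 →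
      ∀ hirr : IsIrrCharacter 𝓗 (indFun T (η : T → ℂ)),
      (Good r (⟨indFun T (η : T → ℂ), hirr⟩ : IrrCharacter 𝓗) ↔ Good r η) := by
    intro η hne hirr
    unfold Good
    have hdeg := h79_charDegree_indFun T η
    apply and_congr
    · apply imp_congr_right
      intro hr
      show (∀ a : 𝓗, (indFun T (η : T → ℂ) a).im = 0) ↔ ∀ a : T, ((η : T → ℂ) a).im = 0
      constructor
      · intro hψ
        rw [h79_real_iff_conj] at hψ ⊢
        have h1 : indFun T (fun t => conj ((η : T → ℂ) t)) = indFun T (η : T → ℂ) := by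
          funext g
          rw [h79_indFun_conj]
          exact congrFun hψ g
        exact clifford_corr_inj N T hN hNT hθ hT (Cfsg.Agent.Helper80.isIrrCharacter_cconj η.2) η.2
          (hover_conj hr _ hne) hne h1
      · intro hη
        rw [h79_real_iff_conj] at hη ⊢
        funext g
        rw [← h79_indFun_conj, hη]
    · show Odd (charDegree (indFun T (η : T → ℂ))) ↔ Odd (charDegree (η : T → ℂ))
      rw [hdeg, Nat.odd_mul]
      exact ⟨fun h => h.2, fun h => ⟨hodd, h⟩⟩
  -- the map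
  have hcorr : ∀ η : {η : IrrCharacter T // Good r η ∧ classInner (resTo hNT (η : T → ℂ)) θ ≠ 0},
      IsIrrCharacter 𝓗 (indFun T (η.1 : T → ℂ)) ∧
        classInner (fun n : N => indFun T (η.1 : T → ℂ) (n : 𝓗)) θ =
          classInner (resTo hNT (η.1 : T → ℂ)) θ :=
    fun η => clifford_corr_irr N T hN hNT hθ hT η.1.2 η.2.2
  let F : {η : IrrCharacter T // Good r η ∧ classInner (resTo hNT (η : T → ℂ)) θ ≠ 0} →
      {ψ : IrrCharacter 𝓗 // Good r ψ ∧ classInner (fun n : N => (ψ : 𝓗 → ℂ) n) θ ≠ 0} :=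
    fun η => ⟨⟨indFun T (η.1 : T → ℂ), (hcorr η).1⟩,
      (hgood η.1 η.2.2 (hcorr η).1).2 η.2.1, by
        show classInner (fun n : N => indFun T (η.1 : T → ℂ) (n : 𝓗)) θ ≠ 0
        rw [(hcorr η).2]
        exact η.2.2⟩
  apply Nat.card_congr
  refine Equiv.ofBijective F ⟨?_, ?_⟩
  · intro η η' h
    have h1 : indFun T (η.1 : T → ℂ) = indFun T (η'.1 : T → ℂ) := by
      have := congrArg (fun ψ : {ψ : IrrCharacter 𝓗 // Good r ψ ∧
        classInner (fun n : N => (ψ : 𝓗 → ℂ) n) θ ≠ 0} => (ψ.1 : 𝓗 → ℂ)) h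
      exact this
    apply Subtype.ext
    apply Subtype.ext
    exact clifford_corr_inj N T hN hNT hθ hT η.1.2 η'.1.2 η.2.2 η'.2.2 h1
  · intro ψ
    obtain ⟨η, hη, hind, hmult⟩ := clifford_corr_surj N T hN hNT hθ hT ψ.1.2 ψ.2.2
    have hne : classInner (resTo hNT η) θ ≠ 0 := by
      rw [hmult]
      exact ψ.2.2
    have hirr : IsIrrCharacter 𝓗 (indFun T ((⟨η, hη⟩ : IrrCharacter T) : T → ℂ)) := by
      show IsIrrCharacter 𝓗 (indFun T η)
      rw [hind]
      exact ψ.1.2
    have hg : Good r (⟨η, hη⟩ : IrrCharacter T) := by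
      rw [← hgood ⟨η, hη⟩ hne hirr]
      have : (⟨indFun T ((⟨η, hη⟩ : IrrCharacter T) : T → ℂ), hirr⟩ : IrrCharacter 𝓗) = ψ.1 :=
        Subtype.ext hind
      rw [this]
      exact ψ.2.1
    refine ⟨⟨⟨η, hη⟩, hg, hne⟩, ?_⟩
    apply Subtype.ext
    apply Subtype.ext
    exact hind

end Abs

end Cfsg.Agent.Helper79.RMK
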