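import Mathlib
import Cfsg.Prelude.Def_Characters
import Cfsg.Prelude.Def_Blocks
import Cfsg.Agent.Lib.Helper80.RMKDefs
import Cfsg.Agent.Lib.Helper80.RMKBasic
import Cfsg.Agent.Lib.Helper79.RMKCLIFa

/-!
# RMK (CLIF): the Clifford correspondence inside `H`, as a count
-/

set_option autoImplicit false
set_option linter.style.haveILetI false
set_option linter.unusedSectionVars false

namespace Cfsg.Agent.Helper79.RMK

open Cfsg Cfsg.Agent.Helper80 Cfsg.Agent.Helper80.RMK
open scoped ComplexConjugate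

universe u

/-- `Good` is invariant under pulling back along an isomorphism -/
theorem h79_good_irrComp (r : Bool) {A B : Type u} [Group A] [Group B] (e : B ≃* A)
    (χ : IrrCharacter A) : Good r (Cfsg.Agent.Helper79.Glaub.irrComp e χ) ↔ Good r χ := by
  unfold Good
  apply and_congr
  · apply imp_congr_right
    intro _
    constructor
    · intro h a
      have := h (e.symm a)
      rwa [Cfsg.Agent.Helper79.Glaub.irrComp_apply, MulEquiv.apply_symm_apply] at this
    · intro h b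
      rw [Cfsg.Agent.Helper79.Glaub.irrComp_apply]
      exact h (e b)
  · have : charDegree (Cfsg.Agent.Helper79.Glaub.irrComp e χ : B → ℂ) = charDegree (χ : A → ℂ) := by
      unfold charDegree
      rw [Cfsg.Agent.Helper79.Glaub.irrComp_apply, map_one]
    rw [this]

/-- `Over` in terms of `classInner`, for a subgroup `S` of the ambient group between `M` and `H`,
read inside `↥H` -/
theorem h79_over_iff {G : Type u} [Group G] [Finite G] (M H S : Subgroup G) (hMS : M ≤ S)
    (hSH : S ≤ H) (θ : IrrCharacter ↥M) [Fintype ↥(M.subgroupOf H)]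
    (η : IrrCharacter ↥S)
    (hNT : M.subgroupOf H ≤ S.subgroupOf H) :
    Over hMS η θ ↔
      classInner (Cfsg.Agent.Helper81.resTo hNT
        (fun t : ↥(S.subgroupOf H) => (η : ↥S → ℂ) (Subgroup.subgroupOfEquivOfLe hSH t)))
        (fun n : ↥(M.subgroupOf H) =>
          (θ : ↥M → ℂ) (Subgroup.subgroupOfEquivOfLe (hMS.trans hSH) n)) ≠ 0 := by
  classical
  unfold Over classInner
  haveI : Fintype ↥M := Fintype.ofFinite _
  rw [finsum_eq_sum_of_fintype]
  have hc : (Nat.card ↥(M.subgroupOf H) : ℂ)⁻¹ ≠ 0 := by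
    apply inv_ne_zero
    exact_mod_cast (Nat.card_pos (α := ↥(M.subgroupOf H))).ne'
  rw [Ne, Ne, mul_eq_zero, not_or]
  have hsum : ∑ m : ↥M, (η : ↥S → ℂ) (Subgroup.inclusion hMS m) * conj ((θ : ↥M → ℂ) m) =
      ∑ n : ↥(M.subgroupOf H), Cfsg.Agent.Helper81.resTo hNT
        (fun t : ↥(S.subgroupOf H) => (η : ↥S → ℂ) (Subgroup.subgroupOfEquivOfLe hSH t)) n *
        conj ((θ : ↥M → ℂ) (Subgroup.subgroupOfEquivOfLe (hMS.trans hSH) n)) := by
    rw [← (Subgroup.subgroupOfEquivOfLe (hMS.trans hSH)).toEquiv.sum_comp]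
    apply Finset.sum_congr rfl
    intro n _
    rfl
  rw [hsum]
  constructor
  · intro h
    exact ⟨hc, h⟩
  · intro h
    exact h.2

/-- (CLIF) Clifford correspondence inside `H`, as a count -/
theorem clifford_count (r : Bool) {G : Type u} [Group G] [Finite G] (M : Subgroup G)
    [hM : M.Normal] (H : Subgroup G) (hMH : M ≤ H) (θ : IrrCharacter ↥M)
    (hθ : r = true → ∀ m : ↥M, ((θ : ↥M → ℂ) m).im = 0)
    (hodd : Odd ((H ⊓ stab M θ).relIndex H)) :
    cntOver r hMH θ = cntOver r (le_inf hMH (le_stab M θ)) θ := by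
  classical
  haveI : Fintype ↥H := Fintype.ofFinite _
  have hMS : M ≤ H ⊓ stab M θ := le_inf hMH (le_stab M θ)
  have hSH : H ⊓ stab M θ ≤ H := inf_le_left
  set N : Subgroup ↥H := M.subgroupOf H with hNdef
  set T : Subgroup ↥H := (H ⊓ stab M θ).subgroupOf H with hTdef
  have hN : N.Normal := hM.subgroupOf H
  haveI : Fintype ↥N := Fintype.ofFinite _
  haveI : Fintype ↥T := Fintype.ofFinite _
  have hNT : N ≤ T := by
    intro n hn
    rw [hTdef, Subgroup.mem_subgroupOf]
    rw [hNdef, Subgroup.mem_subgroupOf] at hn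
    exact hMS hn
  let ιM : ↥N ≃* ↥M := Subgroup.subgroupOfEquivOfLe hMH
  let ιT : ↥T ≃* ↥(H ⊓ stab M θ) := Subgroup.subgroupOfEquivOfLe hSH
  set θ' : ↥N → ℂ := fun n => (θ : ↥M → ℂ) (ιM n) with hθ'def
  have hθ' : IsIrrCharacter ↥N θ' := Cfsg.Agent.Helper81.isIrrCharacter_comp_equiv ιM θ.2
  have hT : ∀ g : ↥H, g ∈ T ↔ Cfsg.Agent.Helper81.conjFun N hN θ' g = θ' := by
    intro g
    rw [hTdef, Subgroup.mem_subgroupOf, Subgroup.mem_inf, mem_stab_iff]
    constructor
    · rintro ⟨_, h⟩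
      funext n
      rw [Cfsg.Agent.Helper81.conjFun_apply]
      exact h (ιM n) (ιM ⟨g * n * g⁻¹, hN.conj_mem n n.2 g⟩) rfl
    · intro h
      refine ⟨g.2, ?_⟩
      intro n n' hn'
      have h1 := congrFun h (ιM.symm n)
      rw [Cfsg.Agent.Helper81.conjFun_apply] at h1
      have h2 : ιM ⟨g * (ιM.symm n : ↥H) * g⁻¹, hN.conj_mem _ (ιM.symm n).2 g⟩ = n' := by
        apply Subtype.ext
        rw [hn']
        rfl
      have h3 : θ' (ιM.symm n) = (θ : ↥M → ℂ) n := by
        show (θ : ↥M → ℂ) (ιM (ιM.symm n)) = _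
        rw [MulEquiv.apply_symm_apply]
      rw [h3] at h1
      rw [← h1]
      show (θ : ↥M → ℂ) n' = (θ : ↥M → ℂ) (ιM _)
      rw [h2]
  have hθr : r = true → ∀ n : ↥N, (θ' n).im = 0 := fun hr n => hθ hr (ιM n)
  have hoddT : Odd T.index := hodd
  have key := h79_clifford_count_abs r N T hN hNT hθ' hT hθr hoddT
  unfold cntOver
  -- left side
  have hL : Nat.card {ψ : IrrCharacter ↥H // Good r ψ ∧ Over hMH ψ θ} =
      Nat.card {ψ : IrrCharacter ↥H // Good r ψ ∧
        classInner (fun n : ↥N => (ψ : ↥H → ℂ) n) θ' ≠ 0} := by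
    apply Nat.card_congr
    apply Equiv.subtypeEquivRight
    intro ψ
    apply and_congr Iff.rfl
    have hNH : M.subgroupOf H ≤ H.subgroupOf H := by
      intro n _
      rw [Subgroup.mem_subgroupOf]
      exact n.2
    have := h79_over_iff M H H hMH le_rfl θ ψ hNH
    rw [this]
    rfl
  -- right side
  have hR : Nat.card {η : IrrCharacter ↥(H ⊓ stab M θ) // Good r η ∧ Over hMS η θ} =
      Nat.card {η : IrrCharacter ↥T // Good r η ∧
        classInner (Cfsg.Agent.Helper81.resTo hNT (η : ↥T → ℂ)) θ' ≠ 0} := by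
    apply Nat.card_congr
    refine
      { toFun := fun η => ⟨Cfsg.Agent.Helper79.Glaub.irrComp ιT η.1, ?_, ?_⟩
        invFun := fun η => ⟨Cfsg.Agent.Helper79.Glaub.irrComp ιT.symm η.1, ?_, ?_⟩
        left_inv := ?_
        right_inv := ?_ }
    · exact (h79_good_irrComp r ιT η.1).2 η.2.1
    · exact (h79_over_iff M H (H ⊓ stab M θ) hMS hSH θ η.1 hNT).1 η.2.2
    · exact (h79_good_irrComp r ιT.symm η.1).2 η.2.1
    · rw [h79_over_iff M H (H ⊓ stab M θ) hMS hSH θ _ hNT]
      have h1 : (fun t : ↥T => (Cfsg.Agent.Helper79.Glaub.irrComp ιT.symm η.1 :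
          ↥(H ⊓ stab M θ) → ℂ) (Subgroup.subgroupOfEquivOfLe hSH t)) = (η.1 : ↥T → ℂ) := by
        funext t
        rw [Cfsg.Agent.Helper79.Glaub.irrComp_apply]
        show (η.1 : ↥T → ℂ) (ιT.symm (ιT t)) = _
        rw [MulEquiv.symm_apply_apply]
      rw [h1]
      exact η.2.2
    · intro η
      apply Subtype.ext
      exact Cfsg.Agent.Helper79.Glaub.irrComp_symm' ιT η.1
    · intro η
      apply Subtype.ext
      exact Cfsg.Agent.Helper79.Glaub.irrComp_symm ιT η.1
  rw [hL, hR]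
  exact key

end Cfsg.Agent.Helper79.RMK
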