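import Mathlib
import Cfsg.Prelude.Def_Characters
import Cfsg.Prelude.Def_Blocks
import Cfsg.Agent.Lib.Helper80.RMKDefs
import Cfsg.Agent.Lib.Helper80.RMKBasic
import Cfsg.Agent.Lib.Helper81.CharDet
import Cfsg.Agent.Lib.Helper81.CharInd
import Cfsg.Agent.Lib.Helper81.CharRam
import Cfsg.Agent.Lib.Helper79.CharBasic
import Cfsg.Agent.Lib.Helper79.Inflation

/-!
# RMK (T3A): a nontrivial fixed point of `P` on an abelian normal subgroup `M` of odd order yields
an irreducible character of odd degree which is not trivial on `M` (via the transfer `MP → M`)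
-/

set_option autoImplicit false
set_option linter.style.haveILetI false
set_option linter.unusedSectionVars false

namespace Cfsg.Agent.Helper79.RMK

open Cfsg Cfsg.Agent.Helper80 Cfsg.Agent.Helper80.RMK Cfsg.Agent.Helper81
open scoped ComplexConjugate IsMulCommutative

universe u

/-- a linear character of `S ≥ M` which is nontrivial at a point of `M`, from a central element -/
theorem h79_exists_hom_ne_one {G : Type u} [Group G] [Finite G] (M : Subgroup G)
    (hodd : Odd (Nat.card ↥M)) (hcomm : ∀ a ∈ M, ∀ b ∈ M, a * b = b * a)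
    (P : Subgroup G) (hP : IsPGroup 2 ↥P) (hMn : M.Normal) (m₀ : G) (hm₀M : m₀ ∈ M)
    (hm₀P : m₀ ∈ Subgroup.centralizer (P : Set G)) (hm₀1 : m₀ ≠ 1) :
    ∃ lam : ↥(M ⊔ P) →* ℂˣ, lam ⟨m₀, (le_sup_left : M ≤ M ⊔ P) hm₀M⟩ ≠ 1 := by
  classical
  set S : Subgroup G := M ⊔ P with hS
  have hMS : M ≤ S := le_sup_left
  have hPS : P ≤ S := le_sup_right
  set H : Subgroup ↥S := M.subgroupOf S with hH
  let ιM : ↥H ≃* ↥M := Subgroup.subgroupOfEquivOfLe hMS
  haveI : IsMulCommutative ↥M := ⟨⟨fun a b => Subtype.ext (hcomm a a.2 b b.2)⟩⟩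
  set s₀ : ↥S := ⟨m₀, hMS hm₀M⟩ with hs₀
  -- the index is a power of two
  have hidx : H.index ∣ Nat.card ↥P := by
    have h1 : H.index = M.relIndex (M ⊔ P) := rfl
    rw [h1, Subgroup.relIndex_sup_left]
    exact Subgroup.relIndex_dvd_card M P
  obtain ⟨k, hk⟩ := hP.exists_card_eq
  have hcop : Nat.Coprime (orderOf m₀) H.index := by
    have h1 : orderOf m₀ ∣ Nat.card ↥M := by
      have := orderOf_dvd_natCard (⟨m₀, hm₀M⟩ : ↥M)
      rwa [Subgroup.orderOf_mk] at this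
    have h2 : Nat.Coprime (Nat.card ↥M) (2 ^ k) := by
      apply Nat.Coprime.pow_right
      exact (Nat.coprime_two_right.mpr hodd)
    rw [hk] at hidx
    exact Nat.Coprime.coprime_dvd_left h1 (Nat.Coprime.coprime_dvd_right hidx h2)
  have hpow : m₀ ^ H.index ≠ 1 := by
    intro h
    have h1 : orderOf m₀ ∣ H.index := orderOf_dvd_of_pow_eq_one h
    have h2 : orderOf m₀ = 1 := Nat.Coprime.eq_one_of_dvd hcop h1
    exact hm₀1 (orderOf_eq_one_iff.mp h2)
  -- a character of `M` separating `m₀ ^ index` from `1`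
  have ha : (⟨m₀, hm₀M⟩ : ↥M) ^ H.index ≠ 1 := by
    intro h
    apply hpow
    have := congrArg (fun x : ↥M => (x : G)) h
    simpa using this
  obtain ⟨φ₀, hφ₀⟩ := CommGroup.exists_apply_ne_one_of_hasEnoughRootsOfUnity (↥M) ℂ ha
  set ϕ : ↥H →* ℂˣ := φ₀.comp ιM.toMonoidHom with hϕ
  -- `s₀` is central in `S`
  have hcen : ∀ g : ↥S, g * s₀ = s₀ * g := by
    have hle : S ≤ Subgroup.centralizer ({m₀} : Set G) := by
      apply sup_le
      · intro a haM
        rw [Subgroup.mem_centralizer_iff]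
        intro h hh
        rw [Set.mem_singleton_iff] at hh
        rw [hh]
        exact hcomm m₀ hm₀M a haM
      · intro a haP
        rw [Subgroup.mem_centralizer_iff]
        intro h hh
        rw [Set.mem_singleton_iff] at hh
        rw [hh]
        exact ((Subgroup.mem_centralizer_iff.mp hm₀P) a haP).symm
    intro g
    apply Subtype.ext
    have := (Subgroup.mem_centralizer_iff.mp (hle g.2)) m₀ (Set.mem_singleton _)
    exact this.symm
  have hcenpow : ∀ (k : ℕ) (g : ↥S), g⁻¹ * s₀ ^ k * g = s₀ ^ k := by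
    intro k g
    have h1 : Commute g (s₀ ^ k) := (show Commute g s₀ from hcen g).pow_right k
    rw [mul_assoc, ← h1.eq, ← mul_assoc, inv_mul_cancel, one_mul]
  refine ⟨MonoidHom.transfer ϕ, ?_⟩
  rw [MonoidHom.transfer_eq_pow ϕ s₀ (fun k g₀ _ => hcenpow k g₀)]
  show φ₀ (ιM ⟨s₀ ^ H.index, _⟩) ≠ 1
  have h2 : ιM ⟨s₀ ^ H.index, MonoidHom.transfer_eq_pow_aux s₀ (fun k g₀ _ => hcenpow k g₀)⟩ =
      (⟨m₀, hm₀M⟩ : ↥M) ^ H.index := by
    apply Subtype.ext
    rfl
  rw [h2]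
  exact hφ₀

/-- (T3A) a nontrivial fixed point of `P` on an abelian normal subgroup `M` of odd order yields an
irreducible character of odd degree which is not trivial on `M` -/
theorem exists_odd_degree_nontrivial {G : Type u} [Group G] [Finite G] (M : Subgroup G)
    [M.Normal] (hodd : Odd (Nat.card ↥M)) (hcomm : ∀ a ∈ M, ∀ b ∈ M, a * b = b * a)
    (P : Sylow 2 G) (hfix : M ⊓ Subgroup.centralizer ((P : Subgroup G) : Set G) ≠ ⊥) :
    ∃ χ : IrrCharacter G, Odd (charDegree (χ : G → ℂ)) ∧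
      ∃ m ∈ M, (χ : G → ℂ) m ≠ (χ : G → ℂ) 1 := by
  classical
  haveI : Fintype G := Fintype.ofFinite G
  obtain ⟨⟨m₀, hm₀⟩, hm₀1'⟩ := (Subgroup.ne_bot_iff_exists_ne_one).mp hfix
  have hm₀1 : m₀ ≠ 1 := by
    intro h
    apply hm₀1'
    exact Subtype.ext h
  rw [Subgroup.mem_inf] at hm₀
  obtain ⟨S, hSdef⟩ : ∃ S : Subgroup G, S = M ⊔ (P : Subgroup G) := ⟨_, rfl⟩
  have hMS : M ≤ S := hSdef ▸ le_sup_left
  have hPS : (P : Subgroup G) ≤ S := hSdef ▸ le_sup_right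
  have hlamS : ∃ lam : ↥S →* ℂˣ, lam ⟨m₀, hMS hm₀.1⟩ ≠ 1 := by
    subst hSdef
    exact h79_exists_hom_ne_one M hodd hcomm (P : Subgroup G) P.isPGroup'
      inferInstance m₀ hm₀.1 hm₀.2 hm₀1
  obtain ⟨lam, hlam⟩ := hlamS
  haveI : Fintype ↥S := Fintype.ofFinite _
  obtain ⟨s₀, hs₀⟩ : ∃ s₀ : ↥S, s₀ = ⟨m₀, hMS hm₀.1⟩ := ⟨_, rfl⟩
  rw [← hs₀] at hlam
  have hs₀c : (s₀ : G) = m₀ := by rw [hs₀]
  obtain ⟨lc, hlc⟩ : ∃ lc : ↥S →* ℂ, lc = (Units.coeHom ℂ).comp lam := ⟨_, rfl⟩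
  have hlc1 : lc s₀ ≠ 1 := by
    intro h
    apply hlam
    apply Units.ext
    rw [hlc] at h
    exact h
  have hirr : IsIrrCharacter ↥S (lc : ↥S → ℂ) := isIrrCharacter_hom lc
  have hΘ : IsCharacter G (indFun S (lc : ↥S → ℂ)) :=
    isCharacter_indFun S (Cfsg.Agent.Helper81.IsIrrCharacter.isCharacter hirr)
  haveI : Fintype (IrrCharacter G) := @Fintype.ofFinite _ irr_finite
  obtain ⟨mm, hmm⟩ := exists_nat_decomp hΘ
  have hdegN : S.index = ∑ χ : IrrCharacter G, mm χ * charDegree (χ : G → ℂ) := by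
    have h1 := congrFun hmm 1
    rw [indFun_one, Finset.sum_apply] at h1
    have h2 : (lc : ↥S → ℂ) 1 = 1 := map_one lc
    rw [h2, mul_one] at h1
    have h3 : ∀ χ : IrrCharacter G, ((mm χ : ℂ) • (χ : G → ℂ)) 1 =
        ((mm χ * charDegree (χ : G → ℂ) : ℕ) : ℂ) := by
      intro χ
      rw [Pi.smul_apply, smul_eq_mul, (Cfsg.Agent.Helper79.irr_one_eq χ).1]
      push_cast
      ring
    rw [Finset.sum_congr rfl (fun χ _ => h3 χ), ← Nat.cast_sum] at h1
    exact_mod_cast h1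
  have hSodd : ¬ 2 ∣ S.index := by
    intro h
    exact P.not_dvd_index (dvd_trans h (Subgroup.index_dvd_of_le hPS))
  have hex : ∃ χ : IrrCharacter G, ¬ 2 ∣ mm χ * charDegree (χ : G → ℂ) := by
    by_contra hcon
    push Not at hcon
    apply hSodd
    rw [hdegN]
    exact Finset.dvd_sum (fun χ _ => hcon χ)
  obtain ⟨χ, hχ⟩ := hex
  have hχodd : Odd (mm χ * charDegree (χ : G → ℂ)) := Nat.odd_iff.mpr (by omega)
  rw [Nat.odd_mul] at hχodd
  refine ⟨χ, hχodd.2, ?_⟩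
  by_contra hall
  push Not at hall
  have hker : m₀ ∈ Cfsg.Agent.Helper79.irrKer χ :=
    (Cfsg.Agent.Helper79.mem_irrKer χ m₀).2 (hall m₀ hm₀.1)
  have h1 : classInner (indFun S (lc : ↥S → ℂ)) (χ : G → ℂ) = (mm χ : ℂ) := by
    rw [hmm]
    exact classInner_nat_decomp (fun χ' => (mm χ' : ℂ)) χ
  rw [frobenius_reciprocity S (lc : ↥S → ℂ)
    (isClassFunction_of_isCharacter (Cfsg.Agent.Helper81.IsIrrCharacter.isCharacter χ.2))] at h1
  unfold classInner at h1
  have hX : ∑ s : ↥S, (lc : ↥S → ℂ) s * conj ((χ : G → ℂ) (s : G)) = 0 := by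
    have h2 : ∑ s : ↥S, (lc : ↥S → ℂ) s * conj ((χ : G → ℂ) (s : G)) =
        lc s₀ * ∑ s : ↥S, (lc : ↥S → ℂ) s * conj ((χ : G → ℂ) (s : G)) := by
      rw [Finset.mul_sum]
      refine (Equiv.sum_comp (Equiv.mulRight s₀)
        (fun s : ↥S => (lc : ↥S → ℂ) s * conj ((χ : G → ℂ) (s : G)))).symm.trans ?_
      apply Finset.sum_congr rfl
      intro s _
      have h3 : (χ : G → ℂ) ((Equiv.mulRight s₀ s : ↥S) : G) = (χ : G → ℂ) (s : G) := by
        rw [Equiv.coe_mulRight, Subgroup.coe_mul, hs₀c]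
        exact Cfsg.Agent.Helper79.irr_mul_of_mem_irrKer χ (s : G) m₀ hker
      rw [h3, Equiv.coe_mulRight, map_mul]
      ring
    have h4 : (1 - lc s₀) * ∑ s : ↥S, (lc : ↥S → ℂ) s * conj ((χ : G → ℂ) (s : G)) = 0 := by
      rw [sub_mul, one_mul, ← h2, sub_self]
    rcases mul_eq_zero.mp h4 with h5 | h5
    · exfalso
      apply hlc1
      exact (sub_eq_zero.mp h5).symm
    · exact h5
  rw [hX, mul_zero] at h1
  have h6 : mm χ = 0 := by exact_mod_cast h1.symm
  rw [h6] at hχodd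
  exact (Nat.not_odd_iff_even.mpr ⟨0, rfl⟩) hχodd.1

end Cfsg.Agent.Helper79.RMK
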