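import Mathlib
import Cfsg.Prelude.Def_Characters
import Cfsg.Prelude.Def_Blocks
import Cfsg.Agent.Lib.Helper80.BrauerOdd
import Cfsg.Agent.Lib.Helper80.RPDDefs
import Cfsg.Agent.Lib.Helper79.Glaub.RealCorr

set_option autoImplicit false
set_option linter.style.haveILetI false

namespace Cfsg.Agent.Helper79.RPD4

open Cfsg Cfsg.Agent.Helper80 Cfsg.Agent.Helper79.Glaub

universe u v

attribute [local instance] realIrrAction realEltAction

/-- (ELT) real elements of `K` fixed by `P` and `n` are the real elements of `C` fixed by `n` -/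
theorem elt_count {Γ : Type u} [Group Γ] [Finite Γ] (p : ℕ) (hp : p.Prime)
    (K : Subgroup Γ) [hK : K.Normal] (P : Subgroup Γ)
    (hcop : (Nat.card K).Coprime (Nat.card P)) (hP : IsPGroup p P)
    (C : Subgroup Γ) (hC : C = K ⊓ Subgroup.centralizer (P : Set Γ)) (n : Γ) :
    Nat.card {x : {x : ↥K // IsConj x x⁻¹} // (∀ s ∈ P, s • x = x) ∧ n • x = x} =
    Nat.card {c : ↥C // IsConj c c⁻¹ ∧ n * (c : Γ) * n⁻¹ = (c : Γ)} := by
  haveI : Fact p.Prime := ⟨hp⟩
  have hsolv : Group.IsSolvable P := by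
    haveI : Group.IsNilpotent P := hP.isNilpotent
    infer_instance
  have hnorm : ∀ s ∈ P, NormAt K s := by
    intro s _
    refine ⟨fun g hg => hK.conj_mem g hg s, fun g hg => ?_⟩
    have := hK.conj_mem g hg s⁻¹
    rwa [inv_inv] at this
  have hmemC : ∀ x : Γ, x ∈ C ↔ x ∈ K ∧ ∀ s ∈ P, s * x * s⁻¹ = x := by
    intro x
    rw [hC, Subgroup.mem_inf, Subgroup.mem_centralizer_iff]
    apply and_congr Iff.rfl
    constructor
    · intro h s hs
      rw [h s hs]
      group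
    · intro h s hs
      have := h s hs
      calc s * x = s * x * s⁻¹ * s := by group
        _ = x * s := by rw [this]
  have hfix : ∀ (g : Γ) (x : {x : ↥K // IsConj x x⁻¹}),
      g • x = x ↔ g * ((x : ↥K) : Γ) * g⁻¹ = ((x : ↥K) : Γ) := by
    intro g x
    constructor
    · intro h
      have := congrArg (fun y : {x : ↥K // IsConj x x⁻¹} => ((y : ↥K) : Γ)) h
      exact this
    · intro h
      apply Subtype.ext
      apply Subtype.ext
      exact h
  apply Nat.card_congr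
  refine
    { toFun := fun x => ⟨⟨((x.1 : ↥K) : Γ), ?_⟩, ?_, ?_⟩
      invFun := fun c => ⟨⟨⟨(c.1 : Γ), ?_⟩, ?_⟩, ?_, ?_⟩
      left_inv := ?_
      right_inv := ?_ }
  · -- membership in C
    rw [hmemC]
    exact ⟨(x.1 : ↥K).2, fun s hs => (hfix s x.1).mp (x.2.1 s hs)⟩
  · -- real in C
    have hxC : ((x.1 : ↥K) : Γ) ∈ C := by
      rw [hmemC]
      exact ⟨(x.1 : ↥K).2, fun s hs => (hfix s x.1).mp (x.2.1 s hs)⟩
    have hxC' : ((x.1 : ↥K) : Γ)⁻¹ ∈ C := C.inv_mem hxC
    obtain ⟨g, hg⟩ := isConj_iff.1 x.1.2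
    have hg' : (g : Γ) * ((x.1 : ↥K) : Γ) * (g : Γ)⁻¹ = ((x.1 : ↥K) : Γ)⁻¹ := by
      have := congrArg Subtype.val hg
      simpa using this
    rw [hC] at hxC hxC'
    obtain ⟨b, hb, hbc⟩ := conj_in_centralizer K P hnorm hcop hsolv hxC hxC' g.2 hg'
    rw [← hC] at hb
    rw [isConj_iff]
    refine ⟨⟨b, hb⟩, ?_⟩
    apply Subtype.ext
    simpa using hbc
  · exact (hfix n x.1).mp x.2.2
  · exact ((hmemC _).mp c.1.2).1
  · -- real in K
    obtain ⟨b, hb⟩ := isConj_iff.1 c.2.1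
    rw [isConj_iff]
    refine ⟨⟨(b : Γ), ((hmemC _).mp b.2).1⟩, ?_⟩
    apply Subtype.ext
    have := congrArg Subtype.val hb
    simpa using this
  · intro s hs
    rw [hfix]
    exact ((hmemC _).mp c.1.2).2 s hs
  · rw [hfix]
    exact c.2.2
  · intro x
    rfl
  · intro c
    rfl

end Cfsg.Agent.Helper79.RPD4
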