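import Mathlib
import Cfsg.Prelude.Def_Characters
import Cfsg.Prelude.Def_Blocks
import Cfsg.Agent.Lib.Helper80.BrauerOdd
import Cfsg.Agent.Lib.Helper80.RPDDefs
import Cfsg.Agent.Lib.Helper79.Glaub.RealCorr

set_option autoImplicit false
set_option linter.style.haveILetI false

namespace Cfsg.Agent.Helper79.RPD4

open Cfsg Cfsg.Agent.Helper80 Cfsg.Agent.Helper79.Glaub
open scoped ComplexConjugate

universe u v

attribute [local instance] realIrrAction realEltAction

/-- (GLN) Glauberman correspondence count with an extra normalizing element `n` -/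
theorem glauberman_count_n {Γ : Type u} [Group Γ] [Fintype Γ] (p : ℕ) (hp : p.Prime)
    (K P : Subgroup Γ) [Fintype K]
    (hnorm : ∀ s ∈ P, NormAt K s) (hcop : (Nat.card K).Coprime (Nat.card P))
    (hP : IsPGroup p P) (C : Subgroup Γ) [Fintype C]
    (hC : C = K ⊓ Subgroup.centralizer (P : Set Γ)) (hCK : C ≤ K)
    (n : Γ) (hnK : NormAt K n) (hnP : NormAt P n) :
    Nat.card {θ : IrrCharacter K // ((∀ k : K, ((θ : K → ℂ) k).im = 0) ∧
        InvAt K (θ : K → ℂ) n) ∧ ∀ x ∈ P, InvAt K (θ : K → ℂ) x} =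
    Nat.card {β : IrrCharacter C // (∀ c : C, ((β : C → ℂ) c).im = 0) ∧
        InvAt C (β : C → ℂ) n} := by
  have hpkg := pkg_pgroup p hp (Nat.card P) K P rfl hnorm hcop hP C hC hCK
  have hcorr := pRel_isCorr p hCK _ hpkg
  have hnC : NormAt C n := by
    rw [hC]
    exact normAt_inf_centralizer K P n hnK hnP
  apply hcorr.card_eq_of_iff
    (fun θ : IrrCharacter K => (∀ k : K, ((θ : K → ℂ) k).im = 0) ∧ InvAt K (θ : K → ℂ) n)
    (fun β : IrrCharacter C => (∀ c : C, ((β : C → ℂ) c).im = 0) ∧ InvAt C (β : C → ℂ) n)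
  intro χ β hχ hR
  apply and_congr
  · rw [← cconjIrr_eq_self_iff, ← cconjIrr_eq_self_iff]
    constructor
    · intro h
      have h1 := pRel_cconj p hCK χ β hR
      rw [h] at h1
      obtain ⟨β₀, _, huniq⟩ := hcorr.1 χ hχ
      rw [huniq _ h1, huniq _ hR]
    · intro h
      have h1 := pRel_cconj p hCK χ β hR
      rw [h] at h1
      have hinv : ∀ x ∈ P, InvAt K (cconjIrr χ : K → ℂ) x := by
        intro x hx g g' hg'
        show conj ((χ : K → ℂ) g') = conj ((χ : K → ℂ) g)
        rw [hχ x hx g g' hg']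
      exact hcorr.2.1 (cconjIrr χ) χ β hinv hχ h1 hR
  · rw [invAt_iff_irrComp n hnK χ, invAt_iff_irrComp n hnC β]
    have h1 := pRel_equivAt p hCK n hnK hnC χ β hR
    constructor
    · intro h
      rw [h] at h1
      obtain ⟨β₀, _, huniq⟩ := hcorr.1 χ hχ
      rw [huniq _ h1, huniq _ hR]
    · intro h
      rw [h] at h1
      have hinv : ∀ x ∈ P, InvAt K (irrComp (conjEquiv K n hnK) χ : K → ℂ) x :=
        invAt_irrComp n hnK χ (P : Set Γ) (fun t ht => hnP.1 t ht) hχ
      exact hcorr.2.1 _ χ β hinv hχ h1 hR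

end Cfsg.Agent.Helper79.RPD4
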