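import Mathlib
import Cfsg.Agent.Lib.Helper93.RU0

/-!
# RU: private copies of the transvection calculus (A1), (A4), (A5) used by my pieces (D2), (D3)
-/

set_option autoImplicit false

namespace Cfsg.Agent.Helper79.RU

open Matrix Cfsg.Agent.Helper93.RU

variable {F : Type*} [Field F] {m : ℕ}

theorem h79_tvM_det (v φ : Fin (m + 3) → F) : (tvM v φ).det = 1 + φ ⬝ᵥ v := by
  unfold tvM
  rw [Matrix.vecMulVec_eq (ι := Unit), Matrix.det_one_add_replicateCol_mul_replicateRow]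

theorem h79_tvS_val (v φ : Fin (m + 3) → F) (h : φ ⬝ᵥ v = 0) : (tvS v φ).1 = tvM v φ := by
  have hd : (tvM v φ).det = 1 := by rw [h79_tvM_det, h, add_zero]
  have h1 : tvS v φ = ⟨tvM v φ, hd⟩ := dif_pos hd
  rw [h1]

theorem h79_tvM_smul (a : F) (v φ : Fin (m + 3) → F) : tvM (a • v) φ = tvM v (a • φ) := by
  unfold tvM
  rw [Matrix.smul_vecMulVec, Matrix.vecMulVec_smul]

theorem h79_tvS_smul (a : F) (v φ : Fin (m + 3) → F) : tvS (a • v) φ = tvS v (a • φ) := by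
  have h := h79_tvM_smul a v φ
  by_cases hd : (tvM v (a • φ)).det = 1
  · have hd' : (tvM (a • v) φ).det = 1 := by rw [h]; exact hd
    have h1 : tvS (a • v) φ = ⟨tvM (a • v) φ, hd'⟩ := dif_pos hd'
    have h2 : tvS v (a • φ) = ⟨tvM v (a • φ), hd⟩ := dif_pos hd
    rw [h1, h2]
    exact Subtype.ext h
  · have hd' : ¬ (tvM (a • v) φ).det = 1 := by rw [h]; exact hd
    have h1 : tvS (a • v) φ = 1 := dif_neg hd'
    have h2 : tvS v (a • φ) = 1 := dif_neg hd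
    rw [h1, h2]

theorem h79_inv_mul_val (g : SLm m F) : (g⁻¹).1 * g.1 = 1 := by
  have h : (g⁻¹ * g).1 = (1 : SLm m F).1 := by rw [inv_mul_cancel]
  exact h

theorem h79_mul_inv_val (g : SLm m F) : g.1 * (g⁻¹).1 = 1 := by
  have h : (g * g⁻¹).1 = (1 : SLm m F).1 := by rw [mul_inv_cancel]
  exact h

theorem h79_tvS_conj (g : SLm m F) (v φ : Fin (m + 3) → F) (hφ : φ ⬝ᵥ v = 0) :
    (φ ᵥ* (g⁻¹).1) ⬝ᵥ (g.1 *ᵥ v) = 0 ∧ g * tvS v φ * g⁻¹ = tvS (g.1 *ᵥ v) (φ ᵥ* (g⁻¹).1) := by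
  have h0 : (φ ᵥ* (g⁻¹).1) ⬝ᵥ (g.1 *ᵥ v) = 0 := by
    rw [← Matrix.dotProduct_mulVec, Matrix.mulVec_mulVec, h79_inv_mul_val, Matrix.one_mulVec, hφ]
  refine ⟨h0, ?_⟩
  apply Subtype.ext
  rw [h79_tvS_val _ _ h0]
  show g.1 * (tvS v φ).1 * (g⁻¹).1 = _
  rw [h79_tvS_val _ _ hφ]
  unfold tvM
  rw [Matrix.mul_add, Matrix.add_mul, Matrix.mul_one, h79_mul_inv_val, Matrix.mul_vecMulVec,
    Matrix.vecMulVec_mul]

end Cfsg.Agent.Helper79.RU
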