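import Mathlib
import Cfsg.Agent.Lib.Helper93.RU0
import Cfsg.Agent.Lib.Helper79.RUAux

/-!
# RU (D2), (D3): the set `W` of full centres is stable under scalars and under `H`
-/

set_option autoImplicit false

namespace Cfsg.Agent.Helper79.RU

open Matrix Cfsg.Agent.Helper93.RU

variable {F : Type*} [Field F] {m : ℕ}

/-- (D2) (A5); `a = 0` gives `tvS 0 φ = 1`. -/
theorem W_smul (H : Subgroup (SLm m F)) (a : F) (v : Fin (m + 3) → F) (hv : v ∈ Wset H) :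
    a • v ∈ Wset H := by
  intro φ hφ
  rw [h79_tvS_smul]
  apply hv
  rw [smul_dotProduct]
  rw [dotProduct_smul] at hφ
  exact hφ

/-- (D3) (A4) with `g⁻¹`: `1 + (g v) φᵀ = g (1 + v (φ g)ᵀ) g⁻¹`. -/
theorem W_conj (H : Subgroup (SLm m F)) (g : SLm m F) (hg : g ∈ H) (v : Fin (m + 3) → F)
    (hv : v ∈ Wset H) : g.1 *ᵥ v ∈ Wset H := by
  intro φ hφ
  have h1 : (φ ᵥ* g.1) ⬝ᵥ v = 0 := by
    rw [← Matrix.dotProduct_mulVec]
    exact hφ
  obtain ⟨_, h3⟩ := h79_tvS_conj g v (φ ᵥ* g.1) h1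
  have h4 : (φ ᵥ* g.1) ᵥ* (g⁻¹).1 = φ := by
    rw [Matrix.vecMul_vecMul, h79_mul_inv_val, Matrix.vecMul_one]
  rw [h4] at h3
  rw [← h3]
  exact H.mul_mem (H.mul_mem hg (hv _ h1)) (H.inv_mem hg)

end Cfsg.Agent.Helper79.RU
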