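import Mathlib
import Cfsg.Agent.Lib.Helper98.SPE0

set_option autoImplicit false

namespace Cfsg.Agent.Helper79.SPE

open Matrix Cfsg.Agent.Helper93.U2 Cfsg.Agent.Helper98.SPE

section FORM

variable {F : Type*} [Field F] {n : ℕ}

/-- folding a full double sum onto the upper triangle -/
theorem h79_sum_fold (f : Fin n → Fin n → F) :
    ∑ k, ∑ l, f k l =
      ∑ k, ∑ l, if k ≤ l then (if k = l then f k k else f k l + f l k) else 0 := by
  have h1 : ∑ k, ∑ l, f k l = ∑ k, ∑ l, ((if k < l then f k l else 0) +
      (if k = l then f k l else 0) + (if l < k then f k l else 0)) := by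
    apply Finset.sum_congr rfl; intro k _; apply Finset.sum_congr rfl; intro l _
    rcases lt_trichotomy k l with h | h | h
    · simp [h, h.ne, h.not_gt]
    · subst h; simp
    · simp [h, h.ne', h.not_gt]
  have h2 : ∑ k, ∑ l, (if l < k then f k l else 0) = ∑ k, ∑ l, (if k < l then f l k else 0) := by
    rw [Finset.sum_comm]
  rw [h1]
  simp only [Finset.sum_add_distrib]
  rw [h2]
  simp only [← Finset.sum_add_distrib]
  apply Finset.sum_congr rfl; intro k _; apply Finset.sum_congr rfl; intro l _
  rcases lt_trichotomy k l with h | h | h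
  · simp [h, h.ne, h.le]
  · subst h; simp
  · simp [h.ne', h.not_gt, h.not_ge]

/-- explicit polar form -/
theorem h79_bv_eq_sum (S : Matrix (Fin n) (Fin n) F) (x y : Fin n → F) :
    bv S x y = ∑ i, ∑ j, if i ≤ j then S i j * (x i * y j + y i * x j) else 0 := by
  unfold bv qv
  simp only [← Finset.sum_sub_distrib]
  apply Finset.sum_congr rfl; intro i _; apply Finset.sum_congr rfl; intro j _
  by_cases h : i ≤ j
  · simp only [if_pos h, Pi.add_apply]; ring
  · simp only [if_neg h]; ring

theorem h79_four_comm (T : Fin n → Fin n → Fin n → Fin n → F) :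
    ∑ k, ∑ l, ∑ i, ∑ j, T k l i j = ∑ i, ∑ j, ∑ k, ∑ l, T k l i j := by
  calc ∑ k, ∑ l, ∑ i, ∑ j, T k l i j = ∑ k, ∑ i, ∑ l, ∑ j, T k l i j := by
        apply Finset.sum_congr rfl; intro k _; rw [Finset.sum_comm]
    _ = ∑ i, ∑ k, ∑ l, ∑ j, T k l i j := by rw [Finset.sum_comm]
    _ = ∑ i, ∑ k, ∑ j, ∑ l, T k l i j := by
        apply Finset.sum_congr rfl; intro i _; apply Finset.sum_congr rfl; intro k _
        rw [Finset.sum_comm]
    _ = ∑ i, ∑ j, ∑ k, ∑ l, T k l i j := by
        apply Finset.sum_congr rfl; intro i _; rw [Finset.sum_comm]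

/-- piece Q8 -/
theorem tauS_cong (g a b : Matrix (Fin n) (Fin n) F) (hb : bᵀ = b) :
    tauS a (g * b * gᵀ) = tauS (congQ g a) b := by
  have hbs : ∀ k l, b l k = b k l := by
    intro k l
    have := congrFun (congrFun hb k) l
    rwa [Matrix.transpose_apply] at this
  -- the common four-fold sum
  have hL : tauS a (g * b * gᵀ) = ∑ i, ∑ j, ∑ k, ∑ l,
      if i ≤ j then (if k ≤ l then (if k = l then a i j * (g i k * b k k * g j k)
        else a i j * ((g i k * g j l + g i l * g j k) * b k l)) else 0) else 0 := by
    unfold tauS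
    apply Finset.sum_congr rfl; intro i _; apply Finset.sum_congr rfl; intro j _
    by_cases hij : i ≤ j
    · simp only [if_pos hij]
      have h1 : (g * b * gᵀ) i j = ∑ k, ∑ l, g i k * b k l * g j l := by
        rw [Matrix.mul_apply]
        simp only [Matrix.mul_apply, Matrix.transpose_apply, Finset.sum_mul]
        rw [Finset.sum_comm]
      rw [h1, h79_sum_fold, Finset.mul_sum]
      apply Finset.sum_congr rfl; intro k _
      rw [Finset.mul_sum]
      apply Finset.sum_congr rfl; intro l _
      by_cases hkl : k ≤ l
      · simp only [if_pos hkl]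
        by_cases hkl' : k = l
        · simp only [if_pos hkl']
        · simp only [if_neg hkl']
          rw [hbs k l]; ring
      · simp only [if_neg hkl, mul_zero]
    · simp only [if_neg hij]
      simp
  have hR : tauS (congQ g a) b = ∑ k, ∑ l, ∑ i, ∑ j,
      if i ≤ j then (if k ≤ l then (if k = l then a i j * (g i k * b k k * g j k)
        else a i j * ((g i k * g j l + g i l * g j k) * b k l)) else 0) else 0 := by
    unfold tauS
    apply Finset.sum_congr rfl; intro k _; apply Finset.sum_congr rfl; intro l _
    by_cases hkl : k ≤ l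
    · simp only [if_pos hkl]
      rw [congQ_apply]
      by_cases hkl' : k = l
      · subst hkl'
        simp only [if_true]
        unfold qv
        rw [Finset.sum_mul]
        apply Finset.sum_congr rfl; intro i _
        rw [Finset.sum_mul]
        apply Finset.sum_congr rfl; intro j _
        by_cases hij : i ≤ j
        · simp only [if_pos hij]; ring
        · simp only [if_neg hij, zero_mul]
      · simp only [if_neg hkl']
        rw [h79_bv_eq_sum, Finset.sum_mul]
        apply Finset.sum_congr rfl; intro i _
        rw [Finset.sum_mul]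
        apply Finset.sum_congr rfl; intro j _
        by_cases hij : i ≤ j
        · simp only [if_pos hij]; ring
        · simp only [if_neg hij, zero_mul]
    · simp only [if_neg hkl]
      simp
  rw [hL, hR, h79_four_comm]

end FORM

end Cfsg.Agent.Helper79.SPE
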