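import Mathlib
import Cfsg.Agent.Lib.Helper98.SPE0
import Cfsg.Agent.Lib.Helper79.SPEQ8

set_option autoImplicit false

namespace Cfsg.Agent.Helper79.SPE

open Matrix Cfsg.Agent.Helper93.U2 Cfsg.Agent.Helper98.SPE

section FORM

variable {F : Type*} [Field F] {n : ℕ}

theorem h79_bv_add_left (S : Matrix (Fin n) (Fin n) F) (x x' y : Fin n → F) :
    bv S (x + x') y = bv S x y + bv S x' y := by
  rw [h79_bv_eq_sum, h79_bv_eq_sum, h79_bv_eq_sum]
  simp only [← Finset.sum_add_distrib]
  apply Finset.sum_congr rfl; intro i _; apply Finset.sum_congr rfl; intro j _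
  by_cases h : i ≤ j
  · simp only [if_pos h, Pi.add_apply]; ring
  · simp only [if_neg h]; ring

theorem h79_bv_smul_left (S : Matrix (Fin n) (Fin n) F) (c : F) (x y : Fin n → F) :
    bv S (c • x) y = c * bv S x y := by
  rw [h79_bv_eq_sum, h79_bv_eq_sum, Finset.mul_sum]
  apply Finset.sum_congr rfl; intro i _
  rw [Finset.mul_sum]
  apply Finset.sum_congr rfl; intro j _
  by_cases h : i ≤ j
  · simp only [if_pos h, Pi.smul_apply, smul_eq_mul]; ring
  · simp only [if_neg h]; ring

theorem h79_bv_self (S : Matrix (Fin n) (Fin n) F) (x : Fin n → F) :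
    bv S x x = 2 * qv S x := by
  rw [h79_bv_eq_sum]
  unfold qv
  rw [Finset.mul_sum]
  apply Finset.sum_congr rfl; intro i _
  rw [Finset.mul_sum]
  apply Finset.sum_congr rfl; intro j _
  by_cases h : i ≤ j
  · simp only [if_pos h]; ring
  · simp only [if_neg h]; ring

theorem h79_qv_smul (S : Matrix (Fin n) (Fin n) F) (c : F) (x : Fin n → F) :
    qv S (c • x) = c ^ 2 * qv S x := by
  unfold qv
  rw [Finset.mul_sum]
  apply Finset.sum_congr rfl; intro i _
  rw [Finset.mul_sum]
  apply Finset.sum_congr rfl; intro j _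
  by_cases h : i ≤ j
  · simp only [if_pos h, Pi.smul_apply, smul_eq_mul]; ring
  · simp only [if_neg h]; ring

theorem h79_qv_add (S : Matrix (Fin n) (Fin n) F) (x y : Fin n → F) :
    qv S (x + y) = qv S x + qv S y + bv S x y := by
  unfold bv; ring

/-- the polar form as a bilinear map -/
noncomputable def h79_bvL (S : Matrix (Fin n) (Fin n) F) :
    (Fin n → F) →ₗ[F] (Fin n → F) →ₗ[F] F :=
  LinearMap.mk₂ F (bv S) (h79_bv_add_left S)
    (fun c x y => by rw [h79_bv_smul_left, smul_eq_mul])
    (fun x y y' => by rw [bv_symm, h79_bv_add_left, bv_symm S y x, bv_symm S y' x])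
    (fun c x y => by rw [bv_symm, h79_bv_smul_left, bv_symm S y x, smul_eq_mul])

theorem h79_bvL_apply (S : Matrix (Fin n) (Fin n) F) (x y : Fin n → F) :
    h79_bvL S x y = bv S x y := rfl

/-- statement of K1c, proved privately -/
theorem h79_qv_decomp (S : Matrix (Fin n) (Fin n) F) (x₁ y₁ w : Fin n → F) (s t : F)
    (hw1 : bv S w x₁ = 0) (hw2 : bv S w y₁ = 0) :
    qv S (s • x₁ + t • y₁ + w) =
      qv S x₁ * s ^ 2 + bv S x₁ y₁ * s * t + qv S y₁ * t ^ 2 + qv S w := by
  rw [h79_qv_add, h79_qv_add, h79_qv_smul, h79_qv_smul]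
  have e1 : bv S (s • x₁) (t • y₁) = s * t * bv S x₁ y₁ := by
    rw [← h79_bvL_apply]
    simp only [map_smul, LinearMap.smul_apply, smul_eq_mul, h79_bvL_apply]
    ring
  have e2 : bv S (s • x₁ + t • y₁) w = 0 := by
    rw [bv_symm, ← h79_bvL_apply]
    simp only [map_add, map_smul, smul_eq_mul, h79_bvL_apply, hw1, hw2]
    ring
  rw [e1, e2]
  ring

end FORM

section CNT

variable {F : Type*} [Field F] [Fintype F] {q : ℕ} {n : ℕ}

theorem h79_ncard_filter {α : Type*} [Fintype α] (p : α → Prop) [DecidablePred p] :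
    {a : α | p a}.ncard = (Finset.univ.filter p).card := by
  rw [← Set.ncard_coe_finset]
  congr 1
  ext a
  simp

/-- K3 with K1a as a hypothesis -/
theorem h79_fibre_card_le_core (h2 : (2 : F) = 0) (S : Matrix (Fin n) (Fin n) F)
    (x : Fin n → F) (b c : F) (hb : b ≠ 0) (R : ℕ)
    (hR : ∀ d : F, {s : F | qv S x * s ^ 2 + b * s = d}.ncard ≤ R)
    (hK1a : ∀ x₁ y₁ : Fin n → F, bv S x₁ y₁ ≠ 0 →
      q ^ 2 * {w : Fin n → F | bv S w x₁ = 0 ∧ bv S w y₁ = 0}.ncard = q ^ n) :
    {y : Fin n → F | qv S y = c ∧ bv S x y = b}.ncard * q ^ 2 ≤ R * q ^ n := by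
  classical
  by_cases hne : ∃ y₀ : Fin n → F, qv S y₀ = c ∧ bv S x y₀ = b
  · obtain ⟨y₀, hy₀c, hy₀b⟩ := hne
    have hW := hK1a x y₀ (by rw [hy₀b]; exact hb)
    have hself : ∀ z : Fin n → F, bv S z z = 0 := by
      intro z; rw [h79_bv_self, h2, zero_mul]
    have key : {y : Fin n → F | qv S y = c ∧ bv S x y = b}.ncard ≤
        R * {w : Fin n → F | bv S w x = 0 ∧ bv S w y₀ = 0}.ncard := by
      rw [h79_ncard_filter, h79_ncard_filter]
      set Yf := Finset.univ.filter (fun y : Fin n → F => qv S y = c ∧ bv S x y = b) with hYf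
      set Wf := Finset.univ.filter (fun w : Fin n → F => bv S w x = 0 ∧ bv S w y₀ = 0) with hWf
      let rt : (Fin n → F) → Finset F := fun w =>
        Finset.univ.filter (fun s : F => qv S x * s ^ 2 + b * s = -qv S w)
      have hrt : ∀ w, (rt w).card ≤ R := by
        intro w
        have := hR (-qv S w)
        rwa [h79_ncard_filter] at this
      let T : Finset (Σ _ : Fin n → F, F) := Wf.sigma rt
      have hT : T.card ≤ R * Wf.card := by
        rw [Finset.card_sigma]
        calc ∑ w ∈ Wf, (rt w).card ≤ ∑ _w ∈ Wf, R := Finset.sum_le_sum (fun w _ => hrt w)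
          _ = R * Wf.card := by rw [Finset.sum_const, smul_eq_mul, mul_comm]
      refine le_trans ?_ hT
      let sf : (Fin n → F) → F := fun y => bv S y y₀ / b
      let wf : (Fin n → F) → (Fin n → F) := fun y => y - sf y • x - y₀
      have hdec : ∀ y, y = sf y • x + (1 : F) • y₀ + wf y := by
        intro y
        simp only [wf, one_smul]
        abel
      apply Finset.card_le_card_of_injOn (fun y => (⟨wf y, sf y⟩ : Σ _ : Fin n → F, F))
      · intro y hy
        have hy' : qv S y = c ∧ bv S x y = b := by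
          have := Finset.mem_coe.mp hy
          rw [hYf, Finset.mem_filter] at this
          exact this.2
        have hw1 : bv S (wf y) x = 0 := by
          show bv S (y - sf y • x - y₀) x = 0
          rw [← h79_bvL_apply]
          simp only [map_sub, map_smul, LinearMap.sub_apply, LinearMap.smul_apply, smul_eq_mul,
            h79_bvL_apply]
          rw [bv_symm S y x, hy'.2, hself, bv_symm S y₀ x, hy₀b]
          ring
        have hw2 : bv S (wf y) y₀ = 0 := by
          show bv S (y - sf y • x - y₀) y₀ = 0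
          rw [← h79_bvL_apply]
          simp only [map_sub, map_smul, LinearMap.sub_apply, LinearMap.smul_apply, smul_eq_mul,
            h79_bvL_apply]
          rw [hself, hy₀b]
          simp only [sf]
          field_simp
          ring
        rw [Finset.mem_coe, Finset.mem_sigma]
        refine ⟨?_, ?_⟩
        · rw [hWf, Finset.mem_filter]
          exact ⟨Finset.mem_univ _, hw1, hw2⟩
        · show sf y ∈ rt (wf y)
          simp only [rt, Finset.mem_filter, Finset.mem_univ, true_and]
          have h3 := h79_qv_decomp S x y₀ (wf y) (sf y) 1 hw1 hw2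
          rw [← hdec y, hy'.1, hy₀b, hy₀c] at h3
          linear_combination -h3
      · intro y _ y' _ hyy'
        have h1 : wf y = wf y' := by
          have := congrArg Sigma.fst hyy'
          exact this
        have h2' : sf y = sf y' := by
          have := congrArg Sigma.snd hyy'
          exact this
        rw [hdec y, hdec y', h1, h2']
    calc {y : Fin n → F | qv S y = c ∧ bv S x y = b}.ncard * q ^ 2
        ≤ (R * {w : Fin n → F | bv S w x = 0 ∧ bv S w y₀ = 0}.ncard) * q ^ 2 :=
          Nat.mul_le_mul_right _ key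
      _ = R * (q ^ 2 * {w : Fin n → F | bv S w x = 0 ∧ bv S w y₀ = 0}.ncard) := by ring
      _ = R * q ^ n := by rw [hW]
  · have : {y : Fin n → F | qv S y = c ∧ bv S x y = b} = ∅ := by
      ext y
      simp only [Set.mem_setOf_eq, Set.mem_empty_iff_false, iff_false]
      intro hy
      exact hne ⟨y, hy⟩
    rw [this, Set.ncard_empty, zero_mul]
    exact Nat.zero_le _

end CNT

end Cfsg.Agent.Helper79.SPE
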