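import Mathlib
import Cfsg.Agent.Lib.Helper98.SPE0
import Cfsg.Agent.Lib.Helper79.SPEK3core

set_option autoImplicit false

namespace Cfsg.Agent.Helper79.SPE

open Matrix Cfsg.Agent.Helper93.U2 Cfsg.Agent.Helper98.SPE

section CNT

variable {F : Type*} [Field F] [Fintype F] {q : ℕ} (hq : Fintype.card F = q) {n : ℕ}

include hq in
/-- piece K1a -/
theorem card_perp_pair (h2 : (2 : F) = 0) (S : Matrix (Fin n) (Fin n) F) (x₁ y₁ : Fin n → F)
    (hb : bv S x₁ y₁ ≠ 0) :
    q ^ 2 * {w : Fin n → F | bv S w x₁ = 0 ∧ bv S w y₁ = 0}.ncard = q ^ n := by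
  classical
  have hself : ∀ z : Fin n → F, bv S z z = 0 := by
    intro z; rw [h79_bv_self, h2, zero_mul]
  -- the linear map `v ↦ (B(v,x₁), B(v,y₁))`
  let φ : (Fin n → F) →ₗ[F] F × F :=
    LinearMap.prod ((h79_bvL S).flip x₁) ((h79_bvL S).flip y₁)
  have hφ : ∀ v, φ v = (bv S v x₁, bv S v y₁) := fun v => rfl
  have hsurj : Function.Surjective φ := by
    rintro ⟨s, t⟩
    refine ⟨(s / bv S x₁ y₁) • y₁ + (t / bv S x₁ y₁) • x₁, ?_⟩
    rw [hφ]
    apply Prod.ext
    · show bv S ((s / bv S x₁ y₁) • y₁ + (t / bv S x₁ y₁) • x₁) x₁ = s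
      rw [← h79_bvL_apply]
      simp only [map_add, map_smul, LinearMap.add_apply, LinearMap.smul_apply, smul_eq_mul,
        h79_bvL_apply]
      rw [hself, bv_symm S y₁ x₁]
      field_simp
      ring
    · show bv S ((s / bv S x₁ y₁) • y₁ + (t / bv S x₁ y₁) • x₁) y₁ = t
      rw [← h79_bvL_apply]
      simp only [map_add, map_smul, LinearMap.add_apply, LinearMap.smul_apply, smul_eq_mul,
        h79_bvL_apply]
      rw [hself]
      field_simp
      ring
  have hker : {w : Fin n → F | bv S w x₁ = 0 ∧ bv S w y₁ = 0} = (LinearMap.ker φ : Set (Fin n → F)) := by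
    ext w
    rw [SetLike.mem_coe, LinearMap.mem_ker, hφ, Prod.ext_iff]
    rfl
  have h1 := Submodule.card_eq_card_quotient_mul_card (LinearMap.ker φ)
  have h3 : Nat.card ((Fin n → F) ⧸ LinearMap.ker φ) = q ^ 2 := by
    rw [Nat.card_congr (φ.quotKerEquivOfSurjective hsurj).toEquiv, Nat.card_prod,
      Nat.card_eq_fintype_card, hq]
    ring
  have h4 : Nat.card (Fin n → F) = q ^ n := by
    rw [Nat.card_eq_fintype_card, Fintype.card_fun, Fintype.card_fin, hq]
  rw [hker, ← Nat.card_coe_set_eq]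
  rw [h3, h4] at h1
  rw [h1, mul_comm]
  rfl

end CNT

end Cfsg.Agent.Helper79.SPE
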