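import Mathlib
import Cfsg.Agent.Lib.Helper98.SPE0
import Cfsg.Agent.Lib.Helper79.SPEK3core
import Cfsg.Agent.Lib.Helper79.SPEK1a

set_option autoImplicit false

namespace Cfsg.Agent.Helper79.SPE

open Matrix Cfsg.Agent.Helper93.U2 Cfsg.Agent.Helper98.SPE

section CNT

variable {F : Type*} [Field F] [Fintype F] {q : ℕ} (hq : Fintype.card F = q) {n : ℕ}

include hq in
/-- piece K3 -/
theorem fibre_card_le (h2 : (2 : F) = 0) (S : Matrix (Fin n) (Fin n) F) (x : Fin n → F)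
    (b c : F) (hb : b ≠ 0) (R : ℕ)
    (hR : ∀ d : F, {s : F | qv S x * s ^ 2 + b * s = d}.ncard ≤ R) :
    {y : Fin n → F | qv S y = c ∧ bv S x y = b}.ncard * q ^ 2 ≤ R * q ^ n :=
  h79_fibre_card_le_core h2 S x b c hb R hR
    (fun x₁ y₁ h => card_perp_pair hq h2 S x₁ y₁ h)

end CNT

end Cfsg.Agent.Helper79.SPE
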