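import Mathlib
import Cfsg.Agent.Lib.Helper2.SR0
import Cfsg.Agent.Lib.Helper79.SRC5
import Cfsg.Agent.Lib.Helper42.SRC10

/-!
# SR (C10) for helper2's server (S2281): the values of `l = h u h⁻¹`
(helper42's hypothesis-explicit `l_values_of` closed with (C5) `u_bf`).
-/

set_option autoImplicit false

namespace Cfsg.Agent.Helper79.SR

open Matrix Cfsg Cfsg.Agent.Helper13 Cfsg.Agent.Helper84.SpRoot Cfsg.Agent.Helper5.SpAut
open Cfsg.Agent.Helper2.SR

section C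
variable {F : Type*} [Field F] {m : ℕ}

/-- (C10) uses C5 -/
theorem l_values (s : F) (h : Matrix.symplecticGroup (Fin (m + 2)) F)
    (h1 : h.val *ᵥ bf jA = be 0) (h2 : h.val *ᵥ bf jB = be 0 - be 1)
    (h3 : h.val *ᵥ be jB = bf 1) (h4 : h.val *ᵥ be jA = - bf 0 - bf 1) :
    (h * uEl s * h⁻¹).val *ᵥ be 0 = be 1 ∧
    (h * uEl s * h⁻¹).val *ᵥ pV s = be 0 ∧
    (h * uEl s * h⁻¹).val *ᵥ be 1 = - be 0 + (2 : F) • be 1 + s • bf 0 :=
  Cfsg.Agent.Helper42.SR.l_values_of s (u_bf s) h h1 h2 h3 h4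

end C

end Cfsg.Agent.Helper79.SR
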