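import Mathlib
import Cfsg.Agent.Lib.Helper87.SVKit
import Cfsg.Agent.S0111
import Cfsg.Agent.Lib.Helper17.SylowInter2

/-!
# No nonabelian simple group of order 4536 (exercise order for S0983, helper17's sieve)
-/

set_option autoImplicit false

namespace Cfsg.Agent.Helper79.SV

open Nat MulAction Cfsg.Agent.Helper17 Cfsg.Agent.Helper17.Sieve Cfsg.Agent.Helper75.FixKill
  Cfsg.Agent.Helper87.SV

set_option maxRecDepth 100000 in
theorem h79_4536_adm7 : ∀ d ∈ List.range (648 + 1), d ∣ 648 → d % 7 = 1 →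
    ¬ Bad (7 ^ 1 * 648) 7 1 648 d → d = 36 ∨ d = 162 := by
  decide +kernel

/-- the only involution of a cyclic group `⟨r⟩` of order `4` is `r ^ 2` -/
theorem h79_invol_zpowers {G : Type*} [Group G] (r s : G) (hr : orderOf r = 4)
    (hs : s ∈ Subgroup.zpowers r) (hs2 : orderOf s = 2) : s = r ^ 2 := by
  have hfin : IsOfFinOrder r := orderOf_pos_iff.1 (by rw [hr]; norm_num)
  rw [← hfin.mem_powers_iff_mem_zpowers] at hs
  obtain ⟨n, hn⟩ := hs
  change r ^ n = s at hn
  subst hn
  have hmod : r ^ n = r ^ (n % 4) := by rw [← hr, pow_mod_orderOf]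
  rw [hmod] at hs2 ⊢
  have hlt : n % 4 < 4 := Nat.mod_lt _ (by norm_num)
  interval_cases h : n % 4
  · rw [pow_zero, orderOf_one] at hs2; omega
  · rw [pow_one, hr] at hs2; omega
  · rfl
  · rw [orderOf_pow' r (by norm_num : 3 ≠ 0), hr] at hs2
    norm_num at hs2

/-- a group all of whose elements square to one is commutative (elementwise form on a subgroup) -/
theorem h79_comm_of_sq {G : Type*} [Group G] (S : Subgroup G) (hsq : ∀ g ∈ S, g ^ 2 = 1)
    (g h : G) (hg : g ∈ S) (hh : h ∈ S) : g * h = h * g := by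
  have e1 : g⁻¹ = g := inv_eq_of_mul_eq_one_left (by rw [← sq]; exact hsq g hg)
  have e2 : h⁻¹ = h := inv_eq_of_mul_eq_one_left (by rw [← sq]; exact hsq h hh)
  have e3 : (g * h)⁻¹ = g * h :=
    inv_eq_of_mul_eq_one_left (by rw [← sq]; exact hsq _ (S.mul_mem hg hh))
  calc g * h = (g * h)⁻¹ := e3.symm
    _ = h⁻¹ * g⁻¹ := mul_inv_rev _ _
    _ = h * g := by rw [e1, e2]

/-- in a nonabelian simple group of order `4536` with `|C(P7)| = 14`, `n_7 = 162`, the involution
`t` of `C(P7)` has `|C(t)| = 28` -/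
theorem h79_4536_cent {G : Type*} [Group G] [Finite G] [IsSimpleGroup G]
    (hn0 : Nat.card G = 4536) (P7 : Sylow 7 G) (hP7 : Nat.card (P7 : Subgroup G) = 7)
    (hd : Nat.card (Sylow 7 G) = 162)
    (hC14 : Nat.card (Subgroup.centralizer ((P7 : Subgroup G) : Set G)) = 14) :
    ∃ t : G, orderOf t = 2 ∧ Nat.card (Subgroup.centralizer ({t} : Set G)) = 28 := by
  have h7 : Fact (Nat.Prime 7) := ⟨by norm_num⟩
  have h2 : Fact (Nat.Prime 2) := ⟨by norm_num⟩
  have hN28 : Nat.card (Subgroup.normalizer ((P7 : Subgroup G) : Set G)) = 28 := by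
    have := Cfsg.Agent.S1017.card_sylow_mul_card_normalizer P7
    rw [hd, hn0] at this; omega
  obtain ⟨t', ht'⟩ := exists_prime_orderOf_dvd_card'
    (G := ↥(Subgroup.centralizer ((P7 : Subgroup G) : Set G))) 2 (by rw [hC14]; norm_num)
  obtain ⟨x', hx'⟩ := exists_prime_orderOf_dvd_card' (G := ↥(P7 : Subgroup G)) 7 (by rw [hP7])
  have ht : orderOf (t' : G) = 2 := by rw [Subgroup.orderOf_coe]; exact ht'
  have hx : orderOf (x' : G) = 7 := by rw [Subgroup.orderOf_coe]; exact hx'
  have htC : (t' : G) ∈ Subgroup.centralizer ((P7 : Subgroup G) : Set G) := t'.2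
  have hxP : (x' : G) ∈ (P7 : Subgroup G) := x'.2
  have hPC := Cfsg.Agent.S1017.le_centralizer_self P7 hP7
  have hxC : (x' : G) ∈ Subgroup.centralizer ((P7 : Subgroup G) : Set G) := hPC hxP
  have hcomm : Commute (x' : G) (t' : G) :=
    ((Subgroup.mem_centralizer_iff.1 htC) _ hxP)
  -- `C(P7)` is cyclic, generated by `x t`
  let y' : ↥(Subgroup.centralizer ((P7 : Subgroup G) : Set G)) := ⟨(x' : G), hxC⟩ * t'
  have hy : orderOf y' = 14 := by
    have hc' : Commute (⟨(x' : G), hxC⟩ : ↥(Subgroup.centralizer ((P7 : Subgroup G) : Set G))) t' := by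
      apply Subtype.ext
      exact hcomm
    have h1 : orderOf (⟨(x' : G), hxC⟩ : ↥(Subgroup.centralizer ((P7 : Subgroup G) : Set G))) = 7 := by
      rw [← Subgroup.orderOf_coe]; exact hx
    have := hc'.orderOf_mul_eq_mul_orderOf_of_coprime (by rw [h1, ht']; norm_num)
    rw [this, h1, ht']
  have hcyc : IsCyclic ↥(Subgroup.centralizer ((P7 : Subgroup G) : Set G)) :=
    isCyclic_of_orderOf_eq_card y' (by rw [hy, hC14])
  -- uniqueness of the involution of `C(P7)`
  have huniq : ∀ s : ↥(Subgroup.centralizer ((P7 : Subgroup G) : Set G)), orderOf s = 2 → s = t' := by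
    intro s hs
    classical
    have := Fintype.ofFinite ↥(Subgroup.centralizer ((P7 : Subgroup G) : Set G))
    have hle := IsCyclic.card_pow_eq_one_le (α := ↥(Subgroup.centralizer ((P7 : Subgroup G) : Set G)))
      (n := 2) (by norm_num)
    by_contra hne
    have h1t : (1 : ↥(Subgroup.centralizer ((P7 : Subgroup G) : Set G))) ≠ t' := by
      intro h; rw [← h, orderOf_one] at ht'; omega
    have h1s : (1 : ↥(Subgroup.centralizer ((P7 : Subgroup G) : Set G))) ≠ s := by
      intro h; rw [← h, orderOf_one] at hs; omega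
    have hsub : ({1, t', s} : Finset ↥(Subgroup.centralizer ((P7 : Subgroup G) : Set G))) ⊆
        Finset.univ.filter (fun a => a ^ 2 = 1) := by
      intro a ha
      simp only [Finset.mem_insert, Finset.mem_singleton] at ha
      simp only [Finset.mem_filter, Finset.mem_univ, true_and]
      rcases ha with rfl | rfl | rfl
      · exact one_pow 2
      · rw [← ht']; exact pow_orderOf_eq_one _
      · rw [← hs]; exact pow_orderOf_eq_one _
    have hc3 : ({1, t', s} : Finset ↥(Subgroup.centralizer ((P7 : Subgroup G) : Set G))).card = 3 := by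
      rw [Finset.card_insert_of_notMem, Finset.card_insert_of_notMem, Finset.card_singleton]
      · simp only [Finset.mem_singleton]; exact fun h => hne h.symm
      · simp only [Finset.mem_insert, Finset.mem_singleton]
        rintro (h | h)
        · exact h1t h
        · exact h1s h
    have := Finset.card_le_card hsub
    omega
  -- `N(P7) ≤ C(t)`
  have hNK : Subgroup.normalizer ((P7 : Subgroup G) : Set G) ≤
      Subgroup.centralizer ({(t' : G)} : Set G) := by
    intro g hg
    have hsC : g * (t' : G) * g⁻¹ ∈ Subgroup.centralizer ((P7 : Subgroup G) : Set G) := by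
      rw [Subgroup.mem_centralizer_iff]
      intro z hz
      have hz' : g⁻¹ * z * g ∈ (P7 : Subgroup G) := by
        have := (Subgroup.mem_normalizer_iff.1 (inv_mem hg) z).1 hz
        simpa using this
      have := (Subgroup.mem_centralizer_iff.1 htC) _ hz'
      calc z * (g * (t' : G) * g⁻¹) = g * ((g⁻¹ * z * g) * (t' : G)) * g⁻¹ := by group
        _ = g * ((t' : G) * (g⁻¹ * z * g)) * g⁻¹ := by rw [this]
        _ = g * (t' : G) * g⁻¹ * z := by group
    have hs2 : orderOf (⟨g * (t' : G) * g⁻¹, hsC⟩ :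
        ↥(Subgroup.centralizer ((P7 : Subgroup G) : Set G))) = 2 := by
      rw [← Subgroup.orderOf_coe]
      show orderOf (g * (t' : G) * g⁻¹) = 2
      rw [← ht]
      have := orderOf_injective (MulAut.conj g).toMonoidHom (MulAut.conj g).injective (t' : G)
      simpa [MulAut.conj_apply] using this
    have := huniq _ hs2
    have hconj : g * (t' : G) * g⁻¹ = (t' : G) := congrArg Subtype.val this
    rw [Subgroup.mem_centralizer_iff]
    intro z hz
    rw [Set.mem_singleton_iff] at hz
    subst hz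
    calc (t' : G) * g = (g * (t' : G) * g⁻¹) * g := by rw [hconj]
      _ = g * (t' : G) := by group
  refine ⟨(t' : G), ht, ?_⟩
  -- Sylow counting inside `K = C(t)`
  have hPK : (P7 : Subgroup G) ≤ Subgroup.centralizer ({(t' : G)} : Set G) :=
    (Cfsg.Agent.S1017.le_centralizer_singleton_iff _ _).2 htC
  have hcount := Cfsg.Agent.S1017.card_sylow_mul_card_normalizer (P7.subtype hPK)
  rw [card_normalizer_subtype _ P7 hPK, inf_eq_left.2 hNK, hN28] at hcount
  have hmod := card_sylow_modEq_one 7 ↥(Subgroup.centralizer ({(t' : G)} : Set G))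
  have hdvd : Nat.card ↥(Subgroup.centralizer ({(t' : G)} : Set G)) ∣ 4536 := by
    rw [← hn0]; exact Subgroup.card_subgroup_dvd_card _
  have hKne : Nat.card ↥(Subgroup.centralizer ({(t' : G)} : Set G)) ≠ 4536 := by
    intro hK
    have htop : Subgroup.centralizer ({(t' : G)} : Set G) = ⊤ :=
      Subgroup.eq_top_of_card_eq _ (by rw [hK, hn0])
    have hcen : ∀ g : G, g * (t' : G) = (t' : G) * g := by
      intro g
      have hg : g ∈ Subgroup.centralizer ({(t' : G)} : Set G) := by rw [htop]; exact Subgroup.mem_top g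
      exact ((Subgroup.mem_centralizer_iff.1 hg) _ (Set.mem_singleton _)).symm
    have hone : (t' : G) = 1 := by
      apply Cfsg.Agent.S1017.eq_one_of_forall_smul_eq (α := Sylow 7 G)
        (Cfsg.Agent.S1017.sylow_action_nontrivial (by rw [hd]; norm_num))
      intro Q
      refine Sylow.smul_eq_iff_mem_normalizer.2 ?_
      refine (Subgroup.mem_normalizer_iff (H := (Q : Subgroup G))).2 (fun h => ?_)
      rw [← hcen h, mul_inv_cancel_right]
    rw [hone, orderOf_one] at ht
    omega
  generalize Nat.card ↥(Subgroup.centralizer ({(t' : G)} : Set G)) = k at hcount hdvd hKne ⊢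
  generalize Nat.card (Sylow 7 ↥(Subgroup.centralizer ({(t' : G)} : Set G))) = n at hcount hmod
  subst hcount
  have hn162 : n ∣ 162 := by
    have : n * 28 ∣ 162 * 28 := by norm_num; exact hdvd
    exact Nat.dvd_of_mul_dvd_mul_right (by norm_num) this
  have hnle : n ≤ 162 := Nat.le_of_dvd (by norm_num) hn162
  have hmod' : n % 7 = 1 := by
    have := hmod; rw [Nat.ModEq] at this; omega
  interval_cases n <;> omega

theorem h79_orderOf_conj {G : Type*} [Group G] (g a : G) : orderOf (g * a * g⁻¹) = orderOf a := by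
  have := orderOf_injective (MulAut.conj g).toMonoidHom (MulAut.conj g).injective a
  simpa [MulAut.conj_apply] using this

/-- no involution of a simple group of order `4536` has a centralizer of order `28`
(Thompson transfer on a Sylow `2`-subgroup of order `8`) -/
theorem h79_4536_core {G : Type*} [Group G] [Finite G] [IsSimpleGroup G]
    (hn0 : Nat.card G = 4536) (t : G) (ht : orderOf t = 2)
    (hK : Nat.card (Subgroup.centralizer ({t} : Set G)) = 28) : False := by
  have h2 : Fact (Nat.Prime 2) := ⟨by norm_num⟩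
  obtain ⟨S, htS⟩ := exists_sylow_mem_of_orderOf t ht
  have hS8 : Nat.card (S : Subgroup G) = 2 ^ 3 :=
    sylow_card_eq S (show Nat.card G = 2 ^ 3 * 567 by rw [hn0]; norm_num) (by norm_num)
  have hno : ∀ T : Subgroup G, Nat.card T = 8 → ¬ T ≤ Subgroup.centralizer ({t} : Set G) := by
    intro T hT hle
    have := Subgroup.card_dvd_of_le hle
    rw [hT, hK] at this; omega
  have hcomm_mem : ∀ h : G, h * t = t * h → h ∈ Subgroup.centralizer ({t} : Set G) := by
    intro h hh
    rw [Subgroup.mem_centralizer_iff]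
    intro z hz
    rw [Set.mem_singleton_iff] at hz
    subst hz
    exact hh.symm
  -- an element of order 4
  have h4 : ∃ r ∈ (S : Subgroup G), orderOf r = 4 := by
    by_contra hcon
    push Not at hcon
    have hsq : ∀ g ∈ (S : Subgroup G), g ^ 2 = 1 := by
      intro g hg
      have hd : orderOf g ∣ 2 ^ 3 := by rw [← hS8]; exact Subgroup.orderOf_dvd_natCard _ hg
      obtain ⟨k, hk, hk'⟩ := (Nat.dvd_prime_pow Nat.prime_two).1 hd
      interval_cases k
      · rw [pow_zero, orderOf_eq_one_iff] at hk'; rw [hk', one_pow]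
      · rw [pow_one] at hk'; rw [← hk']; exact pow_orderOf_eq_one g
      · exact absurd (by rw [hk']; norm_num) (hcon g hg)
      · have : orderOf (g ^ 2) = 4 := by
          rw [orderOf_pow' g (by norm_num : 2 ≠ 0), hk']; norm_num
        exact absurd this (hcon _ (pow_mem hg 2))
    apply hno (S : Subgroup G) (by rw [hS8]; norm_num)
    intro g hg
    exact hcomm_mem g (h79_comm_of_sq _ hsq g t hg htS)
  obtain ⟨r, hrS, hr4⟩ := h4
  have hQS : Subgroup.zpowers r ≤ (S : Subgroup G) := (Subgroup.zpowers_le).2 hrS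
  have hQ4 : Nat.card (Subgroup.zpowers r) = 4 := by rw [Nat.card_zpowers, hr4]
  have hQi : (Subgroup.zpowers r).relIndex (S : Subgroup G) = 2 := by
    have := card_inf_mul_relIndex (Subgroup.zpowers r) (S : Subgroup G)
    rw [inf_eq_left.2 hQS, hQ4, hS8] at this; omega
  have hnorm : ∀ h ∈ (S : Subgroup G), ∀ q ∈ Subgroup.zpowers r, h * q * h⁻¹ ∈ Subgroup.zpowers r := by
    have hN : ((Subgroup.zpowers r).subgroupOf (S : Subgroup G)).Normal :=
      Subgroup.normal_of_index_eq_two hQi
    intro h hh q hq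
    have := hN.conj_mem ⟨q, hQS hq⟩ (Subgroup.mem_subgroupOf.2 hq) ⟨h, hh⟩
    exact Subgroup.mem_subgroupOf.1 this
  have hr2 : orderOf (r ^ 2) = 2 := by
    rw [orderOf_pow' r (by norm_num : 2 ≠ 0), hr4]; norm_num
  have hcenS : ∀ h ∈ (S : Subgroup G), h * r ^ 2 * h⁻¹ = r ^ 2 := by
    intro h hh
    apply h79_invol_zpowers r _ hr4 (hnorm h hh _ (pow_mem (Subgroup.mem_zpowers r) 2))
    rw [h79_orderOf_conj, hr2]
  have hcenS' : ∀ h ∈ (S : Subgroup G), h * r ^ 2 = r ^ 2 * h := by
    intro h hh
    have := hcenS h hh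
    calc h * r ^ 2 = (h * r ^ 2 * h⁻¹) * h := by group
      _ = r ^ 2 * h := by rw [this]
  have htQ : t ∉ Subgroup.zpowers r := by
    intro htq
    have htr : t = r ^ 2 := h79_invol_zpowers r t hr4 htq ht
    apply hno (S : Subgroup G) (by rw [hS8]; norm_num)
    intro h hh
    apply hcomm_mem
    rw [htr]
    exact hcenS' h hh
  rcases Cfsg.Agent.S0111.result S (Subgroup.zpowers r) hQS hQi t ht htS htQ with
    ⟨M, hMn, hMi, -⟩ | ⟨g, hg⟩
  · rcases hMn.eq_bot_or_eq_top with h | h
    · rw [h, Subgroup.index_bot, hn0] at hMi; omega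
    · rw [h, Subgroup.index_top] at hMi; omega
  · have hz : g * t * g⁻¹ = r ^ 2 :=
      h79_invol_zpowers r _ hr4 hg (by rw [h79_orderOf_conj, ht])
    apply hno ((g⁻¹ • S : Sylow 2 G) : Subgroup G)
      (by rw [Cfsg.Agent.S1017.sylow_card_all S (g⁻¹ • S), hS8]; norm_num)
    intro y hy
    rw [Cfsg.Agent.S1017.mem_smul_sylow_iff, inv_inv] at hy
    apply hcomm_mem
    have hw := hcenS' _ hy
    rw [← hz] at hw
    -- (g y g⁻¹) (g t g⁻¹) = (g t g⁻¹) (g y g⁻¹)
    have h1 : g * (y * t) * g⁻¹ = g * (t * y) * g⁻¹ := by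
      calc g * (y * t) * g⁻¹ = g * y * g⁻¹ * (g * t * g⁻¹) := by group
        _ = g * t * g⁻¹ * (g * y * g⁻¹) := hw
        _ = g * (t * y) * g⁻¹ := by group
    exact mul_left_cancel (mul_right_cancel h1)

set_option maxRecDepth 100000 in
/-- no nonabelian simple group of order 4536 -/
theorem no_4536.{u} : NoSimple.{u} 4536 := by
  intro G _ _ _ hna hn0
  have h7 : Fact (Nat.Prime 7) := ⟨by norm_num⟩
  have hn7 : Nat.card G = 7 ^ 1 * 648 := by rw [hn0]; norm_num
  obtain ⟨hP7, hr7, hd7, hm7, hb7, hone7, he7⟩ :=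
    h87_data hna 7 648 (by norm_num) hn7 (by norm_num)
  obtain ⟨P7⟩ : Nonempty (Sylow 7 G) := inferInstance
  obtain ⟨e7, he7a, he7b, he7c⟩ := he7 P7
  have he7le : e7 ≤ 6 := Nat.le_of_dvd (by norm_num) he7a
  rcases h79_4536_adm7 _ hr7 hd7 hm7 hb7 with h | h
  · -- `n_7 = 36`: an element of order 3 in `C(P7)` has no admissible fixed-point data
    rw [h] at he7c
    have h3c : 3 ∣ Nat.card (Subgroup.centralizer ((P7 : Subgroup G) : Set G)) := by
      generalize Nat.card (Subgroup.centralizer ((P7 : Subgroup G) : Set G)) = c at he7c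
      interval_cases e7 <;> omega
    obtain ⟨f, m', -, hf1, hf2, -, hf3, hf4⟩ :=
      exists_fix (G := G) (by rw [hn0]; norm_num) (p := 7) (r := 3) (by norm_num) P7 (hP7 P7)
        hone7 h3c
    rw [h] at hf2 hf3 hf4
    have hf : f = 15 := by omega
    subst hf
    obtain ⟨-, -, h15⟩ := hf4 (by norm_num)
    rw [hn0] at h15
    have : 5 ∣ 4536 := Dvd.dvd.trans ⟨3 * m', by ring⟩ h15
    omega
  · -- `n_7 = 162`: `|C(P7)| = 14`
    rw [h] at he7c
    have hC14 : Nat.card (Subgroup.centralizer ((P7 : Subgroup G) : Set G)) = 14 := by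
      generalize Nat.card (Subgroup.centralizer ((P7 : Subgroup G) : Set G)) = c at he7c ⊢
      interval_cases e7 <;> omega
    obtain ⟨t, ht, hK⟩ := h79_4536_cent hn0 P7 (hP7 P7) h hC14
    exact h79_4536_core hn0 t ht hK

end Cfsg.Agent.Helper79.SV
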