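import Cfsg.Agent.Lib.Helper79.CenterDegree

set_option autoImplicit false
set_option linter.unusedSectionVars false
set_option linter.style.haveILetI false

namespace Cfsg.Agent.Helper79

open Module
open scoped ComplexConjugate

universe u v

section ScalarIndex

variable {G : Type v} [Group G] [Fintype G] {V : Type u} [AddCommGroup V] [Module ℂ V]
  [FiniteDimensional ℂ V]

/-- a scalar by which a group element acts has absolute value one -/
theorem scalar_conj_mul (ρ : Representation ℂ G V) [ρ.IsIrreducible] (z : G) (l : ℂ)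
    (hl : ρ z = l • (1 : Module.End ℂ V)) : conj l * l = 1 := by
  have hnt := nontrivial_of_irreducible ρ
  have hpow : (ρ z) ^ orderOf z = 1 := by rw [← map_pow, pow_orderOf_eq_one, map_one]
  rw [hl, smul_pow, one_pow] at hpow
  have hl1 : l ^ orderOf z = 1 := by
    have h1 : (l ^ orderOf z) • (1 : Module.End ℂ V) = (1 : ℂ) • (1 : Module.End ℂ V) := by
      rw [hpow, one_smul]
    have hinj : Function.Injective (fun c : ℂ => c • (1 : Module.End ℂ V)) := by
      intro c d hcd
      obtain ⟨v, hv⟩ := exists_ne (0 : V)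
      have := congrArg (fun f : Module.End ℂ V => f v) hcd
      simp only [LinearMap.smul_apply, Module.End.one_apply] at this
      exact smul_left_injective ℂ hv this
    exact hinj h1
  have hnorm : ‖l‖ = 1 := Complex.norm_eq_one_of_pow_eq_one hl1 (orderOf_pos z).ne'
  rw [mul_comm, Complex.mul_conj, Complex.normSq_eq_norm_sq, hnorm]
  norm_num

/-- the degree of an irreducible representation divides the index of any subgroup acting by
scalars -/
theorem finrank_dvd_index_of_scalar (ρ : Representation ℂ G V) [ρ.IsIrreducible]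
    (A : Subgroup G) (hA : ∀ z ∈ A, ∃ l : ℂ, ρ z = l • (1 : Module.End ℂ V)) :
    finrank ℂ V ∣ A.index := by
  classical
  haveI : Finite G := Finite.of_fintype G
  haveI : Fintype (G ⧸ A) := Fintype.ofFinite _
  have hnt := nontrivial_of_irreducible ρ
  let a : G → ℂ := fun g => ρ.character g⁻¹
  have ha : ∀ g h : G, a (h * g * h⁻¹) = a g := by
    intro g h
    simp only [a]
    rw [show (h * g * h⁻¹)⁻¹ = h * g⁻¹ * h⁻¹ by group, Representation.char_conj]
  obtain ⟨c, hc1, hc2⟩ := schur_scalar ρ (wsum a ρ) (wsum_comm a ha ρ)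
  rw [trace_wsum] at hc2
  have : Invertible (Nat.card G : ℂ) := invertibleOfNonzero card_ne_zero_complex
  have horth := Representation.char_orthonormal ρ ρ
  rw [if_pos ⟨Representation.Equiv.refl ρ⟩] at horth
  have hsum : ∑ g : G, a g * ρ.character g = (Nat.card G : ℂ) := by
    have h1 : ∑ g : G, a g * ρ.character g = ∑ g : G, ρ.character g * ρ.character g⁻¹ := by
      apply Finset.sum_congr rfl
      intro g _
      simp only [a]; ring
    rw [h1]
    have := congrArg (fun z => (Nat.card G : ℂ) * z) horth
    simp only [mul_one] at this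
    rw [← this, ← mul_assoc, mul_inv_cancel₀ card_ne_zero_complex, one_mul]
  rw [hsum] at hc2
  have hF : ∀ g, ∀ z ∈ A, a (g * z) • ρ (g * z) = a g • ρ g := by
    intro g z hz
    obtain ⟨l, hl⟩ := hA z hz
    have hl1 := scalar_conj_mul ρ z l hl
    have h1 : ρ (g * z) = l • ρ g := by
      rw [map_mul, hl, mul_smul_comm, mul_one]
    have h2 : a (g * z) = conj l * a g := by
      simp only [a]
      rw [char_inv, char_inv, ← map_mul]
      congr 1
      unfold Representation.character
      rw [h1, map_smul, smul_eq_mul]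
    rw [h1, h2, smul_smul, mul_right_comm, hl1, one_mul]
  let b : G → ℂ := fun g =>
    if Quotient.out (QuotientGroup.mk g : G ⧸ A) = g then a g else 0
  have hb : ∀ g, IsIntegral ℤ (b g) := by
    intro g
    simp only [b]
    split_ifs
    · exact isIntegral_char ρ g⁻¹
    · exact isIntegral_zero
  have hwb : wsum a ρ = Nat.card A • wsum b ρ := by
    unfold wsum
    rw [sum_eq_card_smul_sum_out A (fun g => a g • ρ g) hF]
    congr 1
    rw [← sum_ite_out A (fun g => a g • ρ g)]
    apply Finset.sum_congr rfl
    intro g _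
    simp only [b]
    split_ifs <;> simp
  have hZ0 : (Nat.card A : ℂ) ≠ 0 := by
    exact_mod_cast (Nat.card_pos (α := A)).ne'
  have hwb' : wsum b ρ = (c / (Nat.card A : ℂ)) • (1 : Module.End ℂ V) := by
    have h1 : (Nat.card A : ℂ) • wsum b ρ = c • (1 : Module.End ℂ V) := by
      rw [← hc1, hwb, Nat.cast_smul_eq_nsmul]
    rw [div_eq_inv_mul, mul_smul, ← h1, smul_smul, inv_mul_cancel₀ hZ0, one_smul]
  have hint : IsIntegral ℤ (c / (Nat.card A : ℂ)) := by
    apply isIntegral_of_smul_one (V := V)
    rw [← hwb']
    exact isIntegral_wsum ρ b hb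
  have hmul : c / (Nat.card A : ℂ) *
      ((Nat.card A * finrank ℂ V : ℕ) : ℂ) = (Nat.card G : ℂ) := by
    push_cast
    rw [← hc2]
    field_simp
  have hpos : Nat.card A * finrank ℂ V ≠ 0 :=
    Nat.mul_ne_zero (Nat.card_pos).ne' (Module.finrank_pos).ne'
  have hdvd := dvd_of_isIntegral_of_mul_eq _ _ _ hpos hmul hint
  rw [← Subgroup.card_mul_index A] at hdvd
  exact Nat.dvd_of_mul_dvd_mul_left Nat.card_pos hdvd

end ScalarIndex

end Cfsg.Agent.Helper79
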