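import Mathlib
import Cfsg.Agent.Lib.Helper84.Sp4Defs
import Cfsg.Agent.Lib.Helper2.Nilpotent

/-!
# PSP4F (SC1) `tt_mem_of_normal` (helper79, for helper84's S5320 server)
-/

set_option autoImplicit false

namespace Cfsg.Agent.Helper79.Sp4

open Matrix Cfsg.Agent.Helper84.Sp4

variable {F : Type*} [Field F]

theorem sc1_embM_neg_one :
    embM (-1 : Matrix (Fin 2) (Fin 2) F) (-1) = (-1 : Matrix (Fin 2 ⊕ Fin 2) (Fin 2 ⊕ Fin 2) F) := by
  ext i j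
  rcases i with i | i <;> rcases j with j | j <;> fin_cases i <;> fin_cases j <;>
    simp [embM]

theorem sc1_zc_val : ((zc : Sp4 F) : Matrix (Fin 2 ⊕ Fin 2) (Fin 2 ⊕ Fin 2) F) = -1 := by
  rw [zc, emb_val]
  simp only [Matrix.SpecialLinearGroup.coe_neg, Matrix.SpecialLinearGroup.coe_one]
  exact sc1_embM_neg_one

theorem sc1_zc_comm (g : Sp4 F) : zc * g = g * zc := by
  apply Subtype.ext
  change ((zc : Sp4 F) : Matrix (Fin 2 ⊕ Fin 2) (Fin 2 ⊕ Fin 2) F) * (g : Matrix _ _ F) =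
    (g : Matrix _ _ F) * ((zc : Sp4 F) : Matrix (Fin 2 ⊕ Fin 2) (Fin 2 ⊕ Fin 2) F)
  rw [sc1_zc_val]
  simp

theorem sc1_zc_mul_zc : (zc : Sp4 F) * zc = 1 := by
  apply Subtype.ext
  change ((zc : Sp4 F) : Matrix (Fin 2 ⊕ Fin 2) (Fin 2 ⊕ Fin 2) F) *
    ((zc : Sp4 F) : Matrix (Fin 2 ⊕ Fin 2) (Fin 2 ⊕ Fin 2) F) = 1
  rw [sc1_zc_val]
  simp

theorem sc1_zc_inv : (zc : Sp4 F)⁻¹ = zc := by
  rw [inv_eq_iff_mul_eq_one, sc1_zc_mul_zc]

/-- the subgroup `{1, zc}` -/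
def sc1Z (F : Type*) [Field F] : Subgroup (Sp4 F) where
  carrier := {g | g = 1 ∨ g = zc}
  one_mem' := Or.inl rfl
  mul_mem' := by
    rintro a b (rfl | rfl) (rfl | rfl)
    · left; rw [one_mul]
    · right; rw [one_mul]
    · right; rw [mul_one]
    · left; exact sc1_zc_mul_zc
  inv_mem' := by
    rintro a (rfl | rfl)
    · left; rw [inv_one]
    · right; exact sc1_zc_inv

theorem mem_sc1Z (g : Sp4 F) : g ∈ sc1Z F ↔ g = 1 ∨ g = zc := Iff.rfl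

theorem tt_mem_of_normal [Finite F] (h2 : (2 : F) ≠ 0)
    (hcen : ∀ x : Sp4 F, x ∈ (SS : Subgroup (Sp4 F)) →
      (∀ s ∈ (SS : Subgroup (Sp4 F)), x * s * x⁻¹ * s⁻¹ = 1 ∨ x * s * x⁻¹ * s⁻¹ = zc) →
      x = 1 ∨ x = zc ∨ x = tt ∨ x = tt * zc)
    (hpS : IsPGroup 2 (SS : Subgroup (Sp4 F)))
    (T : Subgroup (Sp4 F)) (hZT : zc ∈ T) (hTS : T ≤ SS)
    (hne : ∃ x ∈ T, x ≠ 1 ∧ x ≠ zc)
    (hnorm : ∀ x ∈ T, ∀ s ∈ (SS : Subgroup (Sp4 F)), s * x * s⁻¹ ∈ T) : tt ∈ T := by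
  classical
  have hfin : Finite (Sp4 F) := by
    have : Finite (Matrix (Fin 2 ⊕ Fin 2) (Fin 2 ⊕ Fin 2) F) := inferInstance
    exact Finite.of_injective (fun g : Sp4 F => (g : Matrix (Fin 2 ⊕ Fin 2) (Fin 2 ⊕ Fin 2) F))
      Subtype.val_injective
  have : Fact (Nat.Prime 2) := ⟨Nat.prime_two⟩
  -- the subgroups of `SS`
  let Z' : Subgroup (SS : Subgroup (Sp4 F)) := (sc1Z F).subgroupOf SS
  let T' : Subgroup (SS : Subgroup (Sp4 F)) := T.subgroupOf SS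
  have hZn : Z'.Normal := by
    refine ⟨fun z hz s => ?_⟩
    rw [Subgroup.mem_subgroupOf] at hz ⊢
    rcases hz with hz | hz
    · left
      simp only [Subgroup.coe_mul, Subgroup.coe_inv, hz, mul_one, mul_inv_cancel]
    · right
      simp only [Subgroup.coe_mul, Subgroup.coe_inv, hz]
      rw [← sc1_zc_comm, mul_assoc, mul_inv_cancel, mul_one]
  have hTn : T'.Normal := by
    refine ⟨fun x hx s => ?_⟩
    rw [Subgroup.mem_subgroupOf] at hx ⊢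
    simp only [Subgroup.coe_mul, Subgroup.coe_inv]
    exact hnorm _ hx _ s.2
  have hnil : Group.IsNilpotent ((SS : Subgroup (Sp4 F)) ⧸ Z') := by
    have hp : IsPGroup 2 ((SS : Subgroup (Sp4 F)) ⧸ Z') := hpS.to_quotient Z'
    exact hp.isNilpotent
  let K : Subgroup ((SS : Subgroup (Sp4 F)) ⧸ Z') := T'.map (QuotientGroup.mk' Z')
  have hKn : K.Normal := hTn.map _ (QuotientGroup.mk'_surjective Z')
  have hKne : K ≠ ⊥ := by
    obtain ⟨x, hxT, hx1, hxz⟩ := hne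
    intro hK
    have hx' : QuotientGroup.mk' Z' ⟨x, hTS hxT⟩ ∈ K :=
      Subgroup.mem_map_of_mem _ (by rw [Subgroup.mem_subgroupOf]; exact hxT)
    rw [hK, Subgroup.mem_bot, QuotientGroup.mk'_apply, QuotientGroup.eq_one_iff,
      Subgroup.mem_subgroupOf] at hx'
    rcases hx' with h | h
    · exact hx1 h
    · exact hxz h
  have hmeet := Cfsg.Agent.Helper2.normal_inf_center_ne_bot K hKne
  obtain ⟨⟨k, hk⟩, hk1⟩ := (Subgroup.ne_bot_iff_exists_ne_one).mp hmeet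
  obtain ⟨hkK, hkc⟩ := Subgroup.mem_inf.mp hk
  have hk1' : k ≠ 1 := fun h => hk1 (Subtype.ext h)
  obtain ⟨x, hxT, rfl⟩ := Subgroup.mem_map.mp hkK
  rw [Subgroup.mem_subgroupOf] at hxT
  -- `x ∉ Z`
  have hxZ : ¬ ((x : Sp4 F) = 1 ∨ (x : Sp4 F) = zc) := by
    intro h
    apply hk1'
    rw [QuotientGroup.mk'_apply, QuotientGroup.eq_one_iff, Subgroup.mem_subgroupOf]
    exact h
  -- `x` is central modulo `Z`
  have hxc : ∀ s ∈ (SS : Subgroup (Sp4 F)),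
      (x : Sp4 F) * s * (x : Sp4 F)⁻¹ * s⁻¹ = 1 ∨ (x : Sp4 F) * s * (x : Sp4 F)⁻¹ * s⁻¹ = zc := by
    intro s hs
    have hcomm := (Subgroup.mem_center_iff.mp hkc) (QuotientGroup.mk' Z' ⟨s, hs⟩)
    have h1 : QuotientGroup.mk' Z' (x * ⟨s, hs⟩ * x⁻¹ * (⟨s, hs⟩ : (SS : Subgroup (Sp4 F)))⁻¹) = 1 := by
      rw [map_mul, map_mul, map_mul, map_inv, map_inv, ← hcomm]
      group
    rw [QuotientGroup.mk'_apply, QuotientGroup.eq_one_iff, Subgroup.mem_subgroupOf] at h1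
    exact h1
  rcases hcen x x.2 hxc with h | h | h | h
  · exact absurd (Or.inl h) hxZ
  · exact absurd (Or.inr h) hxZ
  · rw [← h]; exact hxT
  · have := T.mul_mem hxT (T.inv_mem hZT)
    rwa [h, mul_assoc, mul_inv_cancel, mul_one] at this

end Cfsg.Agent.Helper79.Sp4
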