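import Mathlib
import Cfsg.Agent.Lib.Helper84.Sp4Defs

/-!
# PSP4F (SC2) `eq_SS_of_tt_mem` (helper79, for helper84's S5320 server)
-/

set_option autoImplicit false

namespace Cfsg.Agent.Helper79.Sp4

open Matrix Cfsg.Agent.Helper84.Sp4

variable {F : Type*} [Field F]

theorem sc2_emb_mul (a b c d : SL2 F) :
    (emb (a, b) : Sp4 F) * emb (c, d) = emb (a * c, b * d) := by
  rw [← map_mul]; rfl

theorem sc2_emb_inv (a b : SL2 F) : (emb (a, b) : Sp4 F)⁻¹ = emb (a⁻¹, b⁻¹) := by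
  rw [← map_inv]; rfl

theorem eq_SS_of_tt_mem [Finite F] (h2 : (2 : F) ≠ 0)
    (hTW : ∃ g : Sp4 F, g * tt * g⁻¹ = sw)
    (hC4 : ∀ X : SL2 F, X * X = -1 → ∃ g : SL2 F, g * X * g⁻¹ = i0)
    (hgen : ∀ K : Subgroup (SL2 F), (∀ a ∈ (Q : Subgroup (SL2 F)), ∀ b ∈ (Q : Subgroup (SL2 F)),
      a * a = -1 → b * b = -1 → a * b⁻¹ ∈ K) → (Q : Subgroup (SL2 F)) ≤ K)
    (hSS : ∀ g : Sp4 F, g ∈ (SS : Subgroup (Sp4 F)) ↔ ∃ a ∈ (Q : Subgroup (SL2 F)),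
      ∃ b ∈ (Q : Subgroup (SL2 F)), g = emb (a, b) ∨ g = emb (a, b) * sw)
    (hsw : ∀ A B : SL2 F, (sw : Sp4 F) * emb (A, B) * sw⁻¹ = emb (B, A))
    (T : Subgroup (Sp4 F)) (hZT : zc ∈ T) (hTS : T ≤ SS) (htt : tt ∈ T)
    (hcl : ∀ x ∈ T, ∀ g : Sp4 F, g * x * g⁻¹ ∈ (SS : Subgroup (Sp4 F)) → g * x * g⁻¹ ∈ T) :
    T = SS := by
  have hQ1 : (1 : SL2 F) ∈ (Q : Subgroup (SL2 F)) := Subgroup.one_mem _
  -- `sw emb(A,B) = emb(B,A) sw`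
  have hsw' : ∀ A B : SL2 F, (sw : Sp4 F) * emb (A, B) = emb (B, A) * sw := by
    intro A B
    rw [← hsw A B]; group
  -- step 1: `sw ∈ T`
  have hswSS : (sw : Sp4 F) ∈ (SS : Subgroup (Sp4 F)) := by
    rw [hSS]
    refine ⟨1, hQ1, 1, hQ1, Or.inr ?_⟩
    rw [show ((1 : SL2 F), (1 : SL2 F)) = (1 : SL2 F × SL2 F) from rfl, map_one, one_mul]
  have hswT : (sw : Sp4 F) ∈ T := by
    obtain ⟨g, hg⟩ := hTW
    have := hcl tt htt g (by rw [hg]; exact hswSS)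
    rwa [hg] at this
  -- step 2: `emb (a, a⁻¹) ∈ T` for `a ∈ Q`
  have h2' : ∀ a ∈ (Q : Subgroup (SL2 F)), (emb (a, a⁻¹) : Sp4 F) ∈ T := by
    intro a ha
    have heq : (emb (a, 1) : Sp4 F) * sw * (emb (a, 1))⁻¹ = emb (a, a⁻¹) * sw := by
      rw [sc2_emb_inv, mul_assoc, hsw', ← mul_assoc, sc2_emb_mul, inv_one, mul_one, one_mul]
    have hmem : (emb (a, a⁻¹) : Sp4 F) * sw ∈ (SS : Subgroup (Sp4 F)) := by
      rw [hSS]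
      exact ⟨a, ha, a⁻¹, Subgroup.inv_mem _ ha, Or.inr rfl⟩
    have := hcl sw hswT (emb (a, 1)) (by rw [heq]; exact hmem)
    rw [heq] at this
    have h3 := T.mul_mem this (T.inv_mem hswT)
    rwa [mul_assoc, mul_inv_cancel, mul_one] at h3
  -- step 3
  have h3 : ∀ a ∈ (Q : Subgroup (SL2 F)), ∀ b ∈ (Q : Subgroup (SL2 F)),
      a * a = -1 → b * b = -1 → (emb (a * b⁻¹, 1) : Sp4 F) ∈ T := by
    intro a ha b hb haa hbb
    obtain ⟨g₁, hg₁⟩ := hC4 a haa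
    obtain ⟨g₂, hg₂⟩ := hC4 b hbb
    -- `g b g⁻¹ = a` with `g = g₁⁻¹ g₂`
    have hconj : (g₁⁻¹ * g₂) * b * (g₁⁻¹ * g₂)⁻¹ = a := by
      have : g₂ * b * g₂⁻¹ = g₁ * a * g₁⁻¹ := by rw [hg₁, hg₂]
      calc (g₁⁻¹ * g₂) * b * (g₁⁻¹ * g₂)⁻¹ = g₁⁻¹ * (g₂ * b * g₂⁻¹) * g₁ := by group
        _ = g₁⁻¹ * (g₁ * a * g₁⁻¹) * g₁ := by rw [this]
        _ = a := by group
    have heq : (emb (g₁⁻¹ * g₂, 1) : Sp4 F) * emb (b, b⁻¹) * (emb (g₁⁻¹ * g₂, 1))⁻¹ =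
        emb (a, b⁻¹) := by
      rw [sc2_emb_inv, sc2_emb_mul, sc2_emb_mul, hconj, inv_one, one_mul, mul_one]
    have hmem : (emb (a, b⁻¹) : Sp4 F) ∈ (SS : Subgroup (Sp4 F)) := by
      rw [hSS]
      exact ⟨a, ha, b⁻¹, Subgroup.inv_mem _ hb, Or.inl rfl⟩
    have h4 := hcl _ (h2' b hb) (emb (g₁⁻¹ * g₂, 1)) (by rw [heq]; exact hmem)
    rw [heq] at h4
    have h5 := T.mul_mem h4 (T.inv_mem (h2' b hb))
    rwa [sc2_emb_inv, sc2_emb_mul, inv_inv, inv_mul_cancel] at h5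
  -- step 4
  have h4 : ∀ a ∈ (Q : Subgroup (SL2 F)), (emb (a, 1) : Sp4 F) ∈ T := by
    have := hgen (T.comap ((emb : SL2 F × SL2 F →* Sp4 F).comp (MonoidHom.inl (SL2 F) (SL2 F))))
      (by
        intro a ha b hb haa hbb
        rw [Subgroup.mem_comap]
        exact h3 a ha b hb haa hbb)
    intro a ha
    exact this ha
  -- step 5
  have h5 : ∀ a ∈ (Q : Subgroup (SL2 F)), (emb (1, a) : Sp4 F) ∈ T := by
    intro a ha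
    rw [← hsw a 1]
    exact T.mul_mem (T.mul_mem hswT (h4 a ha)) (T.inv_mem hswT)
  apply le_antisymm hTS
  intro g hg
  rw [hSS] at hg
  obtain ⟨a, ha, b, hb, hg | hg⟩ := hg
  · rw [hg, show (emb (a, b) : Sp4 F) = emb (a, 1) * emb (1, b) by
      rw [sc2_emb_mul, mul_one, one_mul]]
    exact T.mul_mem (h4 a ha) (h5 b hb)
  · rw [hg, show (emb (a, b) : Sp4 F) = emb (a, 1) * emb (1, b) by
      rw [sc2_emb_mul, mul_one, one_mul]]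
    exact T.mul_mem (T.mul_mem (h4 a ha) (h5 b hb)) hswT

end Cfsg.Agent.Helper79.Sp4
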