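import Mathlib
import Cfsg.Agent.Lib.Helper84.Sp4Defs
import Cfsg.Agent.Lib.Helper79.Sp4SC1
import Cfsg.Agent.Lib.Helper79.Sp4SC2

/-!
# PSP4F (NSS) `normalizer_SS` (helper79, for helper84's S5320 server)
-/

set_option autoImplicit false

namespace Cfsg.Agent.Helper79.Sp4

open Matrix Cfsg.Agent.Helper84.Sp4

variable {F : Type*} [Field F]

theorem nss_neg_one_comm (X : SL2 F) : (-1 : SL2 F) * X = X * (-1) := by
  rw [neg_mul, mul_neg, one_mul, mul_one]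

theorem nss_neg_one_mem_Q : (-1 : SL2 F) ∈ (Q : Subgroup (SL2 F)) := by
  have h1 : (-1 : SL2 F) ∈ (Tor2 : Subgroup (SL2 F)) := by
    apply Subgroup.subset_closure
    refine ⟨?_, 1, ?_⟩
    · rw [Tor, Subgroup.mem_centralizer_iff]
      intro h hh
      rw [Set.mem_singleton_iff] at hh
      rw [hh]
      exact (nss_neg_one_comm _).symm
    · rw [pow_one, sq, neg_mul_neg, one_mul]
  exact (le_sup_left : (Tor2 : Subgroup (SL2 F)) ≤ Q) h1

theorem nss_one_ne_neg_one (h2 : (2 : F) ≠ 0) : (1 : SL2 F) ≠ -1 := by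
  intro h
  have := congrArg (fun X : SL2 F => (X : Matrix (Fin 2) (Fin 2) F) 0 0) h
  simp only [Matrix.SpecialLinearGroup.coe_neg, Matrix.SpecialLinearGroup.coe_one,
    Matrix.neg_apply, Matrix.one_apply_eq] at this
  apply h2
  linear_combination this

theorem nss_tt_mul_tt : (tt : Sp4 F) * tt = 1 := by
  rw [tt, sc2_emb_mul, neg_mul_neg, one_mul]
  exact map_one _

theorem nss_tt_inv : (tt : Sp4 F)⁻¹ = tt := by
  rw [inv_eq_iff_mul_eq_one, nss_tt_mul_tt]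

theorem nss_tt_comm_emb (a b : SL2 F) : (tt : Sp4 F) * emb (a, b) = emb (a, b) * tt := by
  rw [tt, sc2_emb_mul, sc2_emb_mul, nss_neg_one_comm, one_mul, mul_one]

theorem nss_tt_mul_zc : (tt : Sp4 F) * zc = emb (1, -1) := by
  rw [tt, zc, sc2_emb_mul, neg_mul_neg, one_mul, one_mul]

theorem normalizer_SS [Finite F] (h2 : (2 : F) ≠ 0)
    (hcen : ∀ x : Sp4 F, x ∈ (SS : Subgroup (Sp4 F)) →
      (∀ s ∈ (SS : Subgroup (Sp4 F)), x * s * x⁻¹ * s⁻¹ = 1 ∨ x * s * x⁻¹ * s⁻¹ = zc) →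
      x = 1 ∨ x = zc ∨ x = tt ∨ x = tt * zc)
    (hctt1 : ∀ g : Sp4 F, g * tt = tt * g → ∃ X : SL2 F × SL2 F, g = emb X)
    (hctt2 : ∀ g : Sp4 F, g * tt * g⁻¹ = tt * zc → ∃ X : SL2 F × SL2 F, g = emb X * sw)
    (hSS : ∀ g : Sp4 F, g ∈ (SS : Subgroup (Sp4 F)) ↔ ∃ a ∈ (Q : Subgroup (SL2 F)),
      ∃ b ∈ (Q : Subgroup (SL2 F)), g = emb (a, b) ∨ g = emb (a, b) * sw)
    (hinj : Function.Injective (emb : SL2 F × SL2 F → Sp4 F))
    (hne : ∀ X Y : SL2 F × SL2 F, (emb X : Sp4 F) ≠ emb Y * sw)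
    (hsw : ∀ A B : SL2 F, (sw : Sp4 F) * emb (A, B) * sw⁻¹ = emb (B, A))
    (g : Sp4 F) (hg : g ∈ Subgroup.normalizer ((SS : Subgroup (Sp4 F)) : Set (Sp4 F))) :
    ∃ s ∈ (SS : Subgroup (Sp4 F)),
      ∃ a ∈ Subgroup.normalizer ((Q : Subgroup (SL2 F)) : Set (SL2 F)), g = s * emb (a, a) := by
  have hQ1 : (1 : SL2 F) ∈ (Q : Subgroup (SL2 F)) := Subgroup.one_mem _
  have hsw' : ∀ A B : SL2 F, (sw : Sp4 F) * emb (A, B) = emb (B, A) * sw := by
    intro A B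
    rw [← hsw A B]; group
  have hswSS : (sw : Sp4 F) ∈ (SS : Subgroup (Sp4 F)) := by
    rw [hSS]
    refine ⟨1, hQ1, 1, hQ1, Or.inr ?_⟩
    rw [show ((1 : SL2 F), (1 : SL2 F)) = (1 : SL2 F × SL2 F) from rfl, map_one, one_mul]
  have httSS : (tt : Sp4 F) ∈ (SS : Subgroup (Sp4 F)) := by
    rw [hSS]
    exact ⟨-1, nss_neg_one_mem_Q, 1, hQ1, Or.inl rfl⟩
  -- `[tt, s] ∈ {1, zc}` for `s ∈ SS`
  have htt_comm : ∀ s ∈ (SS : Subgroup (Sp4 F)),
      tt * s * tt⁻¹ * s⁻¹ = 1 ∨ tt * s * tt⁻¹ * s⁻¹ = zc := by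
    intro s hs
    rw [hSS] at hs
    obtain ⟨a, -, b, -, rfl | rfl⟩ := hs
    · left
      rw [nss_tt_comm_emb]; group
    · right
      rw [nss_tt_inv]
      have e1 : (sw : Sp4 F) * tt = emb (1, -1) * sw := by rw [tt, hsw']
      calc (tt : Sp4 F) * (emb (a, b) * sw) * tt * (emb (a, b) * sw)⁻¹
          = tt * emb (a, b) * (sw * tt) * sw⁻¹ * (emb (a, b))⁻¹ := by group
        _ = tt * emb (a, b) * (emb (1, -1) * sw) * sw⁻¹ * (emb (a, b))⁻¹ := by rw [e1]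
        _ = tt * (emb (a, b) * emb (1, -1) * (emb (a, b))⁻¹) := by group
        _ = zc := by
            rw [sc2_emb_inv, sc2_emb_mul, sc2_emb_mul, mul_one, mul_inv_cancel, mul_neg, mul_one,
              neg_mul, mul_inv_cancel, tt, sc2_emb_mul, mul_one, one_mul]
            rfl
  -- the general reduction: `g = emb (a, b)` normalizing `SS`
  have key : ∀ a b : SL2 F, (emb (a, b) : Sp4 F) ∈
      Subgroup.normalizer ((SS : Subgroup (Sp4 F)) : Set (Sp4 F)) →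
      ∃ s ∈ (SS : Subgroup (Sp4 F)),
        ∃ c ∈ Subgroup.normalizer ((Q : Subgroup (SL2 F)) : Set (SL2 F)),
          (emb (a, b) : Sp4 F) = s * emb (c, c) := by
    intro a b hab
    -- conjugation by `emb (a, b)` maps `Q × 1` into itself
    have hconj : ∀ a b : SL2 F, (emb (a, b) : Sp4 F) ∈
        Subgroup.normalizer ((SS : Subgroup (Sp4 F)) : Set (Sp4 F)) →
        ∀ c ∈ (Q : Subgroup (SL2 F)), b * c * b⁻¹ ∈ (Q : Subgroup (SL2 F)) := by
      intro a b hab c hc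
      have h1 : (emb (1, c) : Sp4 F) ∈ (SS : Subgroup (Sp4 F)) := by
        rw [hSS]; exact ⟨1, hQ1, c, hc, Or.inl rfl⟩
      have h3 := (Subgroup.mem_normalizer_iff.mp hab _).mp h1
      rw [sc2_emb_inv, sc2_emb_mul, sc2_emb_mul, mul_one, mul_inv_cancel, hSS] at h3
      obtain ⟨a', -, b', hb', h3 | h3⟩ := h3
      · have := hinj h3
        rw [Prod.mk.injEq] at this
        rw [this.2]; exact hb'
      · exact absurd h3 (hne _ _)
    have hinv : (emb (a⁻¹, b⁻¹) : Sp4 F) ∈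
        Subgroup.normalizer ((SS : Subgroup (Sp4 F)) : Set (Sp4 F)) := by
      rw [← sc2_emb_inv]; exact Subgroup.inv_mem _ hab
    have hbN : b ∈ Subgroup.normalizer ((Q : Subgroup (SL2 F)) : Set (SL2 F)) := by
      rw [Subgroup.mem_normalizer_iff]
      intro c
      refine ⟨hconj a b hab c, fun h => ?_⟩
      have := hconj a⁻¹ b⁻¹ hinv _ h
      rwa [inv_inv, show b⁻¹ * (b * c * b⁻¹) * b = c by group] at this
    -- `a b⁻¹ ∈ Q`
    have h4 := (Subgroup.mem_normalizer_iff.mp hab _).mp hswSS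
    have e4 : (emb (a, b) : Sp4 F) * sw * (emb (a, b))⁻¹ = emb (a * b⁻¹, b * a⁻¹) * sw := by
      rw [sc2_emb_inv, mul_assoc, hsw', ← mul_assoc, sc2_emb_mul]
    rw [e4, hSS] at h4
    obtain ⟨a', ha', b', -, h4 | h4⟩ := h4
    · exact absurd h4.symm (hne _ _)
    · have h5 := hinj (mul_right_cancel h4)
      rw [Prod.mk.injEq] at h5
      refine ⟨emb (a * b⁻¹, 1), ?_, b, hbN, ?_⟩
      · rw [hSS]
        exact ⟨a * b⁻¹, by rw [h5.1]; exact ha', 1, hQ1, Or.inl rfl⟩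
      · rw [sc2_emb_mul, inv_mul_cancel_right, one_mul]
  -- `x = g tt g⁻¹`
  have hx : g * tt * g⁻¹ ∈ (SS : Subgroup (Sp4 F)) :=
    (Subgroup.mem_normalizer_iff.mp hg _).mp httSS
  have hginv : g⁻¹ ∈ Subgroup.normalizer ((SS : Subgroup (Sp4 F)) : Set (Sp4 F)) :=
    Subgroup.inv_mem _ hg
  have hxc : ∀ s ∈ (SS : Subgroup (Sp4 F)),
      (g * tt * g⁻¹) * s * (g * tt * g⁻¹)⁻¹ * s⁻¹ = 1 ∨
      (g * tt * g⁻¹) * s * (g * tt * g⁻¹)⁻¹ * s⁻¹ = zc := by
    intro s hs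
    have hs' : g⁻¹ * s * g ∈ (SS : Subgroup (Sp4 F)) := by
      have := (Subgroup.mem_normalizer_iff.mp hginv _).mp hs
      rwa [inv_inv] at this
    have e : (g * tt * g⁻¹) * s * (g * tt * g⁻¹)⁻¹ * s⁻¹ =
        g * (tt * (g⁻¹ * s * g) * tt⁻¹ * (g⁻¹ * s * g)⁻¹) * g⁻¹ := by group
    rw [e]
    rcases htt_comm _ hs' with h | h
    · left; rw [h]; group
    · right; rw [h, ← sc1_zc_comm, mul_assoc, mul_inv_cancel, mul_one]
  have htt1 : (tt : Sp4 F) ≠ 1 := by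
    intro h
    have : (emb (-1, 1) : Sp4 F) = emb (1, 1) := by
      rw [show (emb (-1, 1) : Sp4 F) = tt from rfl, h]
      exact (map_one _).symm
    have := hinj this
    rw [Prod.mk.injEq] at this
    exact nss_one_ne_neg_one h2 this.1.symm
  have httz : (tt : Sp4 F) ≠ zc := by
    intro h
    have := hinj (show (emb (-1, 1) : Sp4 F) = emb (-1, -1) from h)
    rw [Prod.mk.injEq] at this
    exact nss_one_ne_neg_one h2 this.2
  rcases hcen _ hx hxc with h | h | h | h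
  · exfalso
    apply htt1
    have : tt = g⁻¹ * (g * tt * g⁻¹) * g := by group
    rw [this, h]; group
  · exfalso
    apply httz
    have : tt = g⁻¹ * (g * tt * g⁻¹) * g := by group
    rw [this, h, ← sc1_zc_comm, mul_assoc, inv_mul_cancel, mul_one]
  · -- `g` centralizes `tt`
    have hc : g * tt = tt * g := by
      have : g * tt = (g * tt * g⁻¹) * g := by group
      rw [this, h]
    obtain ⟨⟨a, b⟩, rfl⟩ := hctt1 g hc
    exact key a b hg
  · obtain ⟨⟨a, b⟩, rfl⟩ := hctt2 g h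
    have hab : (emb (a, b) : Sp4 F) ∈
        Subgroup.normalizer ((SS : Subgroup (Sp4 F)) : Set (Sp4 F)) := by
      have := Subgroup.mul_mem _ hg (Subgroup.inv_mem _
        (Subgroup.le_normalizer hswSS : (sw : Sp4 F) ∈ Subgroup.normalizer ((SS : Subgroup (Sp4 F)) : Set (Sp4 F))))
      rwa [mul_assoc, mul_inv_cancel, mul_one] at this
    obtain ⟨s, hs, c, hc, hsc⟩ := key a b hab
    refine ⟨s * sw, Subgroup.mul_mem _ hs hswSS, c, hc, ?_⟩
    rw [hsc, mul_assoc, mul_assoc, hsw']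

end Cfsg.Agent.Helper79.Sp4
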