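import Mathlib
import Cfsg.Prelude.Def_OddOrderLocal
import Cfsg.Agent.Lib.Helper98.TIHDefs
import Cfsg.Agent.Lib.Helper98.BrownDefs

/-!
# TIH (P8a) `almostCyc_of_fpfLike` (helper79, for helper98's S4118 server)
-/

set_option autoImplicit false

namespace Cfsg.Agent.Helper79.TIH

open Cfsg.Agent.Helper98.TIH

universe u

/-- a group isomorphic to a generalized quaternion group has a cyclic subgroup of index `2` -/
theorem p8a_quaternion {P : Type u} [Group P] (k : ℕ) (e : P ≃* QuaternionGroup (2 ^ k)) :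
    ∃ g : P, (Subgroup.zpowers g).index = 2 := by
  have hfin : Finite P := Finite.of_equiv _ e.symm.toEquiv
  refine ⟨e.symm (QuaternionGroup.a 1), ?_⟩
  have hn : NeZero (2 ^ k) := ⟨by positivity⟩
  have hcard : Nat.card P = 4 * 2 ^ k := by
    rw [Nat.card_congr e.toEquiv, Nat.card_eq_fintype_card, QuaternionGroup.card]
  have hord : orderOf (e.symm (QuaternionGroup.a 1)) = 2 * 2 ^ k := by
    rw [MulEquiv.orderOf_eq, QuaternionGroup.orderOf_a_one]
  have hmul := Subgroup.card_mul_index (Subgroup.zpowers (e.symm (QuaternionGroup.a 1)))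
  rw [Nat.card_zpowers, hord, hcard] at hmul
  have hpos : 0 < 2 * 2 ^ k := by positivity
  have : 2 * 2 ^ k * (Subgroup.zpowers (e.symm (QuaternionGroup.a 1))).index = 2 * 2 ^ k * 2 := by
    rw [hmul]; ring
  exact Nat.eq_of_mul_eq_mul_left hpos this

theorem almostCyc_of_fpfLike {H : Type u} [Group H] [Finite H]
    (hF : Cfsg.Agent.Helper98.Brown.FpfLike H) : AlmostCyc H := by
  intro p hp P
  have hcyc_case : IsCyclic (P : Subgroup H) →
      ∃ C : Subgroup H, C ≤ (P : Subgroup H) ∧ IsCyclic C ∧ C.relIndex (P : Subgroup H) ≤ 2 := by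
    intro hc
    refine ⟨P, le_refl _, hc, ?_⟩
    rw [Subgroup.relIndex_self]
    norm_num
  rcases eq_or_ne p 2 with rfl | hp2
  · rcases hF.two (P : Subgroup H) P.isPGroup' with hc | ⟨k, -, ⟨e⟩⟩
    · exact hcyc_case hc
    · obtain ⟨g, hg⟩ := p8a_quaternion k e
      refine ⟨(Subgroup.zpowers g).map (P : Subgroup H).subtype, Subgroup.map_subtype_le _, ?_, ?_⟩
      · have hsurj : Function.Surjective
            (((P : Subgroup H).subtype).subgroupMap (Subgroup.zpowers g)) :=
          ((P : Subgroup H).subtype).subgroupMap_surjective _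
        exact isCyclic_of_surjective _ hsurj
      · rw [Subgroup.relIndex, Subgroup.subgroupOf, Subgroup.comap_map_eq_self_of_injective
          (Subgroup.subtype_injective _), hg]
  · exact hcyc_case (hF.odd p hp2 (P : Subgroup H) P.isPGroup')

end Cfsg.Agent.Helper79.TIH
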