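import Mathlib
import Cfsg.Prelude.Def_OddOrderLocal
import Cfsg.Agent.Lib.Helper98.TIHDefs

/-!
# TIH (P8e) `mulAut_solvable_of_card_four` (helper79, for helper98's S4118 server)

`MulAut A` embeds in the permutations of the three non-identity elements of `A`, and `Perm (Fin 3)` is solvable
(sign homomorphism, kernel of order `3`).
-/

set_option autoImplicit false

namespace Cfsg.Agent.Helper79.TIH

open Cfsg.Agent.Helper98.TIH

universe u

/-- `Perm (Fin 3)` is solvable -/
theorem p8e_perm_fin_three_solvable : Group.IsSolvable (Equiv.Perm (Fin 3)) := by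
  have hcard : Nat.card (alternatingGroup (Fin 3)) = 3 := by
    have h := two_mul_nat_card_alternatingGroup (α := Fin 3)
    rw [Nat.card_perm] at h
    have h6 : Nat.factorial (Nat.card (Fin 3)) = 6 := by
      rw [Nat.card_eq_fintype_card, Fintype.card_fin]; rfl
    omega
  have : Fact (Nat.Prime 3) := ⟨Nat.prime_three⟩
  have hcyc : IsCyclic (alternatingGroup (Fin 3)) := isCyclic_of_prime_card hcard
  let _ : CommGroup (alternatingGroup (Fin 3)) := IsCyclic.commGroup
  exact Group.isSolvable_of_ker_le_range (alternatingGroup (Fin 3)).subtype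
    (Equiv.Perm.sign (α := Fin 3)) (by rw [Subgroup.range_subtype]; exact le_of_eq rfl)

/-- the action of `MulAut A` on the non-identity elements -/
def p8eHom (A : Type u) [Group A] : MulAut A →* Equiv.Perm {a : A // a ≠ 1} where
  toFun α := (α.toEquiv).subtypeEquiv (fun a => by simp)
  map_one' := by ext a; rfl
  map_mul' α β := by ext a; rfl

theorem p8eHom_injective (A : Type u) [Group A] : Function.Injective (p8eHom A) := by
  intro α β h
  ext a
  by_cases ha : a = 1
  · rw [ha, map_one, map_one]
  · have := congrArg (fun f => ((f ⟨a, ha⟩ : {a : A // a ≠ 1}) : A)) h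
    exact this

theorem mulAut_solvable_of_card_four {A : Type u} [Group A] [Finite A] (h : Nat.card A = 4) :
    Group.IsSolvable (MulAut A) := by
  classical
  have h3 : Nat.card {a : A // a ≠ 1} = 3 := by
    have := Fintype.ofFinite A
    rw [Nat.card_eq_fintype_card] at h ⊢
    rw [Fintype.card_subtype_compl, Fintype.card_subtype_eq, h]
  let e : {a : A // a ≠ 1} ≃ Fin 3 := Finite.equivFinOfCardEq h3
  have hS : Group.IsSolvable (Equiv.Perm {a : A // a ≠ 1}) := by
    have := p8e_perm_fin_three_solvable
    exact Group.isSolvable_of_isSolvable_injective (f := (e.permCongrHom).toMonoidHom)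
      (e.permCongrHom).injective
  exact Group.isSolvable_of_isSolvable_injective (p8eHom_injective A)

end Cfsg.Agent.Helper79.TIH
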