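import Mathlib
import Cfsg.Agent.Lib.Helper93.U20

/-!
# U2 server (helper93, S2335), piece B3: `det_one_add_of_sq_zero`
-/

set_option autoImplicit false

namespace Cfsg.Agent.Helper79.U2

open Matrix Cfsg.Agent.Helper13 Cfsg.Agent.Helper93.U2

variable {F : Type*} [Field F] [Fintype F] {q : ℕ} (hF : Fintype.card F = q ^ 2)

/-- piece B3 -/
theorem det_one_add_of_sq_zero {n : ℕ} (N : Matrix (Fin n) (Fin n) F) (h : N * N = 0) :
    (1 + N).det = 1 := by
  have hnil : IsNilpotent (-N) := ⟨2, by rw [pow_two, neg_mul_neg, h]⟩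
  have h1 : IsNilpotent ((-N).charpoly - Polynomial.X ^ (Fintype.card (Fin n))) :=
    Matrix.isNilpotent_charpoly_sub_pow_of_isNilpotent hnil
  have h2 : (-N).charpoly = Polynomial.X ^ (Fintype.card (Fin n)) :=
    sub_eq_zero.1 (IsNilpotent.eq_zero h1)
  have h3 := Matrix.eval_charpoly (-N) (1 : F)
  rw [h2, Polynomial.eval_pow, Polynomial.eval_X, one_pow, map_one, sub_neg_eq_add] at h3
  exact h3.symm

end Cfsg.Agent.Helper79.U2
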