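import Mathlib
import Cfsg.Agent.Lib.Helper93.U20

/-!
# U2 server (helper93, S2335), piece D2: `exists_addChar`
-/

set_option autoImplicit false

namespace Cfsg.Agent.Helper79.U2

open Matrix Cfsg.Agent.Helper13 Cfsg.Agent.Helper93.U2

/-- piece D2 -/
theorem exists_addChar (F : Type*) [Field F] [Fintype F] : ∃ ψ : AddChar F ℂ, ψ 1 ≠ 1 := by
  have hp := AddChar.FiniteField.primitiveChar_to_Complex_isPrimitive F
  have h1 : AddChar.mulShift (AddChar.FiniteField.primitiveChar_to_Complex F) 1 ≠ 1 :=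
    hp one_ne_zero
  obtain ⟨y, hy⟩ := AddChar.ne_one_iff.1 h1
  rw [AddChar.mulShift_apply, one_mul] at hy
  refine ⟨AddChar.mulShift (AddChar.FiniteField.primitiveChar_to_Complex F) y, ?_⟩
  rw [AddChar.mulShift_apply, mul_one]
  exact hy

end Cfsg.Agent.Helper79.U2
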