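import Mathlib
import Cfsg.Agent.Lib.Helper73.W44Defs

/-!
# W44 (SR): a weight fixed by `Q` with `⁅K, Q⁆ = K` consists of `K`-fixed vectors
-/

set_option autoImplicit false
set_option linter.style.haveILetI false

namespace Cfsg.Agent.Helper79.W44

open Cfsg.Agent.Helper73.W44
open scoped commutatorElement

section weights
variable {k : Type*} [Field k] {G : Type*} [Group G] {V : Type*} [AddCommGroup V] [Module k V]

/-- **(SR)** a nonzero weight space whose weight is fixed by `Q`, when `⁅K, Q⁆ = K`, consists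
of `K`-fixed vectors; so it cannot exist when `K` has no nonzero fixed vector. -/
theorem exists_smul_ne_of_wt_ne_bot (ρ : G →* Module.End k V) (K Q : Subgroup G) [K.Normal]
    (hcomm : ⁅K, Q⁆ = K) (hCK : fixS ρ K = ⊥) (χ : Wt K k) (hχ : wt ρ K χ ≠ ⊥) :
    ∃ y ∈ Q, y • χ ≠ χ := by
  by_contra hcon
  push Not at hcon
  obtain ⟨v, hvW, hv0⟩ := (Submodule.ne_bot_iff _).mp hχ
  rw [mem_wt] at hvW
  have hmul : ∀ a c : G, ρ (a * c) v = ρ a (ρ c v) := by
    intro a c
    rw [map_mul]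
    rfl
  -- the stabiliser of `v`
  let St : Subgroup G :=
    { carrier := {g | ρ g v = v}
      mul_mem' := by
        intro a c ha hc
        show ρ (a * c) v = v
        rw [hmul, (show ρ c v = v from hc), (show ρ a v = v from ha)]
      one_mem' := by
        show ρ 1 v = v
        rw [map_one]
        rfl
      inv_mem' := by
        intro a ha
        show ρ a⁻¹ v = v
        have h1 : ρ a⁻¹ (ρ a v) = v := by
          rw [← hmul, inv_mul_cancel, map_one]
          rfl
        rwa [(show ρ a v = v from ha)] at h1 }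
  have hχinv : ∀ n : G, ∀ hn : n ∈ K, χ ⟨n, hn⟩ * χ ⟨n⁻¹, K.inv_mem hn⟩ = 1 := by
    intro n hn
    have h1 : ρ n (ρ n⁻¹ v) = v := by
      rw [← hmul, mul_inv_cancel, map_one]
      rfl
    have h2 := hvW ⟨n⁻¹, K.inv_mem hn⟩
    have h3 := hvW ⟨n, hn⟩
    simp only at h2 h3
    rw [h2, map_smul, h3, smul_smul] at h1
    by_contra hne
    apply hv0
    have h4 : (χ ⟨n⁻¹, K.inv_mem hn⟩ * χ ⟨n, hn⟩ - 1) • v = 0 := by
      rw [sub_smul, one_smul, h1, sub_self]
    rcases smul_eq_zero.mp h4 with h5 | h5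
    · exfalso
      apply hne
      rw [mul_comm]
      exact sub_eq_zero.mp h5
    · exact h5
  have hKSt : K ≤ St := by
    rw [← hcomm, Subgroup.commutator_le]
    intro n hn y hy
    show ρ ⁅n, y⁆ v = v
    have hyn : y * n⁻¹ * y⁻¹ ∈ K := ‹K.Normal›.conj_mem _ (K.inv_mem hn) y
    have h1 : ⁅n, y⁆ = n * (y * n⁻¹ * y⁻¹) := by
      rw [commutatorElement_def]
      group
    have h2 : χ ⟨y * n⁻¹ * y⁻¹, hyn⟩ = χ ⟨n⁻¹, K.inv_mem hn⟩ := by
      have h3 := congrFun (hcon y⁻¹ (Q.inv_mem hy)) ⟨n⁻¹, K.inv_mem hn⟩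
      rw [Wt.smul_apply] at h3
      rw [← h3]
      congr 1
      apply Subtype.ext
      simp [MulAut.conjNormal_apply]
    have h4 := hvW ⟨y * n⁻¹ * y⁻¹, hyn⟩
    have h5 := hvW ⟨n, hn⟩
    simp only at h4 h5
    rw [h1, hmul, h4, map_smul, h5, smul_smul, h2, mul_comm, hχinv n hn, one_smul]
  have hvfix : v ∈ fixS ρ K := by
    intro s hs
    exact hKSt hs
  rw [hCK] at hvfix
  exact hv0 ((Submodule.mem_bot k).mp hvfix)

end weights

end Cfsg.Agent.Helper79.W44
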